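import Cfsg.Agent.Classical.SympElem.PrimeOrder
import Cfsg.Agent.Classical.QuadTypes
import Cfsg.Agent.Classical.QuadBasis

/-!
# Invariant subspaces of an isometry of a quadratic form
-/

set_option autoImplicit false

namespace Cfsg.Agent.Classical.OrthElem

open Module QuadraticMap
open Cfsg.Agent.Classical.SympElem (Inv inv_iff inv_ker inv_range fx mv inv_fx inv_mv fx_apply mem_fx
  exists_compl lift_le finrank_lift inv_lift sum_pow_apply_fixed inv_bot inv_top)

universe u v

variable {F : Type u} [Field F] {V : Type v} [AddCommGroup V] [Module F V]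

/-- A totally singular subspace. -/
def TS (Q : QuadraticForm F V) (W : Submodule F V) : Prop := ∀ w ∈ W, Q w = 0

/-- The polar form is non-degenerate on the subspace. -/
def NdOn (Q : QuadraticForm F V) (W : Submodule F V) : Prop :=
  ∀ x ∈ W, x ≠ 0 → ∃ y ∈ W, polar Q x y ≠ 0

/-- An isometry of a non-degenerate quadratic space. -/
structure QGood (Q : QuadraticForm F V) (a : Module.End F V) : Prop where
  nondeg : (polarBilin Q).Nondegenerate
  pres : ∀ x, Q (a x) = Q x

/-- The orthogonal of a subspace. -/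
def orth (Q : QuadraticForm F V) (U : Submodule F V) : Submodule F V :=
  LinearMap.BilinForm.orthogonal (polarBilin Q) U

/-- The form on a subspace. -/
def qres (Q : QuadraticForm F V) (P : Submodule F V) : QuadraticForm F P := Q.comp P.subtype

variable {Q : QuadraticForm F V} {a : Module.End F V}

theorem qres_apply (P : Submodule F V) (x : P) : qres Q P x = Q (x : V) := rfl

theorem polar_qres (P : Submodule F V) (x y : P) : polar (qres Q P) x y = polar Q (x : V) (y : V) := rfl

theorem mem_orth {U : Submodule F V} {x : V} : x ∈ orth Q U ↔ ∀ w ∈ U, polar Q x w = 0 := by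
  rw [orth, LinearMap.BilinForm.mem_orthogonal_iff]
  exact ⟨fun h w hw => by rw [polar_comm]; exact h w hw, fun h w hw => by
    show polar Q w x = 0
    rw [polar_comm]; exact h w hw⟩

theorem ndon_top (hQ : (polarBilin Q).Nondegenerate) : NdOn Q ⊤ := fun x _ h0 => by
  by_contra hc
  push Not at hc
  exact h0 (Quad.eq_zero_of_polar hQ fun y => hc y Submodule.mem_top)

theorem ndon_bot : NdOn Q ⊥ := fun _ hx h0 => absurd ((Submodule.mem_bot F).1 hx) h0

theorem nondeg_qres {W : Submodule F V} (hW : NdOn Q W) : (polarBilin (qres Q W)).Nondegenerate :=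
  Quad.nondeg_of fun x hx => Subtype.ext <| by
    by_contra h0
    obtain ⟨y, hy, hne⟩ := hW x x.2 h0
    exact hne (hx ⟨y, hy⟩)

theorem polar_zero_of_ts {W : Submodule F V} (hW : TS Q W) {x y : V} (hx : x ∈ W) (hy : y ∈ W) :
    polar Q x y = 0 := by
  rw [polar, hW _ (W.add_mem hx hy), hW _ hx, hW _ hy]
  ring

theorem ts_bot : TS Q ⊥ := fun w hw => by rw [(Submodule.mem_bot F).1 hw, QuadraticMap.map_zero]

theorem ts_mono {U W : Submodule F V} (h : U ≤ W) (hW : TS Q W) : TS Q U := fun w hw => hW w (h hw)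

theorem ts_sup {U W : Submodule F V} (hU : TS Q U) (hW : TS Q W) (h : U ≤ orth Q W) : TS Q (U ⊔ W) := by
  intro z hz
  obtain ⟨x, hx, y, hy, rfl⟩ := Submodule.mem_sup.1 hz
  rw [Quad.map_add', hU x hx, hW y hy, mem_orth.1 (h hx) y hy]
  ring

theorem ts_span_singleton {x : V} (h : Q x = 0) : TS Q (Submodule.span F {x}) := by
  intro w hw
  obtain ⟨c, rfl⟩ := Submodule.mem_span_singleton.1 hw
  rw [Quad.map_smul', h, mul_zero]

theorem polar_pres (hG : QGood Q a) (x y : V) : polar Q (a x) (a y) = polar Q x y := by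
  simp only [polar, ← map_add, hG.pres]

theorem injective_of_good (hG : QGood Q a) : Function.Injective a := by
  intro x y h
  refine sub_eq_zero.1 (Quad.eq_zero_of_polar hG.nondeg fun z => ?_)
  rw [← polar_pres hG, map_sub, h, sub_self, polar_zero_left]

theorem orth_le {U W : Submodule F V} (h : U ≤ orth Q W) : W ≤ orth Q U := fun x hx =>
  mem_orth.2 fun y hy => by rw [polar_comm]; exact mem_orth.1 (h hy) x hx

variable [FiniteDimensional F V]

theorem finrank_orth (hQ : (polarBilin Q).Nondegenerate) (W : Submodule F V) :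
    finrank F (orth Q W) = finrank F V - finrank F W :=
  LinearMap.BilinForm.finrank_orthogonal hQ W

theorem orth_orth (hQ : (polarBilin Q).Nondegenerate) (W : Submodule F V) : orth Q (orth Q W) = W :=
  LinearMap.BilinForm.orthogonal_orthogonal hQ (fun x y h => by
    show polar Q y x = 0
    rw [polar_comm]; exact h) W

theorem inv_orth (hG : QGood Q a) {W : Submodule F V} (hW : Inv a W) : Inv a (orth Q W) := by
  intro x hx
  rw [mem_orth] at hx ⊢
  intro w hw
  have hinj : Function.Injective (a.restrict hW) := fun u v h =>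
    Subtype.ext (injective_of_good hG (congrArg Subtype.val h))
  obtain ⟨w', hw'⟩ := LinearMap.injective_iff_surjective.1 hinj ⟨w, hw⟩
  rw [show w = a w' from (congrArg Subtype.val hw').symm, polar_pres hG]
  exact hx _ w'.2

omit [FiniteDimensional F V] in
theorem disjoint_orth {W : Submodule F V} (hN : NdOn Q W) : Disjoint W (orth Q W) := by
  rw [Submodule.disjoint_def]
  intro x hx hx'
  by_contra h0
  obtain ⟨z, hz, hne⟩ := hN x hx h0
  exact hne (mem_orth.1 hx' z hz)

theorem isCompl_orth (hQ : (polarBilin Q).Nondegenerate) {W : Submodule F V} (hN : NdOn Q W) :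
    IsCompl W (orth Q W) := by
  have hd := disjoint_orth hN
  refine ⟨hd, ?_⟩
  rw [codisjoint_iff]
  refine Submodule.eq_top_of_finrank_eq ?_
  have h1 := Submodule.finrank_sup_add_finrank_inf_eq W (orth Q W)
  rw [hd.eq_bot, finrank_bot, finrank_orth hQ] at h1
  have := W.finrank_le
  omega

theorem ndon_orth (hQ : (polarBilin Q).Nondegenerate) {W : Submodule F V} (hN : NdOn Q W) :
    NdOn Q (orth Q W) := by
  intro x hx h0
  by_contra hc
  push Not at hc
  refine h0 (Quad.eq_zero_of_polar hQ fun y => ?_)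
  obtain ⟨u, hu, v, hv, rfl⟩ := Submodule.mem_sup.1
    ((isCompl_orth hQ hN).sup_eq_top.symm ▸ Submodule.mem_top (x := y))
  rw [polar_add_right, mem_orth.1 hx u hu, hc v hv, add_zero]

omit [FiniteDimensional F V] in
theorem ndon_sup {U W : Submodule F V} (hU : NdOn Q U) (hW : NdOn Q W) (h : U ≤ orth Q W) :
    NdOn Q (U ⊔ W) := by
  have horth : ∀ x ∈ U, ∀ y ∈ W, polar Q x y = 0 := fun x hx y hy => mem_orth.1 (h hx) y hy
  intro z hz h0
  obtain ⟨x, hx, y, hy, rfl⟩ := Submodule.mem_sup.1 hz
  by_cases hx0 : x = 0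
  · subst hx0
    rw [zero_add] at h0
    obtain ⟨w, hw, hne⟩ := hW y hy h0
    exact ⟨w, Submodule.mem_sup_right hw, by rwa [zero_add]⟩
  · obtain ⟨w, hw, hne⟩ := hU x hx hx0
    refine ⟨w, Submodule.mem_sup_left hw, ?_⟩
    rwa [polar_add_left, polar_comm Q y w, horth w hw y hy, add_zero]

theorem finrank_sup_orth {U W : Submodule F V} (hW : NdOn Q W) (h : U ≤ orth Q W) :
    finrank F (U ⊔ W : Submodule F V) = finrank F U + finrank F W := by
  have h1 := Submodule.finrank_sup_add_finrank_inf_eq U W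
  rwa [((disjoint_orth hW).symm.mono_left h).eq_bot, finrank_bot, add_zero] at h1

/-- The orthogonal of a non-degenerate subspace inside another one. -/
theorem ndon_diff (hQ : (polarBilin Q).Nondegenerate) {U S : Submodule F V} (hU : NdOn Q U) (hS : NdOn Q S)
    (hle : S ≤ U) :
    NdOn Q (U ⊓ orth Q S) ∧ (U ⊓ orth Q S) ⊔ S = U ∧
      finrank F (U ⊓ orth Q S : Submodule F V) + finrank F S = finrank F U := by
  have hsup : (U ⊓ orth Q S) ⊔ S = U := by
    rw [sup_comm, inf_comm U (orth Q S), ← sup_inf_assoc_of_le (orth Q S) hle,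
      (isCompl_orth hQ hS).sup_eq_top, top_inf_eq]
  refine ⟨fun x hx h0 => ?_, hsup, ?_⟩
  · obtain ⟨z, hz, hne⟩ := hU x hx.1 h0
    rw [← hsup] at hz
    obtain ⟨s, hs, t, ht, rfl⟩ := Submodule.mem_sup.1 hz
    exact ⟨s, hs, by rwa [polar_add_right, mem_orth.1 hx.2 t ht, add_zero] at hne⟩
  · conv_rhs => rw [← hsup]
    exact (finrank_sup_orth hS inf_le_right).symm

/-! ## Subspaces of a subspace -/

omit [FiniteDimensional F V] in
theorem ts_lift {P : Submodule F V} {W : Submodule F P} (hW : TS (qres Q P) W) : TS Q (W.map P.subtype) := by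
  rintro _ ⟨u, hu, rfl⟩
  exact hW u hu

omit [FiniteDimensional F V] in
theorem ndon_lift {P : Submodule F V} {W : Submodule F P} (hW : NdOn (qres Q P) W) :
    NdOn Q (W.map P.subtype) := by
  rintro _ ⟨w, hw, rfl⟩ h0
  obtain ⟨z, hz, hne⟩ := hW w hw (fun h => h0 (by rw [h, map_zero]))
  exact ⟨z, ⟨z, hz, rfl⟩, hne⟩

omit [FiniteDimensional F V] in
theorem ts_comap {P W : Submodule F V} (hW : TS Q W) : TS (qres Q P) (W.comap P.subtype) :=
  fun _ hw => hW _ hw

omit [FiniteDimensional F V] in
theorem good_restrict (hG : QGood Q a) {W : Submodule F V} (hW : Inv a W) (hN : NdOn Q W) :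
    QGood (qres Q W) (a.restrict hW) :=
  ⟨nondeg_qres hN, fun _ => hG.pres _⟩

/-- A complement of a totally singular subspace in its orthogonal. -/
theorem ts_complement (hQ : (polarBilin Q).Nondegenerate) {W C : Submodule F V} (hW : TS Q W)
    (hC : IsCompl W C) :
    NdOn Q (orth Q W ⊓ C) ∧ finrank F (orth Q W ⊓ C : Submodule F V) + 2 * finrank F W = finrank F V ∧
      Disjoint W (orth Q W ⊓ C) := by
  have hWle : W ≤ orth Q W := fun x hx => mem_orth.2 fun y hy => polar_zero_of_ts hW hx hy
  have hsup : W ⊔ (orth Q W ⊓ C) = orth Q W := by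
    rw [inf_comm (orth Q W) C, ← sup_inf_assoc_of_le C hWle, hC.sup_eq_top, top_inf_eq]
  have hdisj : Disjoint W (orth Q W ⊓ C) := hC.disjoint.mono_right inf_le_right
  refine ⟨fun x hx h0 => ?_, ?_, hdisj⟩
  · by_contra hcn
    push Not at hcn
    have : x ∈ orth Q (orth Q W) := by
      rw [mem_orth]
      intro y hy
      rw [← hsup] at hy
      obtain ⟨w, hw, t, ht, rfl⟩ := Submodule.mem_sup.1 hy
      rw [polar_add_right, mem_orth.1 hx.1 w hw, hcn t ht, add_zero]
    rw [orth_orth hQ] at this
    exact h0 (Submodule.disjoint_def.1 hdisj x this hx)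
  · have h1 := Submodule.finrank_sup_add_finrank_inf_eq W (orth Q W ⊓ C)
    rw [hsup, hdisj.eq_bot, finrank_bot, finrank_orth hQ] at h1
    have := W.finrank_le
    have h2 := Submodule.finrank_mono hWle
    rw [finrank_orth hQ] at h2
    omega

/-- Enlarging an invariant totally singular subspace inside the complement in its orthogonal. -/
theorem ts_extend {P W : Submodule F V} (hW : TS Q W) (hWa : Inv a W) (hP : Inv a P) (hle : P ≤ orth Q W)
    (hd : Disjoint W P) {W₁ : Submodule F P} (h1 : Inv (a.restrict hP) W₁) (h2 : TS (qres Q P) W₁) :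
    ∃ W' : Submodule F V, Inv a W' ∧ TS Q W' ∧ finrank F W' = finrank F W₁ + finrank F W := by
  refine ⟨W₁.map P.subtype ⊔ W, (inv_lift h1).sup hWa, ts_sup (ts_lift h2) hW ((lift_le W₁).trans hle), ?_⟩
  have h3 := Submodule.finrank_sup_add_finrank_inf_eq (W₁.map P.subtype) W
  rw [(hd.symm.mono_left (lift_le W₁)).eq_bot, finrank_bot, finrank_lift] at h3
  omega

/-! ## Isometries of order `r` -/

theorem fixed_decomp (hG : QGood Q a) {r : ℕ} (hr : (r : F) ≠ 0) (har : a ^ r = 1) :
    IsCompl (fx a) (mv a) ∧ orth Q (fx a) = mv a ∧ NdOn Q (fx a) ∧ NdOn Q (mv a) := by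
  have hd : Disjoint (fx a) (mv a) := by
    rw [Submodule.disjoint_def]
    rintro x hx ⟨y, rfl⟩
    have h1 := sum_pow_apply_fixed (fx_apply hx) r
    rw [← Module.End.mul_apply, geom_sum_mul, har, sub_self, LinearMap.zero_apply, eq_comm,
      smul_eq_zero] at h1
    exact h1.resolve_left hr
  have hle : mv a ≤ orth Q (fx a) := by
    rintro _ ⟨y, rfl⟩
    rw [mem_orth]
    intro w hw
    rw [LinearMap.sub_apply, Module.End.one_apply, polar_sub_left]
    nth_rw 1 [← fx_apply hw]
    rw [polar_pres hG, sub_self]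
  have hdim := LinearMap.finrank_range_add_finrank_ker (a - 1)
  have heq : orth Q (fx a) = mv a :=
    (Submodule.eq_of_le_of_finrank_le hle (by rw [finrank_orth hG.nondeg]; unfold fx mv; omega)).symm
  have hc : IsCompl (fx a) (mv a) := by
    refine ⟨hd, codisjoint_iff.2 (Submodule.eq_top_of_finrank_eq ?_)⟩
    have h1 := Submodule.finrank_sup_add_finrank_inf_eq (fx a) (mv a)
    rw [hd.eq_bot, finrank_bot] at h1
    unfold fx mv at h1 ⊢
    omega
  have hN : NdOn Q (fx a) := by
    intro x hx h0
    by_contra hcn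
    push Not at hcn
    have : x ∈ mv a := heq ▸ mem_orth.2 hcn
    exact h0 (Submodule.disjoint_def.1 hd x hx this)
  exact ⟨hc, heq, hN, heq ▸ ndon_orth hG.nondeg hN⟩

/-- An invariant subspace is the sum of its fixed and moved parts. -/
theorem split_inv (hG : QGood Q a) {r : ℕ} (hr : (r : F) ≠ 0) (har : a ^ r = 1) {W : Submodule F V}
    (hW : Inv a W) :
    W ⊓ fx a ⊔ W ⊓ mv a = W ∧
      finrank F (W ⊓ fx a : Submodule F V) + finrank F (W ⊓ mv a : Submodule F V) = finrank F W := by
  have hd : Disjoint (fx a) (mv a) := (fixed_decomp hG hr har).1.disjoint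
  have hle : W ⊓ fx a ⊔ W ⊓ mv a ≤ W := sup_le inf_le_left inf_le_left
  have h1 := Submodule.finrank_sup_add_finrank_inf_eq (W ⊓ fx a) (W ⊓ mv a)
  rw [(hd.mono inf_le_right inf_le_right).eq_bot, finrank_bot, add_zero] at h1
  have h2 := ((a - 1).domRestrict W).finrank_range_add_finrank_ker
  have h3 : finrank F (LinearMap.range ((a - 1).domRestrict W)) ≤ finrank F (W ⊓ mv a : Submodule F V) := by
    refine Submodule.finrank_mono ?_
    rintro _ ⟨w, rfl⟩
    refine ⟨?_, ⟨w, rfl⟩⟩
    show (a - 1) (w : V) ∈ W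
    rw [LinearMap.sub_apply, Module.End.one_apply]
    exact W.sub_mem (hW _ w.2) w.2
  have h4 : finrank F (LinearMap.ker ((a - 1).domRestrict W)) ≤ finrank F (W ⊓ fx a : Submodule F V) := by
    rw [← finrank_lift]
    refine Submodule.finrank_mono ?_
    rintro _ ⟨w, hw, rfl⟩
    exact ⟨w.2, hw⟩
  have heq : W ⊓ fx a ⊔ W ⊓ mv a = W := Submodule.eq_of_le_of_finrank_le hle (by omega)
  rw [heq] at h1
  exact ⟨heq, h1.symm⟩

omit [FiniteDimensional F V] in
/-- On an invariant subspace without fixed vectors polar-isotropy implies singularity. -/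
theorem ts_of_polar (hG : QGood Q a) {W : Submodule F V} [FiniteDimensional F W] (hW : Inv a W)
    (hpol : ∀ x ∈ W, ∀ y ∈ W, polar Q x y = 0) (hfix : ∀ x ∈ W, a x = x → x = 0) : TS Q W := by
  intro w hw
  by_cases h2 : (2 : F) = 0
  · set N : W →ₗ[F] W := a.restrict hW - 1 with hN
    have hinj : Function.Injective N := (injective_iff_map_eq_zero N).2 fun x hx =>
      Subtype.ext (hfix x x.2 (sub_eq_zero.1 (congrArg Subtype.val hx)))
    obtain ⟨u, hu⟩ := LinearMap.injective_iff_surjective.1 hinj ⟨w, hw⟩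
    have e : w = a (u : V) + -(u : V) := by
      rw [← sub_eq_add_neg]
      exact (congrArg Subtype.val hu).symm
    rw [e, Quad.map_add', QuadraticMap.map_neg, hG.pres, hpol _ (hW _ u.2) _ (W.neg_mem u.2), add_zero,
      ← two_mul, h2, zero_mul]
  · have := hpol w hw w hw
    rw [Quad.polar_self'] at this
    exact (mul_eq_zero.1 this).resolve_left h2

end Cfsg.Agent.Classical.OrthElem
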