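import Cfsg.Agent.Classical.OrthElem.Type
import Cfsg.Agent.Classical.Elusive.Count

/-!
# The number of totally singular subspaces of a given dimension
-/

set_option autoImplicit false

namespace Cfsg.Agent.Classical.OrthElem

open Module QuadraticMap
open Cfsg.Agent.Classical.SympElem (lift_le finrank_lift)
open Cfsg.Agent.Classical.Elusive (topProd)

universe u v

variable {F : Type u} [Field F] [Fintype F] {V : Type v} [AddCommGroup V] [Module F V] [FiniteDimensional F V]
  {Q : QuadraticForm F V}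

/-- Independent tuples spanning totally singular subspaces. -/
def TSFrames (Q : QuadraticForm F V) (k : ℕ) : Set (Fin k → V) :=
  {s | LinearIndependent F s ∧ TS Q (Submodule.span F (Set.range s))}

omit [Fintype F] [FiniteDimensional F V] in
theorem ts_frame_succ {k : ℕ} (s : Fin k → V) (v : V) :
    TS Q (Submodule.span F (Set.range (Fin.snoc s v : Fin (k + 1) → V))) ↔
      TS Q (Submodule.span F (Set.range s)) ∧ v ∈ orth Q (Submodule.span F (Set.range s)) ∧ Q v = 0 := by
  have e : Submodule.span F (Set.range (Fin.snoc s v : Fin (k + 1) → V)) =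
      Submodule.span F (Set.range s) ⊔ Submodule.span F {v} := by
    rw [← Submodule.span_union]
    congr 1
    ext x
    simp only [Set.mem_range, Set.mem_union, Set.mem_singleton_iff]
    constructor
    · rintro ⟨j, rfl⟩
      refine Fin.lastCases ?_ (fun j => ?_) j
      · exact Or.inr (Fin.snoc_last _ _)
      · exact Or.inl ⟨j, (Fin.snoc_castSucc (α := fun _ => V) v s j).symm⟩
    · rintro (⟨j, rfl⟩ | rfl)
      · exact ⟨j.castSucc, Fin.snoc_castSucc _ _ _⟩
      · exact ⟨Fin.last k, Fin.snoc_last _ _⟩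
  rw [e]
  constructor
  · intro h
    exact ⟨ts_mono le_sup_left h, mem_orth.2 fun w hw => polar_zero_of_ts h
      (Submodule.mem_sup_right (Submodule.mem_span_singleton_self v)) (Submodule.mem_sup_left hw),
      h v (Submodule.mem_sup_right (Submodule.mem_span_singleton_self v))⟩
  · rintro ⟨h1, h2, h3⟩
    exact ts_sup h1 (ts_span_singleton h3) (orth_le ((Submodule.span_singleton_le_iff_mem _ _).2 h2))

theorem card_next {W : Submodule F V} (hQ : (polarBilin Q).Nondegenerate) (hW : TS Q W) {P : Submodule F V}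
    (hP : P ≤ orth Q W) (hd : Disjoint W P) (hdim : finrank F P + 2 * finrank F W = finrank F V) :
    Nat.card {v : V // v ∈ orth Q W ∧ Q v = 0} = Fintype.card F ^ finrank F W * Quad.zcard (qres Q P) := by
  have hWle : W ≤ orth Q W := fun x hx => mem_orth.2 fun y hy => polar_zero_of_ts hW hx hy
  have hsup : W ⊔ P = orth Q W := by
    refine Submodule.eq_of_le_of_finrank_le (sup_le hWle hP) ?_
    have h1 := Submodule.finrank_sup_add_finrank_inf_eq W P
    rw [hd.eq_bot, finrank_bot] at h1
    rw [finrank_orth hQ]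
    omega
  have hQsum : ∀ (w : W) (y : P), Q ((w : V) + y) = Q (y : V) := fun w y => by
    rw [Quad.map_add', hW _ w.2, QuadraticMap.polar_comm, mem_orth.1 (hP y.2) _ w.2]
    ring
  let f : W × {y : P // qres Q P y = 0} → {v : V // v ∈ orth Q W ∧ Q v = 0} := fun x =>
    ⟨(x.1 : V) + (x.2.1 : V), hsup ▸ Submodule.add_mem_sup x.1.2 x.2.1.2, (hQsum _ _).trans x.2.2⟩
  have hf : Function.Bijective f := by
    constructor
    · rintro ⟨w, y⟩ ⟨w', y'⟩ e
      have e' : (w : V) + (y.1 : V) = w' + (y'.1 : V) := congrArg Subtype.val e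
      have h0 : (w : V) - w' = 0 := Submodule.disjoint_def.1 hd _ (W.sub_mem w.2 w'.2) (by
        rw [show (w : V) - w' = (y'.1 : V) - (y.1 : V) by rw [sub_eq_sub_iff_add_eq_add, e', add_comm]]
        exact P.sub_mem y'.1.2 y.1.2)
      have hw : w = w' := Subtype.ext (sub_eq_zero.1 h0)
      subst hw
      exact Prod.ext rfl (Subtype.ext (Subtype.ext (add_left_cancel e')))
    · rintro ⟨v, hv, hQv⟩
      rw [← hsup] at hv
      obtain ⟨w, hw, y, hy, rfl⟩ := Submodule.mem_sup.1 hv
      exact ⟨(⟨w, hw⟩, ⟨⟨y, hy⟩, (hQsum ⟨w, hw⟩ ⟨y, hy⟩).symm.trans hQv⟩), rfl⟩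
  rw [← Nat.card_eq_of_bijective f hf, Nat.card_prod, Module.natCard_eq_pow_finrank (K := F),
    Nat.card_eq_fintype_card]
  rfl

theorem card_frames (hQ : (polarBilin Q).Nondegenerate) (Z : ℕ → ℕ) (m : ℕ)
    (hZ : ∀ j < m, ∀ W P : Submodule F V, TS Q W → finrank F W = j → NdOn Q P → P ≤ orth Q W → Disjoint W P →
      finrank F P + 2 * j = finrank F V → Quad.zcard (qres Q P) - 1 = Z j) :
    ∀ k ≤ m, Nat.card (TSFrames Q k) = ∏ j ∈ Finset.range k, Fintype.card F ^ j * Z j := by
  classical
  haveI : Finite V := Module.finite_of_finite F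
  intro k
  induction k with
  | zero =>
    intro _
    haveI : Nonempty (TSFrames Q 0) := ⟨⟨Fin.elim0, linearIndependent_empty_type, by
      rw [Set.range_eq_empty, Submodule.span_empty]; exact ts_bot⟩⟩
    haveI : Subsingleton (TSFrames Q 0) := ⟨fun a b => Subtype.ext (Subsingleton.elim _ _)⟩
    rw [Finset.prod_range_zero, Nat.card_unique]
  | succ k ih =>
    intro hk
    haveI : Fintype (TSFrames Q k) := Fintype.ofFinite _
    let T : TSFrames Q k → Set V := fun s =>
      {v | v ∈ orth Q (Submodule.span F (Set.range s.1)) ∧ Q v = 0} \ (Submodule.span F (Set.range s.1) : Set V)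
    let f : (Σ s : TSFrames Q k, T s) → TSFrames Q (k + 1) := fun x =>
      ⟨Fin.snoc x.1.1 x.2.1, linearIndependent_finSnoc.2 ⟨x.1.2.1, x.2.2.2⟩,
        (ts_frame_succ _ _).2 ⟨x.1.2.2, x.2.2.1.1, x.2.2.1.2⟩⟩
    have hf : Function.Bijective f := by
      constructor
      · rintro ⟨s, v⟩ ⟨s', v'⟩ e
        have e' : Fin.snoc (α := fun _ => V) s.1 v.1 = Fin.snoc s'.1 v'.1 := congrArg Subtype.val e
        obtain rfl : s = s' := Subtype.ext (funext fun i => by simpa using congrFun e' i.castSucc)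
        exact Sigma.ext rfl (heq_of_eq (Subtype.ext (by simpa using congrFun e' (Fin.last k))))
      · rintro ⟨s, hs, hts⟩
        have hs' : LinearIndependent F (Fin.snoc (Fin.init s) (s (Fin.last k)) : Fin (k + 1) → V) := by
          rwa [Fin.snoc_init_self]
        rw [← Fin.snoc_init_self s, ts_frame_succ] at hts
        obtain ⟨h1, h2⟩ := linearIndependent_finSnoc.1 hs'
        exact ⟨⟨⟨Fin.init s, h1, hts.1⟩, ⟨s (Fin.last k), ⟨hts.2.1, hts.2.2⟩, h2⟩⟩,
          Subtype.ext (Fin.snoc_init_self s)⟩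
    rw [← Nat.card_eq_of_bijective f hf, Nat.card_sigma,
      Finset.sum_const_nat (m := Fintype.card F ^ k * Z k) fun s _ => ?_,
      Finset.card_univ, ← Nat.card_eq_fintype_card, ih (by omega), Finset.prod_range_succ]
    set W := Submodule.span F (Set.range s.1) with hWdef
    have hWd : finrank F W = k := by rw [hWdef, finrank_span_eq_card s.2.1, Fintype.card_fin]
    obtain ⟨C, hC⟩ := Submodule.exists_isCompl W
    obtain ⟨hPN, hPd, hdisj⟩ := ts_complement hQ s.2.2 hC
    have hsub : (W : Set V) ⊆ {v | v ∈ orth Q W ∧ Q v = 0} := fun v hv =>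
      ⟨mem_orth.2 fun y hy => polar_zero_of_ts s.2.2 hv hy, s.2.2 v hv⟩
    show Nat.card ({v | v ∈ orth Q W ∧ Q v = 0} \ (W : Set V) : Set V) = _
    rw [Nat.card_coe_set_eq, Set.ncard_sdiff hsub, ← Nat.card_coe_set_eq, ← Nat.card_coe_set_eq]
    show Nat.card {v // v ∈ orth Q W ∧ Q v = 0} - Nat.card W = _
    rw [card_next hQ s.2.2 inf_le_left hdisj hPd, Module.natCard_eq_pow_finrank (K := F) (V := W),
      Nat.card_eq_fintype_card, hWd,
      ← hZ k (by omega) W (orth Q W ⊓ C) s.2.2 hWd hPN inf_le_left hdisj (by rw [← hWd]; exact hPd),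
      Nat.mul_sub, mul_one]

theorem card_ts_mul (hQ : (polarBilin Q).Nondegenerate) (Z : ℕ → ℕ) (m : ℕ)
    (hZ : ∀ j < m, ∀ W P : Submodule F V, TS Q W → finrank F W = j → NdOn Q P → P ≤ orth Q W → Disjoint W P →
      finrank F P + 2 * j = finrank F V → Quad.zcard (qres Q P) - 1 = Z j) :
    Nat.card {W : Submodule F V // finrank F W = m ∧ ∀ w ∈ W, Q w = 0} * topProd (Fintype.card F) m m =
      ∏ j ∈ Finset.range m, Z j := by
  classical
  haveI : Finite V := Module.finite_of_finite F
  haveI : Fintype {W : Submodule F V // finrank F W = m ∧ ∀ w ∈ W, Q w = 0} := Fintype.ofFinite _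
  have hspan : ∀ (W : Submodule F V) (t : Fin m → W), LinearIndependent F t → finrank F W = m →
      Submodule.span F (Set.range fun i => (t i : V)) = W := by
    intro W t ht hW
    refine Submodule.eq_of_le_of_finrank_le (Submodule.span_le.2 ?_) ?_
    · rintro _ ⟨i, rfl⟩
      exact (t i).2
    · have hli : LinearIndependent F fun i => (t i : V) := ht.map' W.subtype (Submodule.ker_subtype _)
      rw [finrank_span_eq_card hli, Fintype.card_fin, hW]
  let f : (Σ W : {W : Submodule F V // finrank F W = m ∧ ∀ w ∈ W, Q w = 0},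
      {t : Fin m → W.1 // LinearIndependent F t}) → TSFrames Q m := fun x =>
    ⟨fun i => (x.2.1 i : V), x.2.2.map' x.1.1.subtype (Submodule.ker_subtype _), by
      rw [hspan _ _ x.2.2 x.1.2.1]; exact x.1.2.2⟩
  have hbij : Function.Bijective f := by
    refine ⟨fun x y h => ?_, fun s => ?_⟩
    · obtain ⟨W, t⟩ := x
      obtain ⟨W', t'⟩ := y
      have h' : (fun i => (t.1 i : V)) = fun i => (t'.1 i : V) := congrArg Subtype.val h
      have hW : W = W' := Subtype.ext (by rw [← hspan _ _ t.2 W.2.1, ← hspan _ _ t'.2 W'.2.1, h'])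
      subst hW
      exact Sigma.ext rfl (heq_of_eq (Subtype.ext (funext fun i => Subtype.ext (congrFun h' i))))
    · refine ⟨⟨⟨Submodule.span F (Set.range s.1),
        by rw [finrank_span_eq_card s.2.1, Fintype.card_fin], s.2.2⟩,
        ⟨fun i => ⟨s.1 i, Submodule.subset_span ⟨i, rfl⟩⟩, ?_⟩⟩, rfl⟩
      exact LinearIndependent.of_comp (Submodule.subtype _) s.2.1
  have h := Nat.card_congr (Equiv.ofBijective f hbij)
  rw [card_frames hQ Z m hZ m le_rfl, Nat.card_sigma,
    Finset.sum_congr rfl fun W _ => ?_, Finset.sum_const, Finset.card_univ, ← Nat.card_eq_fintype_card,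
    smul_eq_mul] at h
  pick_goal 2
  · exact (card_linearIndependent (K := F) (V := W.1) W.2.1.ge).trans
      (by rw [W.2.1, Elusive.prod_pow_sub _ le_rfl])
  rw [Finset.prod_mul_distrib] at h
  refine Nat.eq_of_mul_eq_mul_left (Finset.prod_pos fun i _ => pow_pos Fintype.card_pos i :
    0 < ∏ i ∈ Finset.range m, Fintype.card F ^ i) ?_
  rw [← h]
  ring

omit [Fintype F] in
/-- The complement in the orthogonal of a totally singular subspace has the type of the whole space. -/
theorem plus_complement [Finite F] (hQ : (polarBilin Q).Nondegenerate) {W P : Submodule F V} (hW : TS Q W)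
    (hP : NdOn Q P) (hle : P ≤ orth Q W) (hd : finrank F P + 2 * finrank F W = finrank F V)
    (hev : Even (finrank F V)) : Plus Q P ↔ Plus Q ⊤ := by
  have hP' : Plus Q (orth Q P) := ⟨W, orth_le hle, hW, by rw [finrank_orth hQ]; omega⟩
  have heP : Even (finrank F P) := by rw [Nat.even_iff] at hev ⊢; omega
  have := plus_sup_iff hQ hP (ndon_orth hQ hP) (orth_le le_rfl) heP (by
    rw [finrank_orth hQ]; rw [Nat.even_iff] at hev ⊢; omega)
  rw [(isCompl_orth hQ hP).sup_eq_top] at this
  rw [this]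
  exact ⟨fun h => iff_of_true h hP', fun h => h.2 hP'⟩

variable {W : Type v} [AddCommGroup W] [Module F W] [FiniteDimensional F W] {R : QuadraticForm F W}

theorem zcard_plus_eq (hR : (polarBilin R).Nondegenerate) {k : ℕ} (hd : finrank F W = 2 * (k + 1))
    (hp : Plus R ⊤) :
    Quad.zcard R - 1 = (Fintype.card F ^ (k + 1) - 1) * (Fintype.card F ^ k + 1) := by
  set q := Fintype.card F with hq
  have hfin : finrank F (((Fin (k + 1) → F) × (Fin (k + 1) → F)) × (Fin 0 → F)) = 2 * (k + 1) := by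
    simp; ring
  have hiso := iso_of_plus (Quad.nondeg_hyp (Quad.nondeg_zeroForm (F := F)) (k + 1)) hR hfin hd
    (iff_of_true ⟨_, le_top, Quad.stdSing_singular _ _, by rw [Quad.finrank_stdSing, finrank_top, hfin]⟩ hp)
  obtain ⟨r, hr⟩ := Nat.exists_eq_add_of_le (Nat.one_le_pow (k + 1) q Fintype.card_pos)
  have h := Quad.zcard_plus (F := F) rfl k
  rw [hiso.zcard_eq, ← hq] at h
  have hzr : Quad.zcard R = r * (q ^ k + 1) + 1 := by
    refine Nat.add_right_cancel (m := q ^ k) ?_
    rw [h, show 2 * k + 1 = (k + 1) + k by omega, pow_add, hr]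
    ring
  rw [hr, Nat.add_sub_cancel_left, hzr, Nat.add_sub_cancel]

theorem zcard_minus_eq (hR : (polarBilin R).Nondegenerate) {k : ℕ} (hd : finrank F W = 2 * (k + 1))
    (hp : ¬ Plus R ⊤) :
    Quad.zcard R - 1 = (Fintype.card F ^ (k + 1) + 1) * (Fintype.card F ^ k - 1) := by
  set q := Fintype.card F with hq
  obtain ⟨ζ, hζ⟩ := Quad.exists_rootfree (F := F)
  have hab := Quad.rootfree_aniso hζ
  obtain ⟨g, hg⟩ : Quad.Iso (Quad.hyp (Quad.binForm 1 ζ) k) R := by
    rcases Quad.even_cases hR hd with ⟨g, hg⟩ | ⟨-, h⟩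
    · refine absurd ⟨(Quad.stdSing (Fin 0 → F) (k + 1)).map g.toLinearMap, le_top, ?_, ?_⟩ hp
      · rintro _ ⟨x, hx, rfl⟩
        rw [LinearEquiv.coe_coe, hg]
        exact Quad.stdSing_singular _ _ x hx
      · rw [LinearEquiv.finrank_map_eq, Quad.finrank_stdSing, finrank_top, hd]
    · exact h 1 ζ hab
  obtain ⟨r, hr⟩ := Nat.exists_eq_add_of_le (Nat.one_le_pow k q Fintype.card_pos)
  have h := Quad.zcard_minus hab (F := F) rfl k
  rw [Quad.Iso.zcard_eq ⟨g, hg⟩, ← hq] at h
  have hzr : Quad.zcard R = (q ^ (k + 1) + 1) * r + 1 := by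
    refine Nat.add_right_cancel (m := q ^ (k + 1)) ?_
    rw [h, show 2 * k + 1 = (k + 1) + k by omega, pow_add, hr]
    ring
  rw [hr, Nat.add_sub_cancel_left, hzr, Nat.add_sub_cancel]

theorem zcard_odd_eq (hR : (polarBilin R).Nondegenerate) {k : ℕ} (hd : finrank F W = 2 * k + 1) :
    Quad.zcard R - 1 = Fintype.card F ^ (2 * k) - 1 := by
  obtain ⟨c, hc, -, hiso⟩ := Quad.odd_case hR hd
  rw [← hiso.zcard_eq]
  congr 1
  have h0 : Quad.zcard (c • Quad.sqForm F) = 1 := by
    rw [Quad.zcard, Nat.card_eq_one_iff_unique]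
    exact ⟨⟨fun x y => Subtype.ext (by
      have hx := x.2
      have hy := y.2
      simp [Quad.sqForm, hc] at hx hy
      rw [hx, hy])⟩, ⟨⟨0, QuadraticMap.map_zero _⟩⟩⟩
  have h := Quad.zcard_hyp (c • Quad.sqForm F) k
  rw [Nat.card_eq_fintype_card (α := F), h0] at h
  refine Nat.eq_of_mul_eq_mul_left (Fintype.card_pos (α := F)) ?_
  refine Nat.add_right_cancel (m := Fintype.card F ^ k * Fintype.card F) ?_
  linear_combination h

end Cfsg.Agent.Classical.OrthElem
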