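import Cfsg.Agent.Classical.OrthElem.Std
import Cfsg.Agent.MatModule.LargeSylow

/-!
# Prime divisors of the numbers of totally singular subspaces
-/

set_option autoImplicit false

namespace Cfsg.Agent.Classical.OrthElem

open Module QuadraticMap Cfsg.Agent.MatModule

universe u

variable {F : Type u} [Field F] [Fintype F] {r : ℕ} [Fact r.Prime]

theorem not_dvd_card_sub_one (e : ℕ) (he : 1 ≤ e) (h : r ∣ Fintype.card F ^ e - 1) : ¬ r ∣ Fintype.card F := by
  intro hq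
  have h1 := Nat.dvd_sub (dvd_pow hq (show e ≠ 0 by omega)) h
  rw [Nat.sub_sub_self (Nat.one_le_pow _ _ Fintype.card_pos)] at h1
  exact (Fact.out : r.Prime).not_dvd_one h1

theorem not_dvd_card_add_one (e : ℕ) (he : 1 ≤ e) (h : r ∣ Fintype.card F ^ e + 1) : ¬ r ∣ Fintype.card F := by
  intro hq
  exact (Fact.out : r.Prime).not_dvd_one ((Nat.dvd_add_right (dvd_pow hq (show e ≠ 0 by omega))).1 h)

theorem order_of_dvd_add_one (hr2 : r ≠ 2) {e : ℕ} (h : r ∣ Fintype.card F ^ e + 1) :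
    orderOf (Fintype.card F : ZMod r) ∣ 2 * e ∧ ¬ orderOf (Fintype.card F : ZMod r) ∣ e := by
  constructor
  · rw [← LargeSylow.dvd_sub_iff Fintype.card_pos, Quad.sq_pow_sub_one]
    exact h.mul_right _
  · rw [← LargeSylow.dvd_sub_iff Fintype.card_pos]
    intro h1
    have h2 := Nat.dvd_sub h h1
    have := Nat.one_le_pow e _ (Fintype.card_pos (α := F))
    rw [show Fintype.card F ^ e + 1 - (Fintype.card F ^ e - 1) = 2 by omega] at h2
    exact hr2 ((Nat.prime_dvd_prime_iff_eq Fact.out Nat.prime_two).1 h2)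

theorem exists_of_dvd_ts_odd {d m : ℕ} (h2 : (2 : F) ≠ 0) (hmd : m ≤ d)
    (h : r ∣ Nat.card {W : Submodule F (Unit ⊕ (Fin d ⊕ Fin d) → F) //
      finrank F W = m ∧ ∀ w ∈ W, Cfsg.quadFormOdd d F w = 0}) :
    ¬ r ∣ Fintype.card F ∧ ∃ e, d - m < e ∧ e ≤ d ∧ orderOf (Fintype.card F : ZMod r) ∣ 2 * e := by
  obtain ⟨hQ, hd⟩ := oddQ_facts (F := F) h2 d
  have hmul := card_ts_mul hQ (fun j => Fintype.card F ^ (2 * (d - j)) - 1) m fun j hj W P _ _ hP _ _ hdim => by
    rw [hd] at hdim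
    exact zcard_odd_eq (nondeg_qres hP) (k := d - j) (by omega)
  simp only [coe_oddQ] at hmul
  obtain ⟨j, hj, hj'⟩ := ((Fact.out : r.Prime).prime.dvd_finsetProd_iff _).1 (hmul ▸ h.mul_right _)
  have := Finset.mem_range.1 hj
  exact ⟨not_dvd_card_sub_one _ (by omega) hj', d - j, by omega, by omega,
    (LargeSylow.dvd_sub_iff Fintype.card_pos _).1 hj'⟩

theorem exists_of_dvd_ts_plus {d m : ℕ} (hmd : m < d)
    (h : r ∣ Nat.card {W : Submodule F (Fin d ⊕ Fin d → F) //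
      finrank F W = m ∧ ∀ w ∈ W, Cfsg.quadFormPlus d F w = 0}) :
    ¬ r ∣ Fintype.card F ∧ (r ≠ 2 →
      (orderOf (Fintype.card F : ZMod r) ∣ d ∨
        (∃ e, d - m < e ∧ e < d ∧ orderOf (Fintype.card F : ZMod r) ∣ 2 * e) ∨
        (orderOf (Fintype.card F : ZMod r) ∣ 2 * (d - m) ∧ ¬ orderOf (Fintype.card F : ZMod r) ∣ d - m))) := by
  obtain ⟨hQ, hd, hp⟩ := plusQ_facts (F := F) d
  have hmul := card_ts_mul hQ (fun j => (Fintype.card F ^ (d - j) - 1) * (Fintype.card F ^ (d - j - 1) + 1)) m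
    fun j hj W P hW hWd hP hle hdis hdim => by
    rw [hd] at hdim
    have hk : finrank F P = 2 * (d - j - 1 + 1) := by omega
    rw [zcard_plus_eq (nondeg_qres hP) hk (plus_qres.2 ((plus_complement hQ hW hP hle (by omega)
      ⟨d, by omega⟩).2 hp)), show d - j - 1 + 1 = d - j by omega]
  simp only [coe_plusQ] at hmul
  obtain ⟨j, hj, hj'⟩ := ((Fact.out : r.Prime).prime.dvd_finsetProd_iff _).1 (hmul ▸ h.mul_right _)
  have := Finset.mem_range.1 hj
  rcases (Fact.out : r.Prime).dvd_mul.1 hj' with h1 | h1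
  · refine ⟨not_dvd_card_sub_one _ (by omega) h1, fun _ => ?_⟩
    have ho := (LargeSylow.dvd_sub_iff Fintype.card_pos _).1 h1
    rcases Nat.eq_zero_or_pos j with rfl | hj0
    · exact Or.inl (by simpa using ho)
    · exact Or.inr (Or.inl ⟨d - j, by omega, by omega, ho.mul_left 2⟩)
  · refine ⟨not_dvd_card_add_one _ (by omega) h1, fun hr2 => ?_⟩
    obtain ⟨o1, o2⟩ := order_of_dvd_add_one hr2 h1
    by_cases hjm : j + 1 = m
    · rw [show d - m = d - j - 1 by omega]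
      exact Or.inr (Or.inr ⟨o1, o2⟩)
    · exact Or.inr (Or.inl ⟨d - j - 1, by omega, by omega, o1⟩)

theorem exists_of_dvd_ts_minus {d m : ℕ} (hmd : m < d) {a b : F}
    (hab : ∀ x y : F, x ^ 2 + a * x * y + b * y ^ 2 = 0 → x = 0 ∧ y = 0)
    (h : r ∣ Nat.card {W : Submodule F ((Fin (d - 1) ⊕ Fin (d - 1)) ⊕ Fin 2 → F) //
      finrank F W = m ∧ ∀ w ∈ W, Cfsg.quadFormMinus (d - 1) F a b w = 0}) :
    ¬ r ∣ Fintype.card F ∧ (r ≠ 2 →
      ((orderOf (Fintype.card F : ZMod r) ∣ 2 * d ∧ ¬ orderOf (Fintype.card F : ZMod r) ∣ d) ∨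
        (∃ e, d - m < e ∧ e < d ∧ orderOf (Fintype.card F : ZMod r) ∣ 2 * e) ∨
        orderOf (Fintype.card F : ZMod r) ∣ d - m)) := by
  obtain ⟨hQ, hd, hp⟩ := minusQ_facts hab (d - 1)
  have hmul := card_ts_mul hQ (fun j => (Fintype.card F ^ (d - j) + 1) * (Fintype.card F ^ (d - j - 1) - 1)) m
    fun j hj W P hW hWd hP hle hdis hdim => by
    rw [hd] at hdim
    have hk : finrank F P = 2 * (d - j - 1 + 1) := by omega
    rw [zcard_minus_eq (nondeg_qres hP) hk (fun hpp => hp ((plus_complement hQ hW hP hle (by omega)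
      ⟨d - 1 + 1, by omega⟩).1 (plus_qres.1 hpp))), show d - j - 1 + 1 = d - j by omega]
  simp only [coe_minusQ] at hmul
  obtain ⟨j, hj, hj'⟩ := ((Fact.out : r.Prime).prime.dvd_finsetProd_iff _).1 (hmul ▸ h.mul_right _)
  have := Finset.mem_range.1 hj
  rcases (Fact.out : r.Prime).dvd_mul.1 hj' with h1 | h1
  · refine ⟨not_dvd_card_add_one _ (by omega) h1, fun hr2 => ?_⟩
    obtain ⟨o1, o2⟩ := order_of_dvd_add_one hr2 h1
    rcases Nat.eq_zero_or_pos j with rfl | hj0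
    · exact Or.inl ⟨by simpa using o1, by simpa using o2⟩
    · exact Or.inr (Or.inl ⟨d - j, by omega, by omega, o1⟩)
  · refine ⟨not_dvd_card_sub_one _ (by omega) h1, fun _ => ?_⟩
    have ho := (LargeSylow.dvd_sub_iff Fintype.card_pos _).1 h1
    by_cases hjm : j + 1 = m
    · rw [show d - m = d - j - 1 by omega]
      exact Or.inr (Or.inr ho)
    · exact Or.inr (Or.inl ⟨d - j - 1, by omega, by omega, ho.mul_left 2⟩)

end Cfsg.Agent.Classical.OrthElem
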