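import Cfsg.Agent.Classical.OrthElem.Std
import Cfsg.Agent.Classical.SympElem.Involution

/-!
# Involutions and isometries with square minus one
-/

set_option autoImplicit false

namespace Cfsg.Agent.Classical.OrthElem

open Module QuadraticMap
open Cfsg.Agent.Classical.Quad (oG rO rO_apply ext_oG oG_mul_apply qs spin dickson hex_of_two)
open Cfsg.Agent.Classical.SympElem (Inv inv_iff fx mv inv_fx inv_mv fx_apply mem_fx inv_of_le_fx exists_compl
  blocks AllDeg mv_involution inv_span lift_le finrank_lift)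

universe u v

variable {F : Type u} [Field F] {V : Type v} [AddCommGroup V] [Module F V] {Q : QuadraticForm F V}
  {a : Module.End F V}

theorem ext_on [FiniteDimensional F V] (hQ : (polarBilin Q).Nondegenerate) {U : Submodule F V} (hU : NdOn Q U)
    {g h : oG Q} (h1 : ∀ x ∈ U, g.1 x = h.1 x) (h2 : ∀ x ∈ orth Q U, g.1 x = h.1 x) : g = h :=
  ext_oG fun x => by
    obtain ⟨u, hu, w, hw, rfl⟩ := Submodule.mem_sup.1
      ((isCompl_orth hQ hU).sup_eq_top.symm ▸ Submodule.mem_top (x := x))
    rw [map_add, map_add, h1 u hu, h2 w hw]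

theorem rO_fix {v : V} (hv : Q v ≠ 0) {x : V} (hx : polar Q x v = 0) : (rO hv).1 x = x :=
  Quad.refl_fix hv hx

theorem rO_self {v : V} (hv : Q v ≠ 0) : (rO hv).1 v = -v := Quad.refl_neg hv

theorem qs_neg_of_aniso [Finite F] (h2 : (2 : F) ≠ 0) {v w : V} (hv : Q v ≠ 0) (hw : Q w ≠ 0)
    (hvw : polar Q v w = 0) (han : ∀ x ∈ pairSpan (F := F) v w, Q x = 0 → x = 0) :
    qs (Q v * Q w) = -qs (-1 : F) := by
  have hne : ¬ IsSquare (-(Q v * Q w)) := fun ⟨s, hs⟩ => by
    have h0 := han (s • v + Q v • w) (mem_pairSpan.2 ⟨s, Q v, rfl⟩) (by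
      rw [Quad.map_add', Quad.map_smul', Quad.map_smul', polar_smul_left, polar_smul_right, hvw]
      simp only [smul_eq_mul]
      linear_combination (-Q v) * hs)
    have := congrArg (fun x => polar Q x w) h0
    simp only [polar_add_left, polar_smul_left, hvw, Quad.polar_self', smul_eq_mul, polar_zero_left, mul_zero,
      zero_add] at this
    exact mul_ne_zero hv (mul_ne_zero h2 hw) this
  have h1 : qs (-(Q v * Q w)) = -1 :=
    (Int.units_eq_one_or _).resolve_left fun h => hne (Quad.qs_eq_one.1 h)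
  rw [show -(Q v * Q w) = (-1 : F) * (Q v * Q w) by ring,
    Quad.qs_mul (neg_ne_zero.2 one_ne_zero) (mul_ne_zero hv hw)] at h1
  rcases Int.units_eq_one_or (qs (-1 : F)) with h | h <;> rw [h] at h1 ⊢ <;> simpa using h1

variable [FiniteDimensional F V] [Finite F] [Finite V]

/-- Minus one on a non-degenerate even-dimensional subspace. -/
theorem neg_one_chars (hQ : (polarBilin Q).Nondegenerate) (h2 : (2 : F) ≠ 0) :
    ∀ (j : ℕ) (U : Submodule F V), NdOn Q U → finrank F U = 2 * j → ∀ g : oG Q,
      (∀ x ∈ U, g.1 x = -x) → (∀ x ∈ orth Q U, g.1 x = x) →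
      dickson hQ (hex_of_two h2 _) g = 1 ∧
        (Plus Q U → spin Q g = qs (-1 : F) ^ j) ∧ (¬ Plus Q U → spin Q g = -qs (-1 : F) ^ j) := by
  intro j
  induction j with
  | zero =>
    intro U hU hd g h1 h2'
    have hU0 : U = ⊥ := Submodule.finrank_eq_zero.1 hd
    have hg : g = 1 := ext_on hQ hU (fun x hx => by
      rw [hU0, Submodule.mem_bot] at hx; rw [hx, map_zero, map_zero]) h2'
    rw [hg]
    exact ⟨map_one _, fun _ => by rw [map_one, pow_zero], fun hp => absurd (hU0 ▸ plus_bot) hp⟩
  | succ j ih =>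
    intro U hU hd g h1 h2'
    by_cases hsing : ∃ e ∈ U, e ≠ 0 ∧ Q e = 0
    · obtain ⟨e, he, he0, hQe⟩ := hsing
      obtain ⟨f, hf, hQf, hef⟩ := exists_pair_in hU he he0 hQe
      obtain ⟨hS, hSd, hSp⟩ := ndon_hyp hQe hQf hef
      obtain ⟨hU', hsup, hd'⟩ := ndon_diff hQ hU hS (pairSpan_le he hf)
      have hv : Q (e + f) ≠ 0 := by rw [Quad.map_add', hQe, hQf, hef]; simp
      have hw : Q (e + -f) ≠ 0 := by
        rw [Quad.map_add', QuadraticMap.map_neg, polar_neg_right, hQe, hQf, hef]; simp
      set h := rO hv * rO hw with hh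
      have hhS : ∀ x ∈ pairSpan (F := F) e f, h.1 x = -x := by
        have q1 : Q (e + f) = 1 := by rw [Quad.map_add', hQe, hQf, hef]; ring
        have q2 : Q (e + -f) = -1 := by
          rw [Quad.map_add', QuadraticMap.map_neg, polar_neg_right, hQe, hQf, hef]; ring
        have wE : (rO hw).1 e = f := by
          rw [rO_apply, polar_add_right, polar_neg_right, Quad.polar_self', hQe, hef, q2]
          norm_num
        have wF : (rO hw).1 f = e := by
          rw [rO_apply, polar_add_right, polar_neg_right, Quad.polar_self', hQf, polar_comm Q f e, hef, q2]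
          norm_num
        have vE : (rO hv).1 e = -f := by
          rw [rO_apply, polar_add_right, Quad.polar_self', hQe, hef, q1]
          norm_num
        have vF : (rO hv).1 f = -e := by
          rw [rO_apply, polar_add_right, Quad.polar_self', hQf, polar_comm Q f e, hef, q1]
          norm_num
        intro x hx
        obtain ⟨s, t, rfl⟩ := mem_pairSpan.1 hx
        rw [hh, oG_mul_apply, map_add, map_smul, map_smul, wE, wF, map_add, map_smul, map_smul, vE, vF, smul_neg, smul_neg, neg_add]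
      have hhP : ∀ x ∈ orth Q (pairSpan e f), h.1 x = x := fun x hx => by
        have hp := mem_orth.1 hx
        rw [hh, oG_mul_apply, rO_fix hw (hp _ (Submodule.add_mem _ (left_mem_pairSpan e f)
          (Submodule.neg_mem _ (right_mem_pairSpan e f)))),
          rO_fix hv (hp _ (Submodule.add_mem _ (left_mem_pairSpan e f) (right_mem_pairSpan e f)))]
      obtain ⟨hd1, hd2, hd3⟩ := ih (U ⊓ orth Q (pairSpan e f)) hU' (by omega) (h * g)
        (fun x hx => by rw [oG_mul_apply, h1 x hx.1, map_neg, hhP x hx.2])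
        (fun x hx => by
          obtain ⟨u, hu, w, hw', rfl⟩ := Submodule.mem_sup.1
            ((isCompl_orth hQ hU).sup_eq_top.symm ▸ Submodule.mem_top (x := x))
          have huS : u ∈ pairSpan (F := F) e f := by
            rw [← hsup] at hu
            obtain ⟨s, hs, t, ht, rfl⟩ := Submodule.mem_sup.1 hu
            have hs0 : s = 0 := by
              by_contra hne
              obtain ⟨y, hy, hy'⟩ := hU' s hs hne
              have h3 := mem_orth.1 hx y hy
              rw [polar_add_left, polar_add_left, polar_comm Q t y, mem_orth.1 hy.2 t ht,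
                mem_orth.1 hw' y hy.1, add_zero, add_zero] at h3
              exact hy' h3
            rw [hs0, zero_add]; exact ht
          rw [oG_mul_apply, map_add, h1 u (pairSpan_le he hf huS), h2' w hw', map_add, map_neg, hhS u huS,
            neg_neg, hhP w (mem_orth.2 fun y hy => mem_orth.1 hw' y (pairSpan_le he hf hy))])
      have hiff := plus_diff_iff hQ hU he hf hQe hQf hef ⟨j + 1, by omega⟩
      obtain ⟨hdh, hsh⟩ := Quad.exists_rO_prod hQ (hex_of_two h2 (finrank F V)) hv hw
      have hsh' : spin Q h = qs (-1 : F) := by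
        rw [hsh h2]
        congr 1
        rw [Quad.map_add', Quad.map_add', QuadraticMap.map_neg, polar_neg_right, hQe, hQf, hef]
        ring
      rw [map_mul, hdh, one_mul] at hd1
      rw [map_mul, hsh', hiff] at hd2 hd3
      refine ⟨hd1, fun hp => ?_, fun hp => ?_⟩
      · rw [pow_succ, ← hd2 hp, mul_comm _ (qs (-1 : F)), ← mul_assoc, Int.units_mul_self, one_mul]
      · rw [pow_succ, ← neg_mul, ← hd3 hp, mul_comm _ (qs (-1 : F)), ← mul_assoc, Int.units_mul_self, one_mul]
    · push Not at hsing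
      have hj : j = 0 := by
        by_contra hj0
        obtain ⟨e, he, he0, hQe⟩ := exists_singular_in (Q := Q) (U := U) (by omega)
        exact hsing e he he0 hQe
      subst hj
      have hnp : ¬ Plus Q U := by
        rintro ⟨W, hle, hW, hWd⟩
        obtain ⟨w, hw, hw0⟩ := W.exists_mem_ne_zero_of_ne_bot (fun h0 => by rw [h0, finrank_bot] at hWd; omega)
        exact hsing w (hle hw) hw0 (hW w hw)
      obtain ⟨v, hv, hQv⟩ := exists_aniso_vec hU (fun h0 => by rw [h0, finrank_bot] at hd; omega)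
      obtain ⟨w, hwU, hw0, hvw⟩ : ∃ w ∈ U, w ≠ 0 ∧ polar Q v w = 0 := by
        by_contra hc
        push Not at hc
        let φ : U →ₗ[F] F := (polarBilin Q v).comp U.subtype
        have hinj : Function.Injective φ := (injective_iff_map_eq_zero _).2 fun y hy =>
          by_contra fun hne => hc y y.2 (fun h0 => hne (Subtype.ext h0)) hy
        have := LinearMap.finrank_le_finrank_of_injective hinj
        rw [Module.finrank_self, hd] at this
        omega
      have hQw : Q w ≠ 0 := hsing w hwU hw0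
      obtain ⟨hN, hNd⟩ := ndon_pairSpan (Q := Q) (x := v) (y := w) (by
        rw [Quad.polar_self', Quad.polar_self', hvw]
        simpa using ⟨⟨h2, hQv⟩, ⟨h2, hQw⟩⟩)
      have hUeq : pairSpan (F := F) v w = U :=
        Submodule.eq_of_le_of_finrank_le (pairSpan_le hv hwU) (by rw [hNd, hd])
      have hg : g = rO hQv * rO hQw := ext_on hQ hU (fun x hx => by
        rw [← hUeq, mem_pairSpan] at hx
        obtain ⟨s, t, rfl⟩ := hx
        rw [h1 _ (U.add_mem (U.smul_mem _ hv) (U.smul_mem _ hwU)), oG_mul_apply, map_add, map_smul, map_smul,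
          rO_fix hQw hvw, rO_self hQw, map_add, map_smul, map_smul, map_neg, rO_self hQv,
          rO_fix hQv (by rw [polar_comm]; exact hvw)]
        simp only [smul_neg, neg_add])
        (fun x hx => by
          rw [h2' x hx, oG_mul_apply, rO_fix hQw (mem_orth.1 hx w hwU), rO_fix hQv (mem_orth.1 hx v hv)])
      obtain ⟨hdh, hsh⟩ := Quad.exists_rO_prod hQ (hex_of_two h2 (finrank F V)) hQv hQw
      rw [hg]
      refine ⟨hdh, fun hp => absurd hp hnp, fun _ => ?_⟩
      rw [hsh h2, zero_add, pow_one, qs_neg_of_aniso h2 hQv hQw hvw fun x hx hQx =>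
        by_contra fun h0 => hsing x (hUeq ▸ hx) h0 hQx]

/-- A map squaring to minus one on a non-degenerate invariant subspace and fixing its orthogonal. -/
theorem sq_neg_one_chars (hQ : (polarBilin Q).Nondegenerate) (h2 : (2 : F) ≠ 0) :
    ∀ (n : ℕ) (U : Submodule F V), finrank F U ≤ n → NdOn Q U → ∀ g : oG Q, (∀ x ∈ U, g.1 x ∈ U) →
      (∀ x ∈ U, g.1 (g.1 x) = -x) → (∀ x ∈ orth Q U, g.1 x = x) →
      ∃ k, finrank F U = 2 * k ∧ dickson hQ (hex_of_two h2 _) g = 1 ∧ spin Q g = qs (2 : F) ^ k := by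
  intro n
  induction n using Nat.strong_induction_on with
  | _ n ih =>
    intro U hn hU g hinv hsq hfix
    by_cases hU0 : U = ⊥
    · have hg : g = 1 := ext_on hQ hU (fun x hx => by
        rw [hU0, Submodule.mem_bot] at hx; rw [hx, map_zero, map_zero]) hfix
      exact ⟨0, by rw [hU0, finrank_bot], by rw [hg]; exact map_one _, by rw [hg, map_one, pow_zero]⟩
    obtain ⟨v, hv, hQv⟩ := exists_aniso_vec hU hU0
    set v' := g.1 v with hv'
    have hQv' : Q v' = Q v := g.2 v
    have hvv' : polar Q v v' = 0 := by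
      have h := Quad.polar_oG g v v'
      rw [← hv', show g.1 v' = -v from hsq v hv, polar_neg_right, polar_comm Q v' v] at h
      exact (mul_eq_zero.1 (by linear_combination -h : (2 : F) * polar Q v v' = 0)).resolve_left h2
    obtain ⟨hS, hSd⟩ := ndon_pairSpan (Q := Q) (x := v) (y := v') (by
      rw [Quad.polar_self', Quad.polar_self', hvv', hQv']
      simpa using ⟨h2, hQv⟩)
    obtain ⟨hU', hsup, hd'⟩ := ndon_diff hQ hU hS (pairSpan_le hv (hinv v hv))
    have hQw : Q (v + v') ≠ 0 := by
      rw [Quad.map_add', hQv', hvv', add_zero, ← two_mul]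
      exact mul_ne_zero h2 hQv
    set h := rO hQw * rO hQv with hh
    have hw2 : Q (v + v') = 2 * Q v := by rw [Quad.map_add', hQv', hvv']; ring
    have hrv : (rO hQw).1 v = -v' := by
      rw [rO_apply, polar_add_right, Quad.polar_self', hvv', add_zero, hw2, div_self (mul_ne_zero h2 hQv), one_smul]
      abel
    have hrv' : (rO hQw).1 v' = -v := by
      rw [rO_apply, polar_add_right, Quad.polar_self', polar_comm Q v' v, hvv', zero_add, hQv', hw2,
        div_self (mul_ne_zero h2 hQv), one_smul]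
      abel
    have hhv : h.1 v = v' := by rw [hh, oG_mul_apply, rO_self, map_neg, hrv, neg_neg]
    have hhv' : h.1 v' = -v := by
      rw [hh, oG_mul_apply, rO_fix hQv (by rw [polar_comm]; exact hvv'), hrv']
    have hhS : ∀ x ∈ pairSpan (F := F) v v', h.1 x = g.1 x := fun x hx => by
      obtain ⟨s, t, rfl⟩ := mem_pairSpan.1 hx
      rw [map_add, map_smul, map_smul, map_add, map_smul, map_smul, hhv, hhv', ← hv', show g.1 v' = -v from hsq v hv]
    have hhP : ∀ x ∈ orth Q (pairSpan v v'), h.1 x = x := fun x hx => by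
      rw [hh, oG_mul_apply, rO_fix hQv (mem_orth.1 hx _ (left_mem_pairSpan v v')),
        rO_fix hQw (mem_orth.1 hx _ (Submodule.add_mem _ (left_mem_pairSpan v v') (right_mem_pairSpan v v')))]
    have hinv' : ∀ x ∈ U ⊓ orth Q (pairSpan v v'), g.1 x ∈ U ⊓ orth Q (pairSpan v v') := fun x hx =>
      ⟨hinv x hx.1, mem_orth.2 fun y hy => by
        obtain ⟨s, t, rfl⟩ := mem_pairSpan.1 hy
        have e1 : polar Q (g.1 x) v' = 0 := by
          rw [hv', Quad.polar_oG]; exact mem_orth.1 hx.2 v (left_mem_pairSpan v v')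
        have e2 : polar Q (g.1 x) v = 0 := by
          have := Quad.polar_oG g x v'
          rw [show g.1 v' = -v from hsq v hv, polar_neg_right, mem_orth.1 hx.2 v' (right_mem_pairSpan v v'),
            neg_eq_zero] at this
          exact this
        rw [polar_add_right, polar_smul_right, polar_smul_right, e1, e2, smul_zero, smul_zero, add_zero]⟩
    have hiS : ∀ x ∈ orth Q (pairSpan v v'), h⁻¹.1 x = x := fun x hx => by
      conv_lhs => rw [← hhP x hx]
      exact Quad.oG_inv_apply h x
    obtain ⟨k, hk, hdk, hsk⟩ := ih (finrank F (U ⊓ orth Q (pairSpan v v') : Submodule F V)) (by omega)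
      (U ⊓ orth Q (pairSpan v v')) le_rfl hU' (h⁻¹ * g)
      (fun x hx => by rw [oG_mul_apply, hiS _ (hinv' x hx).2]; exact hinv' x hx)
      (fun x hx => by
        have e : (h⁻¹ * g).1 x = g.1 x := by rw [oG_mul_apply, hiS _ (hinv' x hx).2]
        rw [e, oG_mul_apply, hsq x hx.1, map_neg, hiS _ hx.2])
      (fun x hx => by
        obtain ⟨u, hu, w, hw', rfl⟩ := Submodule.mem_sup.1
          ((isCompl_orth hQ hU).sup_eq_top.symm ▸ Submodule.mem_top (x := x))
        have huS : u ∈ pairSpan (F := F) v v' := by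
          rw [← hsup] at hu
          obtain ⟨s, hs, t, ht, rfl⟩ := Submodule.mem_sup.1 hu
          have hs0 : s = 0 := by
            by_contra hne
            obtain ⟨y, hy, hy'⟩ := hU' s hs hne
            have h3 := mem_orth.1 hx y hy
            rw [polar_add_left, polar_add_left, polar_comm Q t y, mem_orth.1 hy.2 t ht, mem_orth.1 hw' y hy.1,
              add_zero, add_zero] at h3
            exact hy' h3
          rw [hs0, zero_add]; exact ht
        rw [oG_mul_apply, map_add, hfix w hw', map_add, ← hhS u huS, Quad.oG_inv_apply,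
          hiS w (mem_orth.2 fun y hy => mem_orth.1 hw' y (pairSpan_le hv (hinv v hv) hy))])
    obtain ⟨hdh, hsh⟩ := Quad.exists_rO_prod hQ (hex_of_two h2 (finrank F V)) hQw hQv
    have hsh' : spin Q h = qs (2 : F) := by
      rw [hh, hsh h2, hw2, show 2 * Q v * Q v = Q v * Q v * 2 by ring, Quad.qs_mul_self_mul hQv h2]
    refine ⟨k + 1, by omega, ?_, ?_⟩
    · have := congrArg (dickson hQ (hex_of_two h2 (finrank F V))) (mul_inv_cancel_left h g)
      rw [← this, map_mul, hdk, hdh, one_mul]
    · have := congrArg (spin Q) (mul_inv_cancel_left h g)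
      rw [← this, map_mul, hsk, hsh', pow_succ, mul_comm]

omit [Finite V] in
/-- Every space of the right type carries an isometry with square minus one. -/
theorem exists_sq_neg_one (h1 : ¬ IsSquare (-1 : F)) : ∀ (d : ℕ) (W : Type v) [AddCommGroup W] [Module F W]
    [FiniteDimensional F W] (R : QuadraticForm F W), (polarBilin R).Nondegenerate → finrank F W = 2 * d →
      (Plus R ⊤ ↔ Even d) → ∃ a : Module.End F W, QGood R a ∧ ∀ x, a (a x) = -x := by
  intro d
  induction d with
  | zero =>
    intro W _ _ _ R hR hd _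
    haveI : Subsingleton W := Module.finrank_zero_iff.1 hd
    exact ⟨1, ⟨hR, fun x => rfl⟩, fun x => Subsingleton.elim _ _⟩
  | succ d ih =>
    intro W _ _ _ R hR hd hp
    obtain ⟨S, hS, hSd, hSp⟩ : ∃ S : Submodule F W, NdOn R S ∧ finrank F S = 2 * 1 ∧ ¬ Plus R S := by
      rcases Nat.eq_zero_or_pos d with rfl | hd0
      · exact ⟨⊤, ndon_top hR, by rw [finrank_top, hd], fun h => by simpa using hp.1 h⟩
      · obtain ⟨S, -, a1, a2, a3⟩ := exists_sub_type hR (ndon_top hR) False 1
          (Or.inl ⟨one_pos, by rw [finrank_top]; omega⟩)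
        exact ⟨S, a1, a2, a3.1⟩
    have hab : ∀ x y : F, x ^ 2 + 0 * x * y + 1 * y ^ 2 = 0 → x = 0 ∧ y = 0 := fun x y h => by
      by_cases hy : y = 0
      · subst hy; exact ⟨by simpa using h, rfl⟩
      · exact absurd ⟨x / y, by field_simp; linear_combination -h⟩ h1
    obtain ⟨g, hg⟩ := iso_of_plus (Q := Quad.binForm (0 : F) 1) (R := qres R S) (Quad.nondeg_binForm hab)
      (nondeg_qres hS) (k := 1) (by rw [Module.finrank_prod, Module.finrank_self]) hSd (iff_of_false (by
        rintro ⟨X, -, hX, hXd⟩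
        obtain ⟨x, hx, hx0⟩ := X.exists_mem_ne_zero_of_ne_bot (fun h0 => by
          rw [h0, finrank_bot, finrank_top, Module.finrank_prod, Module.finrank_self] at hXd; omega)
        exact Quad.binForm_ne_zero hab hx0 (hX x hx)) (fun h => hSp (plus_qres.1 h)))
    let j : Module.End F (F × F) :=
      { toFun := fun x => (-x.2, x.1)
        map_add' := fun x y => by simp [neg_add, add_comm]
        map_smul' := fun c x => by simp }
    have hPd : finrank F (orth R S) = 2 * d := by rw [finrank_orth hR, hSd, hd]; omega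
    obtain ⟨a₂, hG₂, ha₂⟩ := ih (orth R S) (qres R (orth R S)) (nondeg_qres (ndon_orth hR hS)) hPd (by
      have h3 := plus_sup_iff hR hS (ndon_orth hR hS) (orth_le le_rfl) ⟨1, hSd⟩ ⟨d, by omega⟩
      rw [(isCompl_orth hR hS).sup_eq_top, hp, Nat.even_add_one] at h3
      rw [plus_qres]
      exact ⟨fun hpp => by_contra fun hn => hSp ((h3.1 hn).2 hpp),
        fun he => by_contra fun hn => h3.2 (iff_of_false hSp hn) he⟩)
    have hG₁ : QGood (qres R S) (g.conj j) := ⟨nondeg_qres hS, fun x => by
      rw [LinearEquiv.conj_apply_apply, hg]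
      conv_rhs => rw [← g.apply_symm_apply x, hg]
      rw [Quad.binForm_apply, Quad.binForm_apply]
      show (-(g.symm x).2) ^ 2 + 0 * _ * _ + 1 * (g.symm x).1 ^ 2 = _
      ring⟩
    obtain ⟨a, hG, ha1, ha2⟩ := glue hR hS hG₁ hG₂
    refine ⟨a, hG, fun x => ?_⟩
    obtain ⟨u, hu, w, hw, rfl⟩ := Submodule.mem_sup.1
      ((isCompl_orth hR hS).sup_eq_top.symm ▸ Submodule.mem_top (x := x))
    rw [map_add, ha1 ⟨u, hu⟩, ha2 ⟨w, hw⟩, map_add, ha1, ha2, ha₂]
    have : g.conj j (g.conj j ⟨u, hu⟩) = -⟨u, hu⟩ := by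
      rw [LinearEquiv.conj_apply_apply, LinearEquiv.conj_apply_apply, LinearEquiv.symm_apply_apply]
      have e : ∀ y, j (j y) = -y := fun y => by simp [j, Prod.ext_iff]
      rw [e, map_neg, LinearEquiv.apply_symm_apply]
    rw [this]
    simp only [Submodule.coe_neg]
    abel

omit [Finite V] in
theorem sq_neg_one_split (hG : QGood Q a) (h2 : (2 : F) ≠ 0) (hsq : ∀ v, a (a v) = -v) {z : F}
    (hz : z * z = -1) {d : ℕ} (hd : finrank F V = 2 * d) :
    Plus Q ⊤ ∧ ∀ k, k ≤ d → ∃ W : Submodule F V, Inv a W ∧ TS Q W ∧ finrank F W = k := by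
  have key : ∀ z : F, z * z = -1 → ∀ W : Submodule F V, W ≤ LinearMap.ker (a - z • 1) → Inv a W ∧ TS Q W := by
    intro z hz W hW
    have happ : ∀ x ∈ W, a x = z • x := fun x hx => by
      simpa [sub_eq_zero] using LinearMap.mem_ker.1 (hW hx)
    refine ⟨fun x hx => by rw [happ x hx]; exact W.smul_mem _ hx, fun x hx => ?_⟩
    have := hG.pres x
    rw [happ x hx, Quad.map_smul', hz] at this
    exact (mul_eq_zero.1 (by linear_combination -this : (2 : F) * Q x = 0)).resolve_left h2
  set K₁ := LinearMap.ker (a - z • 1)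
  set K₂ := LinearMap.ker (a - (-z) • 1)
  obtain ⟨-, t₁⟩ := key z hz K₁ le_rfl
  obtain ⟨-, t₂⟩ := key (-z) (by linear_combination hz) K₂ le_rfl
  have b₁ := Quad.two_mul_finrank_le hG.nondeg t₁
  have b₂ := Quad.two_mul_finrank_le hG.nondeg t₂
  have hsum : K₁ ⊔ K₂ = ⊤ := by
    rw [eq_top_iff]
    intro x _
    have hz2 : (2 : F) * z ≠ 0 := mul_ne_zero h2 fun h0 => by rw [h0, zero_mul] at hz; simp at hz
    have e : x = (2 * z)⁻¹ • (z • x + a x) + (2 * z)⁻¹ • (z • x - a x) := by
      rw [← smul_add, show z • x + a x + (z • x - a x) = ((2 : F) * z) • x by rw [two_mul, add_smul]; abel,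
        inv_smul_smul₀ hz2]
    rw [e]
    refine Submodule.add_mem_sup (Submodule.smul_mem _ _ ?_) (Submodule.smul_mem _ _ ?_) <;>
      simp [K₁, K₂, hsq, smul_smul, hz, smul_add, smul_sub] <;> abel
  have hdim := Submodule.finrank_add_le_finrank_add_finrank K₁ K₂
  rw [hsum, finrank_top] at hdim
  refine ⟨⟨K₁, le_top, t₁, by rw [finrank_top]; omega⟩, fun k hk => ?_⟩
  obtain ⟨W, hW, hWd⟩ := exists_sub_dim (W := K₁) (k := k) (by omega)
  exact ⟨W, (key z hz W hW).1, (key z hz W hW).2, hWd⟩

open Polynomial in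
omit [Finite V] in
theorem sq_neg_one_ts (hG : QGood Q a) (h2 : (2 : F) ≠ 0) (h1 : ¬ IsSquare (-1 : F))
    (hsq : ∀ v, a (a v) = -v) :
    (∀ W : Submodule F V, Inv a W → Even (finrank F W)) ∧
      ∀ k, 4 * k + 3 ≤ finrank F V + 4 → ∃ W : Submodule F V, Inv a W ∧ TS Q W ∧ finrank F W = 2 * k := by
  set g : F[X] := X ^ 2 - C (-1) with hg
  have hgm : g.Monic := monic_X_pow_sub_C _ (by norm_num)
  have hgd : g.natDegree = 2 := natDegree_X_pow_sub_C
  have hgi : Irreducible g := (irreducible_iff_roots_eq_zero_of_degree_le_three (by rw [hgd]) (by rw [hgd]; norm_num)).2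
    (Multiset.eq_zero_of_forall_notMem fun x hx => by
      rw [mem_roots hgm.ne_zero, IsRoot.def, hg] at hx
      simp at hx
      exact h1 ⟨x, by linear_combination -hx⟩)
  have hag : aeval a g = 0 := LinearMap.ext fun x => by simp [hg, pow_two, hsq]
  have hAll : AllDeg g 2 := fun f hf hirr hfd => by
    rw [eq_of_monic_of_associated hf hgm (hirr.associated_of_dvd hgi hfd), hgd]
  refine ⟨fun W hW => even_iff_two_dvd.2 (blocks hgi.squarefree (SympConj.aeval_restrict hag hW) hAll).1, fun k => ?_⟩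
  induction k with
  | zero => exact fun _ => ⟨⊥, fun w hw => by rw [(Submodule.mem_bot F).1 hw, map_zero]; exact zero_mem _,
      ts_bot, by simp⟩
  | succ k ih =>
    intro hk
    obtain ⟨W, hW, hWts, hWd⟩ := ih (by omega)
    obtain ⟨C, hC, hWC⟩ := exists_compl hgi.squarefree hag hW
    obtain ⟨hPN, hPd, hdisj⟩ := ts_complement hG.nondeg hWts hWC
    have hP : Inv a (orth Q W ⊓ C) := (inv_orth hG hW).inf hC
    rw [hWd] at hPd
    obtain ⟨v, hv, hv0, hQv⟩ := exists_singular_in (Q := Q) (U := orth Q W ⊓ C) (by omega)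
    have hvav : polar Q v (a v) = 0 := by
      have h := polar_pres hG v (a v)
      rw [hsq, polar_neg_right, polar_comm Q (a v) v] at h
      exact (mul_eq_zero.1 (by linear_combination -h : (2 : F) * polar Q v (a v) = 0)).resolve_left h2
    have hts : TS Q (pairSpan (F := F) v (a v)) := fun x hx => by
      obtain ⟨s, t, rfl⟩ := mem_pairSpan.1 hx
      rw [Quad.map_add', Quad.map_smul', Quad.map_smul', polar_smul_left, polar_smul_right, hQv, hG.pres, hQv, hvav]
      simp
    have hinv : Inv a (pairSpan (F := F) v (a v)) := fun x hx => by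
      obtain ⟨s, t, rfl⟩ := mem_pairSpan.1 hx
      refine mem_pairSpan.2 ⟨-t, s, ?_⟩
      rw [map_add, map_smul, map_smul, hsq, smul_neg, neg_smul]
      abel
    have hd2 : finrank F (pairSpan (F := F) v (a v)) = 2 := by
      have hle : finrank F (pairSpan (F := F) v (a v)) ≤ 2 := by
        refine (Submodule.finrank_add_le_finrank_add_finrank _ _).trans ?_
        have a1 := finrank_span_singleton (K := F) hv0
        have a2 := finrank_span_singleton (K := F) (v := a v) (fun h0 => hv0 (injective_of_good hG (h0.trans (map_zero a).symm)))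
        omega
      obtain ⟨w, hw⟩ := (blocks hgi.squarefree (SympConj.aeval_restrict hag hinv) hAll).1
      have hpos : 0 < finrank F (pairSpan (F := F) v (a v)) := Nat.pos_of_ne_zero fun h0 => hv0 (by
        have := left_mem_pairSpan (F := F) v (a v)
        rwa [Submodule.finrank_eq_zero.1 h0, Submodule.mem_bot] at this)
      omega
    have hle : pairSpan (F := F) v (a v) ≤ orth Q W := pairSpan_le hv.1 (hP v hv).1
    have hle' : pairSpan (F := F) v (a v) ≤ orth Q W ⊓ C := pairSpan_le hv (hP v hv)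
    refine ⟨pairSpan v (a v) ⊔ W, hinv.sup hW, ts_sup hts hWts hle, ?_⟩
    have h3 := Submodule.finrank_sup_add_finrank_inf_eq (pairSpan (F := F) v (a v)) W
    rw [(hdisj.symm.mono_left hle').eq_bot, finrank_bot, hd2, hWd] at h3
    omega

omit [Finite V] [Finite F] in
theorem involution_inv (har : a ^ 2 = 1) {W : Submodule F V} (h : W ≤ mv a) : Inv a W := fun x hx => by
  rw [mv_involution har (h hx)]; exact W.neg_mem hx

omit [Finite V] [Finite F] in
/-- Invariant totally singular subspaces of an involution. -/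
theorem involution_ts (hG : QGood Q a) (h2 : (2 : F) ≠ 0) (har : a ^ 2 = 1) {W₁ W₂ : Submodule F V}
    (l₁ : W₁ ≤ mv a) (t₁ : TS Q W₁) (l₂ : W₂ ≤ fx a) (t₂ : TS Q W₂) {m : ℕ}
    (hm : m ≤ finrank F W₁ + finrank F W₂) :
    ∃ W : Submodule F V, Inv a W ∧ TS Q W ∧ finrank F W = m := by
  obtain ⟨hc, horth, -, -⟩ := fixed_decomp hG (r := 2) (by exact_mod_cast h2) har
  obtain ⟨X₁, e₁, d₁⟩ := exists_sub_dim (W := W₁) (k := min m (finrank F W₁)) (min_le_right _ _)
  obtain ⟨X₂, e₂, d₂⟩ := exists_sub_dim (W := W₂) (k := m - min m (finrank F W₁)) (by omega)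
  refine ⟨X₁ ⊔ X₂, (involution_inv har (e₁.trans l₁)).sup (inv_of_le_fx (e₂.trans l₂)),
    ts_sup (ts_mono e₁ t₁) (ts_mono e₂ t₂) fun x hx => mem_orth.2 fun y hy =>
      mem_orth.1 (horth.symm ▸ l₁ (e₁ hx)) y (l₂ (e₂ hy)), ?_⟩
  have h1 := Submodule.finrank_sup_add_finrank_inf_eq X₁ X₂
  rw [(hc.disjoint.symm.mono (e₁.trans l₁) (e₂.trans l₂)).eq_bot, finrank_bot, d₁, d₂] at h1
  omega

/-- The type of the moved space of an involution in the commutator subgroup. -/
theorem involution_mv (hG : QGood Q a) (h2 : (2 : F) ≠ 0) (har : a ^ 2 = 1) {g : oG Q}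
    (hg : g ∈ commutator (oG Q)) (hga : ∀ x, g.1 x = a x) :
    Even (finrank F (mv a)) ∧ (IsSquare (-1 : F) → Plus Q (mv a)) := by
  obtain ⟨hc, horth, hNE, hNR⟩ := fixed_decomp hG (r := 2) (by exact_mod_cast h2) har
  obtain ⟨hd, hs⟩ := (Quad.mem_commutator_chars hG.nondeg (hex_of_two h2 _) g).1 hg
  have hfix : Quad.fixSub g = fx a := by
    ext x
    rw [Quad.mem_fixSub, hga]
    exact ⟨mem_fx, fx_apply⟩
  have hev : Even (finrank F (mv a)) := by
    have h := (show (-1 : ℤˣ) ^ (finrank F V + finrank F (Quad.fixSub g)) = 1 from hd)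
    rw [hfix] at h
    have he : Even (finrank F V + finrank F (fx a)) := by
      by_contra hn
      rw [(Nat.not_even_iff_odd.1 hn).neg_one_pow] at h
      exact absurd h (by decide)
    have := finrank_fx_add (a := a)
    rw [Nat.even_iff] at he ⊢
    omega
  refine ⟨hev, fun hsq => ?_⟩
  obtain ⟨j, hj⟩ := hev
  have horth' : orth Q (mv a) = fx a := by rw [← horth, orth_orth hG.nondeg]
  obtain ⟨-, -, hn⟩ := neg_one_chars hG.nondeg h2 j (mv a) hNR (by omega) g
    (fun x hx => by rw [hga, mv_involution har hx])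
    (fun x hx => by rw [hga]; exact fx_apply (horth' ▸ hx))
  by_contra hp
  have h5 := hn hp
  rw [hs h2, Quad.qs_eq_one.2 hsq, one_pow] at h5
  exact absurd h5 (by decide)

/-- An involution in the commutator subgroup whose moved space is an elliptic plane. -/
theorem exists_elliptic_involution (hQ : (polarBilin Q).Nondegenerate) (h2 : (2 : F) ≠ 0)
    (h1 : ¬ IsSquare (-1 : F)) (hn : 5 ≤ finrank F V) :
    ∃ g : oG Q, g ∈ commutator (oG Q) ∧ (g.1 : V →ₗ[F] V) ^ 2 = 1 ∧
      finrank F (fx (g.1 : V →ₗ[F] V)) + 2 = finrank F V ∧ ¬ Plus Q (mv (g.1 : V →ₗ[F] V)) := by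
  obtain ⟨e, f, he, hf, hQe, hQf, hef⟩ := exists_hyp_in (ndon_top hQ) (by rw [finrank_top]; omega)
  obtain ⟨hS, hSd, -⟩ := ndon_hyp hQe hQf hef
  obtain ⟨hU', -, hd'⟩ := ndon_diff hQ (ndon_top hQ) hS le_top
  rw [finrank_top] at hd'
  obtain ⟨e', f', he', hf', hQe', hQf', hef'⟩ := exists_hyp_in hU' (by omega)
  set v := e + f with hvdef
  set w := e' + f' with hwdef
  have hv : Q v = 1 := by rw [hvdef, Quad.map_add', hQe, hQf, hef]; ring
  have hw : Q w = 1 := by rw [hwdef, Quad.map_add', hQe', hQf', hef']; ring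
  have hvw : polar Q v w = 0 := by
    rw [polar_comm]
    exact mem_orth.1 (Submodule.add_mem _ he'.2 hf'.2) v
      (Submodule.add_mem _ (left_mem_pairSpan e f) (right_mem_pairSpan e f))
  obtain ⟨hP, hPd⟩ := ndon_pairSpan (Q := Q) (x := v) (y := w) (by
    rw [Quad.polar_self', Quad.polar_self', hvw, hv, hw]
    simpa using h2)
  have hQv : Q v ≠ 0 := by rw [hv]; exact one_ne_zero
  have hQw : Q w ≠ 0 := by rw [hw]; exact one_ne_zero
  set g := rO hQv * rO hQw with hg
  have hgM : ∀ x ∈ pairSpan (F := F) v w, g.1 x = -x := fun x hx => by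
    obtain ⟨s, t, rfl⟩ := mem_pairSpan.1 hx
    rw [hg, oG_mul_apply, map_add, map_smul, map_smul, rO_fix hQw hvw, rO_self hQw, map_add, map_smul, map_smul,
      map_neg, rO_self hQv, rO_fix hQv (by rw [polar_comm]; exact hvw)]
    simp only [smul_neg, neg_add]
  have hgP : ∀ x ∈ orth Q (pairSpan v w), g.1 x = x := fun x hx => by
    rw [hg, oG_mul_apply, rO_fix hQw (mem_orth.1 hx w (right_mem_pairSpan v w)),
      rO_fix hQv (mem_orth.1 hx v (left_mem_pairSpan v w))]
  set a := (g.1 : V →ₗ[F] V) with ha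
  have har : a ^ 2 = 1 := LinearMap.ext fun x => by
    obtain ⟨u, hu, y, hy, rfl⟩ := Submodule.mem_sup.1
      ((isCompl_orth hQ hP).sup_eq_top.symm ▸ Submodule.mem_top (x := x))
    rw [pow_two, Module.End.mul_apply, Module.End.one_apply]
    show g.1 (g.1 (u + y)) = u + y
    rw [map_add, hgM u hu, hgP y hy, map_add, hgP y hy, map_neg, hgM u hu, neg_neg]
  have hmv : mv a = pairSpan v w := by
    refine le_antisymm ?_ fun u hu => ⟨(-(2 : F)⁻¹) • u, ?_⟩
    · rintro _ ⟨x, rfl⟩
      obtain ⟨u, hu, y, hy, rfl⟩ := Submodule.mem_sup.1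
        ((isCompl_orth hQ hP).sup_eq_top.symm ▸ Submodule.mem_top (x := x))
      rw [LinearMap.sub_apply, Module.End.one_apply]
      show g.1 (u + y) - (u + y) ∈ _
      rw [map_add, hgM u hu, hgP y hy, show -u + y - (u + y) = -u - u by abel]
      exact Submodule.sub_mem _ (Submodule.neg_mem _ hu) hu
    · rw [LinearMap.sub_apply, Module.End.one_apply]
      show g.1 ((-(2 : F)⁻¹) • u) - (-(2 : F)⁻¹) • u = u
      rw [map_smul, hgM u hu, smul_neg, ← neg_smul, ← sub_smul]
      convert one_smul F u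
      field_simp
      ring
  have hnp : ¬ Plus Q (mv a) := by
    rw [hmv]
    rintro ⟨W, hle, hW, hWd⟩
    obtain ⟨x, hx, hx0⟩ := W.exists_mem_ne_zero_of_ne_bot (fun h0 => by rw [h0, finrank_bot] at hWd; omega)
    obtain ⟨s, t, rfl⟩ := mem_pairSpan.1 (hle hx)
    have := hW _ hx
    rw [Quad.map_add', Quad.map_smul', Quad.map_smul', polar_smul_left, polar_smul_right, hv, hw, hvw] at this
    simp only [smul_eq_mul] at this
    by_cases ht : t = 0
    · subst ht
      have hs : s = 0 := by simpa using this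
      subst hs
      simp at hx0
    · exact h1 ⟨s / t, by field_simp; linear_combination -this⟩
  refine ⟨g, (Quad.mem_commutator_chars hQ (hex_of_two h2 _) g).2 ?_, har, ?_, hnp⟩
  · obtain ⟨hd, hs⟩ := Quad.exists_rO_prod hQ (hex_of_two h2 (finrank F V)) hQv hQw
    exact ⟨hd, fun h => by rw [hg, hs h, hv, hw, mul_one, Quad.qs_one]⟩
  · have := finrank_fx_add (a := a)
    rw [hmv, hPd] at this
    exact this

end Cfsg.Agent.Classical.OrthElem
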