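import Cfsg.Agent.Classical.OrthElem.PrimeOrder

/-!
# Isometries of odd prime order with prescribed blocks
-/

set_option autoImplicit false

namespace Cfsg.Agent.Classical.OrthElem

open Module Polynomial Cfsg.Agent.MatModule
open QuadraticMap (polar polarBilin)
open Cfsg.Agent.Classical.SympElem (Inv fx mv inv_fx inv_mv fx_apply mem_fx aeval_mem cyc cyc_props poly_facts
  dvd_cyclotomic frobenius_inverse eval_one_cyclo inv_top inv_bot)

universe u v

variable {F : Type u} [Field F]

/-- Every space of dimension `2 h` of the given type has a fixed-point-free isometry of order `r`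
annihilated by `f`. -/
def BlockAt (F : Type u) [Field F] (r h : ℕ) (s : Prop) (f : F[X]) : Prop :=
  ∀ (V : Type v) [AddCommGroup V] [Module F V] [FiniteDimensional F V] (Q : QuadraticForm F V),
    (polarBilin Q).Nondegenerate → finrank F V = 2 * h → (Plus Q ⊤ ↔ s) →
      ∃ a : Module.End F V, QGood Q a ∧ a ^ r = 1 ∧ (∀ x, a x = x → x = 0) ∧ aeval a f = 0

theorem blockAt_of_model [Fintype F] {r h : ℕ} {s : Prop} {f : F[X]} {X : Type u} [AddCommGroup X] [Module F X]
    [FiniteDimensional F X] {R : QuadraticForm F X} {b : Module.End F X} (hd : finrank F X = 2 * h)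
    (hb : QGood R b) (hbr : b ^ r = 1) (hfree : ∀ x, b x = x → x = 0) (hbf : aeval b f = 0)
    (hs : Plus R ⊤ ↔ s) : BlockAt.{u, v} F r h s f := by
  intro V _ _ _ Q hQ hV hp
  obtain ⟨g, hg⟩ := iso_of_plus hb.nondeg hQ hd hV (hs.trans hp.symm)
  refine ⟨g.conj b, ⟨hQ, fun x => ?_⟩, ?_, fun x hx => ?_, ?_⟩
  · rw [LinearEquiv.conj_apply_apply, hg, hb.pres]
    conv_rhs => rw [← g.apply_symm_apply x, hg]
  · have : ∀ k, (g.conj b) ^ k = g.conj (b ^ k) := fun k => by
      induction k with
      | zero => rw [pow_zero, pow_zero, Module.End.one_eq_id, Module.End.one_eq_id, LinearEquiv.conj_id]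
      | succ k ih =>
        rw [pow_succ, pow_succ, ih, Module.End.mul_eq_comp, Module.End.mul_eq_comp, LinearEquiv.conj_comp]
    rw [this, hbr, Module.End.one_eq_id, LinearEquiv.conj_id, ← Module.End.one_eq_id]
  · rw [LinearEquiv.conj_apply_apply] at hx
    have := hfree (g.symm x) (by rw [← g.symm_apply_apply (b (g.symm x)), hx])
    exact g.symm.map_eq_zero_iff.1 this
  · let φ : Module.End F X →ₐ[F] Module.End F V := (g.conjAlgEquiv F).toAlgHom
    have e : φ b = g.conj b := rfl
    rw [← e, Polynomial.aeval_algHom_apply, hbf, map_zero]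

theorem exists_functional {K : Type u} [Field K] [Algebra F K] : ∃ L : K →ₗ[F] F, L 1 = 1 := by
  obtain ⟨L, hL⟩ := LinearMap.exists_leftInverse_of_injective (LinearMap.toSpanSingleton F K (1 : K))
    (LinearMap.ker_eq_bot.2 fun x y h => smul_left_injective F (one_ne_zero (α := K)) h)
  exact ⟨L, by simpa using LinearMap.congr_fun hL 1⟩

variable [Fintype F] {r : ℕ} [Fact r.Prime]

theorem root_pow {f : F[X]} (hfd : f ∣ cyclotomic r F) :
    (AdjoinRoot.root f) ^ r = 1 := by
  have := AdjoinRoot.mk_eq_zero.2 (dvd_cyclotomic hfd)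
  rwa [map_sub, map_pow, AdjoinRoot.mk_X, AdjoinRoot.mk_C, map_one, sub_eq_zero] at this

theorem root_ne_one (hr : (r : F) ≠ 0) {f : F[X]} (hf : f.Monic) (hirr : Irreducible f)
    (hfd : f ∣ cyclotomic r F) : AdjoinRoot.root f ≠ 1 := fun he => by
  haveI := Fact.mk hirr
  have h1 := AdjoinRoot.eval₂_root f
  rw [he, eval₂_at_one] at h1
  exact eval_one_cyclo hr hfd ((AdjoinRoot.of f).injective (h1.trans (map_zero _).symm))

/-- The hermitian block. -/
theorem blockAt_even (hr : (r : F) ≠ 0) {f : F[X]} (hf : f.Monic) (hirr : Irreducible f)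
    (hfd : f ∣ cyclotomic r F) {h : ℕ} (hi : orderOf (Fintype.card F : ZMod r) = h + h) :
    BlockAt.{u, v} F r h False f := by
  obtain ⟨-, -, hdeg⟩ := factor_facts hr hf hirr hfd
  have hh : 0 < h := by have := hirr.natDegree_pos; omega
  haveI := Fact.mk hirr
  set K := AdjoinRoot f
  set ρ : K := AdjoinRoot.root f with hρ
  let pb := AdjoinRoot.powerBasis (f := f) hirr.ne_zero
  haveI : FiniteDimensional F K := pb.finite
  have hK : finrank F K = h + h := by
    rw [pb.finrank]
    show f.natDegree = _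
    omega
  haveI : Finite K := Module.finite_of_finite F
  letI : Fintype K := Fintype.ofFinite K
  have hcard : Fintype.card K = Fintype.card F ^ (h + h) := by rw [Module.card_eq_pow_finrank (K := F), hK]
  set σ : K →ₐ[F] K := FiniteField.frobeniusAlgHom F K ^ h with hσ
  have hfrob : ∀ (j : ℕ) x, (FiniteField.frobeniusAlgHom F K ^ j) x = x ^ Fintype.card F ^ j := by
    intro j
    induction j with
    | zero => intro x; simp
    | succ j ih =>
      intro x
      rw [pow_succ', AlgHom.mul_apply, FiniteField.coe_frobeniusAlgHom, ih]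
      show (x ^ Fintype.card F ^ j) ^ Fintype.card F = _
      rw [← pow_mul, ← pow_succ]
  have hσapp : ∀ x, σ x = x ^ Fintype.card F ^ h := hfrob h
  have hσσ : ∀ x, σ (σ x) = x := fun x => by
    rw [hσapp, hσapp, ← pow_mul, ← pow_add, ← hcard, FiniteField.pow_card]
  obtain ⟨s, hs⟩ := frobenius_inverse (F := F) (r := r) hi hh
  have hρσ : σ ρ * ρ = 1 := by rw [hσapp, ← pow_succ, hs, pow_mul, root_pow hfd, one_pow]
  obtain ⟨z, hz⟩ : ∃ z, z + σ z ≠ 0 := by
    by_contra hc
    push Not at hc
    have hneg : ∀ z, σ z = -z := fun z => eq_neg_of_add_eq_zero_right (hc z)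
    have h1 := hneg ρ
    have h2 : (-1 : K) = 1 := by have := hneg 1; rw [map_one] at this; exact this.symm
    rw [← neg_one_mul ρ, h2, one_mul] at h1
    rw [h1, ← pow_two] at hρσ
    rcases sq_eq_one_iff.1 hρσ with h3 | h3
    · exact root_ne_one hr hf hirr hfd h3
    · exact root_ne_one hr hf hirr hfd (h3.trans h2)
  set z₁ := z / (z + σ z) with hz₁
  have htr : z₁ + σ z₁ = 1 := by
    rw [hz₁, map_div₀, map_add, hσσ, add_comm (σ z) z, ← add_div, div_self hz]
  obtain ⟨L, hL⟩ := exists_functional (F := F) (K := K)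
  let B : LinearMap.BilinMap F K F :=
    ((LinearMap.mul F K).compl₂ σ.toLinearMap).compr₂ L
  let R : QuadraticForm F K := B.toQuadraticMap
  have hR : ∀ x, R x = L (x * σ x) := fun x => rfl
  have hpol : ∀ x y, polar R x y = L (x * σ y + y * σ x) := fun x y => by
    rw [polar, hR, hR, hR, map_add σ, ← map_sub, ← map_sub]
    congr 1
    ring
  set b : Module.End F K := LinearMap.mulLeft F ρ with hb
  have hpw : b ^ r = 1 := by
    rw [hb, LinearMap.pow_mulLeft, root_pow hfd, LinearMap.mulLeft_one]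
    rfl
  have hfree : ∀ x, b x = x → x = 0 := fun x hx => by
    have : (ρ - 1) * x = 0 := by rw [sub_mul, one_mul]; exact sub_eq_zero.2 hx
    exact (mul_eq_zero.1 this).resolve_left (sub_ne_zero.2 (root_ne_one hr hf hirr hfd))
  have hG : QGood R b := by
    refine ⟨Quad.nondeg_of fun x hx => ?_, fun x => ?_⟩
    · by_contra h0
      have hσx : σ x ≠ 0 := fun h1 => h0 (by rw [← hσσ x, h1, map_zero])
      -- a partner with trace one
      have h2 := hx (z₁ / σ x)
      rw [hpol, map_div₀, hσσ, mul_div_cancel₀ _ h0, div_mul_cancel₀ _ hσx, add_comm, htr, hL] at h2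
      exact one_ne_zero h2
    · rw [hR, hR, hb, LinearMap.mulLeft_apply, map_mul σ]
      congr 1
      linear_combination (x * σ x) * hρσ
  have hbf : aeval b f = 0 := by
    have hb' : b = Algebra.lmul F K ρ := LinearMap.ext fun x => rfl
    rw [hb', Polynomial.aeval_algHom_apply, AdjoinRoot.aeval_eq, AdjoinRoot.mk_self, map_zero]
  have hag : aeval b (cyclotomic r F) = 0 := by
    obtain ⟨w, hw⟩ := hfd
    rw [hw, map_mul, hbf, zero_mul]
  refine blockAt_of_model (X := K) (by rw [hK, two_mul]) hG hpw hfree hbf ?_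
  rw [plus_iff_of_even hG hr hag hpw ⟨h, hi⟩, hK, hi, Nat.div_self (by omega)]
  simp

/-- The hyperbolic block. -/
theorem blockAt_odd (hr : (r : F) ≠ 0) (hr2 : r ≠ 2) (hodd : Odd (orderOf (Fintype.card F : ZMod r))) :
    BlockAt.{u, v} F r (orderOf (Fintype.card F : ZMod r)) True (cyclotomic r F) := by
  obtain ⟨f, hf, hirr, hfd⟩ : ∃ f : F[X], f.Monic ∧ Irreducible f ∧ f ∣ cyclotomic r F := by
    obtain ⟨t, fs, ht, -, hfs⟩ := SympElem.exists_factors (F := F) (r := r) hr
    have := (Fact.out : r.Prime).two_le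
    rcases Nat.eq_zero_or_pos t with rfl | ht0
    · rw [zero_mul] at ht; omega
    · exact ⟨fs ⟨0, ht0⟩, hfs _⟩
  obtain ⟨-, -, hdeg⟩ := factor_facts hr hf hirr hfd
  haveI := Fact.mk hirr
  set K := AdjoinRoot f
  set ρ : K := AdjoinRoot.root f with hρ
  let pb := AdjoinRoot.powerBasis (f := f) hirr.ne_zero
  haveI : FiniteDimensional F K := pb.finite
  have hK : finrank F K = orderOf (Fintype.card F : ZMod r) := by
    rw [pb.finrank]
    exact hdeg
  obtain ⟨L, hL⟩ := exists_functional (F := F) (K := K)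
  let B : LinearMap.BilinMap F (K × K) F :=
    ((LinearMap.mul F K).compl₁₂ (LinearMap.fst F K K) (LinearMap.snd F K K)).compr₂ L
  let R : QuadraticForm F (K × K) := B.toQuadraticMap
  have hR : ∀ x, R x = L (x.1 * x.2) := fun x => rfl
  have hpol : ∀ x y, polar R x y = L (x.1 * y.2 + y.1 * x.2) := fun x y => by
    rw [polar, hR, hR, hR, Prod.fst_add, Prod.snd_add, ← map_sub, ← map_sub]
    congr 1
    ring
  have hρ0 : ρ ≠ 0 := fun h0 => by
    have := root_pow (F := F) (r := r) hfd
    rw [← hρ, h0, zero_pow (Fact.out : r.Prime).ne_zero] at this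
    exact zero_ne_one this
  set b : Module.End F (K × K) := (LinearMap.mulLeft F ρ).prodMap (LinearMap.mulLeft F ρ⁻¹) with hb
  have hG : QGood R b := by
    refine ⟨Quad.nondeg_of fun x hx => ?_, fun x => ?_⟩
    · refine Prod.ext ?_ ?_
      · by_contra h0
        have := hx (0, x.1⁻¹)
        rw [hpol, zero_mul, add_zero, mul_inv_cancel₀ h0, hL] at this
        exact one_ne_zero this
      · by_contra h0
        have := hx (x.2⁻¹, 0)
        rw [hpol, mul_zero, zero_add, inv_mul_cancel₀ h0, hL] at this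
        exact one_ne_zero this
    · rw [hR, hR]
      show L ((ρ * x.1) * (ρ⁻¹ * x.2)) = _
      congr 1
      rw [mul_mul_mul_comm, mul_inv_cancel₀ hρ0, one_mul]
  have hpw : b ^ r = 1 := by
    have hk : ∀ (k : ℕ) (x : K × K), (b ^ k) x = (ρ ^ k * x.1, ρ⁻¹ ^ k * x.2) := by
      intro k
      induction k with
      | zero => intro x; simp
      | succ k ih =>
        intro x
        rw [pow_succ', Module.End.mul_apply, ih]
        show (ρ * (ρ ^ k * x.1), ρ⁻¹ * (ρ⁻¹ ^ k * x.2)) = _
        rw [← mul_assoc, ← mul_assoc, ← pow_succ', ← pow_succ']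
    refine LinearMap.ext fun x => ?_
    rw [hk, inv_pow, root_pow hfd, inv_one, one_mul, one_mul]
    rfl
  have hfree : ∀ x, b x = x → x = 0 := fun x hx => by
    have h1 : (ρ - 1) * x.1 = 0 := by rw [sub_mul, one_mul]; exact sub_eq_zero.2 (congrArg Prod.fst hx)
    have h2 : (ρ⁻¹ - 1) * x.2 = 0 := by rw [sub_mul, one_mul]; exact sub_eq_zero.2 (congrArg Prod.snd hx)
    have hne := root_ne_one (F := F) hr hf hirr hfd
    exact Prod.ext ((mul_eq_zero.1 h1).resolve_left (sub_ne_zero.2 hne))
      ((mul_eq_zero.1 h2).resolve_left (sub_ne_zero.2 fun e => hne (inv_eq_one.1 e)))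
  have hag : aeval b (cyclotomic r F) = 0 := by
    refine LinearMap.ext fun x => ?_
    have h1 := congrArg (fun p => aeval b p x) (cyclotomic_prime_mul_X_sub_one F r)
    simp only [map_mul, map_sub, map_pow, aeval_X, map_one, hpw, sub_self, LinearMap.zero_apply,
      Module.End.mul_apply] at h1
    obtain ⟨y, rfl⟩ : ∃ y, (b - 1) y = x :=
      LinearMap.injective_iff_surjective.1 ((injective_iff_map_eq_zero _).2 fun y hy =>
        hfree y (sub_eq_zero.1 hy)) x
    rw [LinearMap.zero_apply]
    exact (congrArg (fun p => aeval b p y) (cyclotomic_prime_mul_X_sub_one F r)).trans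
      (by simp [hpw]) |> fun e => by simpa [Module.End.mul_apply] using e
  refine blockAt_of_model (X := K × K) (by rw [Module.finrank_prod, hK, two_mul]) hG hpw hfree hag ?_
  exact iff_of_true (plus_of_odd hG hr hr2 hag hodd).2 trivial

variable {V : Type v} [AddCommGroup V] [Module F V] [FiniteDimensional F V] {Q : QuadraticForm F V}

omit [Fintype F] [Fact r.Prime] in
/-- Gluing isometries of two orthogonal summands, the first without fixed vectors. -/
theorem glue (hQ : (polarBilin Q).Nondegenerate) {S : Submodule F V} (hS : NdOn Q S)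
    {a₁ : Module.End F S} {a₂ : Module.End F (orth Q S)} (h₁ : QGood (qres Q S) a₁)
    (h₂ : QGood (qres Q (orth Q S)) a₂) :
    ∃ a : Module.End F V, QGood Q a ∧ (∀ x : S, a x = a₁ x) ∧ ∀ y : orth Q S, a y = a₂ y := by
  have hc := isCompl_orth hQ hS
  let e := Submodule.prodEquivOfIsCompl S (orth Q S) hc
  let a : Module.End F V := e.toLinearMap ∘ₗ a₁.prodMap a₂ ∘ₗ e.symm.toLinearMap
  have ha1 : ∀ x : S, a x = a₁ x := fun x => by
    simp [a, e, Submodule.prodEquivOfIsCompl_symm_apply_left]
  have ha2 : ∀ y : orth Q S, a y = a₂ y := fun y => by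
    simp [a, e, Submodule.prodEquivOfIsCompl_symm_apply_right]
  refine ⟨a, ⟨hQ, fun x => ?_⟩, ha1, ha2⟩
  obtain ⟨s, hs, t, ht, rfl⟩ := Submodule.mem_sup.1 (hc.sup_eq_top.symm ▸ Submodule.mem_top (x := x))
  have h0 : ∀ u ∈ S, ∀ w ∈ orth Q S, polar Q u w = 0 := fun u hu w hw => by
    rw [QuadraticMap.polar_comm]; exact mem_orth.1 hw u hu
  rw [map_add, ha1 ⟨s, hs⟩, ha2 ⟨t, ht⟩, Quad.map_add', Quad.map_add', h0 _ (a₁ _).2 _ (a₂ _).2, h0 _ hs _ ht,
    ← qres_apply, ← qres_apply, h₁.pres, h₂.pres]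
  rfl

omit [Fintype F] [FiniteDimensional F V] [Fact r.Prime] in
theorem aeval_agree {W : Submodule F V} {a : Module.End F V} {b : Module.End F W} (h : ∀ x : W, a x = b x)
    (g : F[X]) : ∀ x : W, aeval a g (x : V) = (aeval b g x : W) := by
  intro x
  have hk : ∀ (k : ℕ) (z : W), (a ^ k) (z : V) = ((b ^ k) z : W) := by
    intro k
    induction k with
    | zero => intro z; rfl
    | succ k ih => intro z; rw [pow_succ', pow_succ', Module.End.mul_apply, Module.End.mul_apply, ih, h]
  simp only [aeval_eq_sum_range, LinearMap.sum_apply, LinearMap.smul_apply, Submodule.coe_sum,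
    Submodule.coe_smul, hk]

theorem exists_elt (hr : (r : F) ≠ 0) {h : ℕ} (hh : 0 < h) {s : Prop} :
    ∀ (N : ℕ) (fs : Fin N → F[X]), (∀ j, BlockAt.{u, v} F r h s (fs j)) →
      ∀ (V : Type v) [AddCommGroup V] [Module F V] [FiniteDimensional F V] (Q : QuadraticForm F V),
        (polarBilin Q).Nondegenerate → 2 * h * N ≤ finrank F V →
        (2 * h * N = finrank F V → (Plus Q ⊤ ↔ (s ∨ Even N))) →
        ∃ a : Module.End F V, QGood Q a ∧ a ^ r = 1 ∧ finrank F (fx a) + 2 * h * N = finrank F V ∧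
          (∀ y ∈ mv a, aeval a (∏ j, fs j) y = 0) ∧
          (Function.Injective fs → (∀ j, (fs j).Monic ∧ Irreducible (fs j) ∧ (fs j).natDegree = 2 * h) →
            ∀ W : Submodule F V, Inv a W → TS Q W → W ⊓ mv a = ⊥) := by
  intro N
  induction N with
  | zero =>
    intro fs _ V _ _ _ Q hQ _ _
    have h1 : mv (1 : Module.End F V) = ⊥ := by rw [mv, sub_self, LinearMap.range_zero]
    refine ⟨1, ⟨hQ, fun x => rfl⟩, one_pow r, ?_, fun y hy => ?_, fun _ _ W _ _ => by rw [h1, inf_bot_eq]⟩
    · rw [fx, sub_self, LinearMap.ker_zero, finrank_top, mul_zero, add_zero]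
    · rw [h1, Submodule.mem_bot] at hy
      rw [hy, map_zero]
  | succ N ih =>
    intro fs hfs V _ _ _ Q hQ hle htype
    rw [Nat.mul_succ] at hle
    obtain ⟨S, hS, hSd, hSp⟩ : ∃ S : Submodule F V, NdOn Q S ∧ finrank F S = 2 * h ∧ (Plus Q S ↔ s) := by
      rcases lt_or_ge (2 * h) (finrank F V) with hlt | hge
      · obtain ⟨S, -, h1, h2, h3⟩ := exists_sub_type hQ (ndon_top hQ) s h (Or.inl ⟨hh, by rwa [finrank_top]⟩)
        exact ⟨S, h1, h2, h3⟩
      · have hN : N = 0 := by
          by_contra hN0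
          have : 2 * h * 1 ≤ 2 * h * N := Nat.mul_le_mul_left _ (Nat.pos_of_ne_zero hN0)
          omega
        subst hN
        refine ⟨⊤, ndon_top hQ, by rw [finrank_top]; omega, ?_⟩
        rw [htype (by omega)]
        simp
    obtain ⟨a₁, hG₁, hr₁, hfree₁, hf₁⟩ := hfs 0 S (qres Q S) (nondeg_qres hS) hSd (plus_qres.trans hSp)
    have hPd : finrank F (orth Q S) + 2 * h = finrank F V := by
      rw [finrank_orth hQ, hSd]
      omega
    obtain ⟨a₂, hG₂, hr₂, hfx₂, hkill₂, hno₂⟩ := ih (fun j => fs j.succ) (fun j => hfs _) (orth Q S)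
      (qres Q (orth Q S)) (nondeg_qres (ndon_orth hQ hS)) (by omega) (fun he => by
        have hev : Even (finrank F (orth Q S)) := by
          rw [← he, mul_assoc]; exact even_two_mul _
        have h1 := plus_sup_iff hQ hS (ndon_orth hQ hS) (orth_le le_rfl) ⟨h, by omega⟩ hev
        rw [(isCompl_orth hQ hS).sup_eq_top, htype (by rw [Nat.mul_succ]; omega), hSp, Nat.even_add_one] at h1
        rw [plus_qres]
        by_cases hs : s
        · simp only [hs, true_or, true_iff] at h1 ⊢
          exact iff_of_true h1 trivial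
        · simp only [hs, false_or, false_iff] at h1 ⊢
          exact ⟨fun hp => by_contra fun hn => h1.1 hn hp, fun hn => by_contra fun hp => (h1.2 hp) hn⟩)
    obtain ⟨a, hG, ha1, ha2⟩ := glue hQ hS hG₁ hG₂
    have hc := isCompl_orth hQ hS
    have hsplit : ∀ x : V, ∃ (b : S) (y : orth Q S), x = (b : V) + (y : V) := fun x => by
      obtain ⟨b, hb, y, hy, rfl⟩ := Submodule.mem_sup.1 (hc.sup_eq_top.symm ▸ Submodule.mem_top (x := x))
      exact ⟨⟨b, hb⟩, ⟨y, hy⟩, rfl⟩
    have har : a ^ r = 1 := by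
      refine LinearMap.ext fun x => ?_
      obtain ⟨b, y, rfl⟩ := hsplit x
      have e1 := aeval_agree ha1 (X ^ r : F[X]) b
      have e2 := aeval_agree ha2 (X ^ r : F[X]) y
      simp only [map_pow, aeval_X, hr₁, hr₂, Module.End.one_apply] at e1 e2
      rw [map_add, e1, e2, Module.End.one_apply]
    have hfx : fx a = (fx a₂).map (orth Q S).subtype := by
      ext x
      constructor
      · intro hx
        obtain ⟨b, y, rfl⟩ := hsplit x
        have h0 := fx_apply hx
        rw [map_add, ha1, ha2] at h0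
        have h1 : ((a₁ b : S) : V) - b = (y : V) - (a₂ y : orth Q S) := by
          rw [sub_eq_sub_iff_add_eq_add, h0]
          abel
        have h2 : ((a₁ b : S) : V) - b = 0 := Submodule.disjoint_def.1 hc.disjoint _
          (S.sub_mem (a₁ b).2 b.2) (h1 ▸ (orth Q S).sub_mem y.2 (a₂ y).2)
        have hb0 : b = 0 := hfree₁ b (Subtype.ext (sub_eq_zero.1 h2))
        subst hb0
        refine ⟨y, mem_fx (Subtype.ext (sub_eq_zero.1 (h1.symm.trans h2)).symm), ?_⟩
        simp
      · rintro ⟨y, hy, rfl⟩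
        exact mem_fx ((ha2 y).trans (congrArg Subtype.val (fx_apply hy)))
    have hfxd : finrank F (fx a) + 2 * h * (N + 1) = finrank F V := by
      rw [hfx, SympElem.finrank_lift, Nat.mul_succ]
      omega
    have hmv : mv a = S ⊔ (mv a₂).map (orth Q S).subtype := by
      refine Submodule.eq_of_le_of_finrank_le ?_ ?_
      · rintro _ ⟨x, rfl⟩
        obtain ⟨b, y, rfl⟩ := hsplit x
        rw [LinearMap.sub_apply, Module.End.one_apply, map_add, ha1, ha2,
          show ((a₁ b : S) : V) + (a₂ y : orth Q S) - ((b : V) + y) = (((a₁ b : S) : V) - b) +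
            ((a₂ y : orth Q S) - (y : V)) by abel]
        exact Submodule.add_mem_sup (S.sub_mem (a₁ b).2 b.2) ⟨(a₂ - 1) y, ⟨y, rfl⟩, rfl⟩
      · have h1 := Submodule.finrank_add_le_finrank_add_finrank S ((mv a₂).map (orth Q S).subtype)
        have h2 := finrank_fx_add (a := a)
        have h3 := finrank_fx_add (a := a₂)
        rw [hSd, SympElem.finrank_lift] at h1
        rw [Nat.mul_succ] at hfxd
        omega
    have hkill : ∀ y ∈ mv a, aeval a (∏ j, fs j) y = 0 := by
      intro x hx
      rw [hmv] at hx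
      obtain ⟨b, hb, _, ⟨y, hy, rfl⟩, rfl⟩ := Submodule.mem_sup.1 hx
      rw [Fin.prod_univ_succ, map_add]
      have e1 : aeval a (fs 0 * ∏ j : Fin N, fs j.succ) ((⟨b, hb⟩ : S) : V) = 0 := by
        rw [aeval_agree ha1, mul_comm, map_mul, hf₁, mul_zero]
        rfl
      have e2 : aeval a (fs 0 * ∏ j : Fin N, fs j.succ) (y : V) = 0 := by
        rw [aeval_agree ha2, map_mul, Module.End.mul_apply, hkill₂ y hy, map_zero]
        rfl
      exact (congrArg₂ (· + ·) e1 e2).trans (add_zero 0)
    refine ⟨a, hG, har, hfxd, hkill, fun hinj hprop W hW hts => ?_⟩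
    rw [Submodule.eq_bot_iff]
    rintro x ⟨hxW, hxm⟩
    rw [hmv] at hxm
    obtain ⟨b, hb, _, ⟨y, hy, rfl⟩, rfl⟩ := Submodule.mem_sup.1 hxm
    obtain ⟨hf0, hirr0, hdeg0⟩ := hprop 0
    have hno := hno₂ (fun j k hjk => Fin.succ_injective _ (hinj hjk)) (fun j => hprop _)
      (W.comap (orth Q S).subtype) (fun w hw => by
        show ((a₂ w : orth Q S) : V) ∈ W
        rw [← ha2]; exact hW _ hw) (ts_comap hts)
    have hyz : aeval a₂ (fs 0) y = 0 := by
      have hmem : aeval a₂ (fs 0) y ∈ mv a₂ := aeval_mem inv_mv _ hy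
      refine (Submodule.eq_bot_iff _).1 hno _ ⟨?_, hmem⟩
      have := aeval_mem hW (fs 0) hxW
      rw [map_add] at this
      have e1 : aeval a (fs 0) ((⟨b, hb⟩ : S) : V) = 0 := by rw [aeval_agree ha1, hf₁]; rfl
      rw [show aeval a (fs 0) b = 0 from e1, zero_add] at this
      show ((aeval a₂ (fs 0) y : orth Q S) : V) ∈ W
      rw [← aeval_agree ha2]
      exact this
    have hy0 : y = 0 := by
      obtain ⟨u, w, huw⟩ : IsCoprime (fs 0) (∏ j : Fin N, fs j.succ) := IsCoprime.prod_right fun j _ => by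
        refine hirr0.coprime_iff_not_dvd.2 fun hd => Fin.succ_ne_zero j (hinj ?_).symm.symm
        exact (eq_of_monic_of_associated hf0 (hprop _).1 (hirr0.associated_of_dvd (hprop _).2.1 hd)).symm
      have := congrArg (fun p => aeval a₂ p y) huw
      simp only [map_add, map_mul, map_one, LinearMap.add_apply, Module.End.mul_apply, Module.End.one_apply, hyz,
        hkill₂ y hy, map_zero, add_zero] at this
      exact this.symm
    subst hy0
    simp only [map_zero, add_zero] at hxW ⊢
    by_contra hb0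
    obtain ⟨hinvc, hfinc, -⟩ := cyc_props (a := a) hf0 hirr0 hb0 (by
      rw [show b = ((⟨b, hb⟩ : S) : V) from rfl, aeval_agree ha1, hf₁]; rfl)
    have hcle : cyc a b (fs 0).natDegree ≤ W ⊓ S := Submodule.span_le.2 (by
      rintro _ ⟨j, rfl⟩
      constructor
      · have := aeval_mem hW (X ^ (j : ℕ)) hxW
        rwa [map_pow, aeval_X] at this
      · have := aeval_agree ha1 (X ^ (j : ℕ) : F[X]) ⟨b, hb⟩
        simp only [map_pow, aeval_X] at this
        show (a ^ (j : ℕ)) b ∈ S
        rw [this]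
        exact Subtype.coe_prop _)
    have hd1 := Submodule.finrank_mono hcle
    have hd2 := two_mul_le_of_ts hS (inf_le_right : W ⊓ S ≤ S) (ts_mono inf_le_left hts)
    rw [hfinc, hdeg0] at hd1
    omega

end Cfsg.Agent.Classical.OrthElem
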