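import Cfsg.Agent.Classical.OrthElem.NdUnip

/-!
# Invariant subspaces of involutions in characteristic two
-/

set_option autoImplicit false

namespace Cfsg.Agent.Classical.OrthElem

open Module QuadraticMap
open Cfsg.Agent.Classical.SympElem (Inv fx mv fx_apply mem_fx inv_of_le_fx inv_bot inv_lift lift_le finrank_lift)

universe u v

variable {F : Type u} [Field F] {V : Type v} [AddCommGroup V] [Module F V] [FiniteDimensional F V]
  {Q : QuadraticForm F V} {a : Module.End F V}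

/-- A plane or a hyperbolic block of dimension four. -/
theorem plane_or_block (hG : QGood Q a) (h2 : (2 : F) = 0) (har : ∀ x, a (a x) = x) (hd : 0 < finrank F V) :
    (∃ P : Submodule F V, Inv a P ∧ NdOn Q P ∧ finrank F P = 2) ∨
      (Plus Q ⊤ ∧ ∃ B : Submodule F V, Inv a B ∧ NdOn Q B ∧ finrank F B = 4 ∧ Plus Q B) := by
  have hself : ∀ x, polar Q x x = 0 := fun x => by rw [Quad.polar_self', h2, zero_mul]
  have hadd : ∀ x : V, x + x = 0 := fun x => by rw [← two_smul F x, h2, zero_smul]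
  have hsymm : ∀ x y, polar Q x (a y) = polar Q (a x) y := fun x y => by
    conv_lhs => rw [← har x]
    rw [polar_pres hG]
  by_cases c1 : ∃ x, polar Q x (a x) ≠ 0
  · obtain ⟨x, hx⟩ := c1
    obtain ⟨hP, hPd⟩ := ndon_pairSpan (Q := Q) (x := x) (y := a x) (by
      rw [hself, hself]
      simpa using hx)
    refine Or.inl ⟨_, fun z hz => ?_, hP, hPd⟩
    obtain ⟨s, t, rfl⟩ := mem_pairSpan.1 hz
    exact mem_pairSpan.2 ⟨t, s, by rw [map_add, map_smul, map_smul, har, add_comm]⟩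
  push Not at c1
  by_cases c2 : ∃ x ∈ fx a, ∃ y ∈ fx a, polar Q x y ≠ 0
  · obtain ⟨x, hx, y, hy, hxy⟩ := c2
    obtain ⟨hP, hPd⟩ := ndon_pairSpan (Q := Q) (x := x) (y := y) (by
      rw [hself, hself]
      simpa using hxy)
    exact Or.inl ⟨_, inv_of_le_fx (pairSpan_le hx hy), hP, hPd⟩
  push Not at c2
  right
  have hmle : mv a ≤ fx a := by
    rintro _ ⟨x, rfl⟩
    refine mem_fx ?_
    show a (a x - x) = a x - x
    rw [map_sub, har, eq_comm, sub_eq_iff_eq_add, ← sub_eq_zero]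
    rw [show a x - (x - a x + x) = (a x + a x) - (x + x) by abel, hadd, hadd, sub_zero]
  have horth : mv a ≤ orth Q (fx a) := by
    rintro _ ⟨y, rfl⟩
    rw [mem_orth]
    intro w hw
    show polar Q (a y - y) w = 0
    rw [polar_sub_left]
    nth_rw 1 [← fx_apply hw]
    rw [polar_pres hG, sub_self]
  have hsum := finrank_fx_add (a := a)
  have horthd := finrank_orth hG.nondeg (fx a)
  have hfle := Submodule.finrank_mono (show fx a ≤ orth Q (fx a) from fun x hx => mem_orth.2 fun y hy => c2 x hx y hy)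
  have hmf := Submodule.finrank_mono hmle
  have heq : mv a = fx a := Submodule.eq_of_le_of_finrank_le hmle (by omega)
  have hts : TS Q (mv a) := by
    rintro _ ⟨x, rfl⟩
    show Q (a x - x) = 0
    rw [sub_eq_add_neg, Quad.map_add', QuadraticMap.map_neg, hG.pres, polar_neg_right, polar_comm, c1, ← two_mul,
      h2, zero_mul, neg_zero, add_zero]
  have hhalf : 2 * finrank F (mv a) = finrank F V := by rw [heq] at hsum ⊢; omega
  refine ⟨⟨mv a, le_top, hts, by rw [finrank_top, hhalf]⟩, ?_⟩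
  obtain ⟨x, hx⟩ : ∃ x, a x - x ≠ 0 := by
    by_contra hc
    push Not at hc
    have : mv a = ⊥ := (Submodule.eq_bot_iff _).2 (by rintro _ ⟨y, rfl⟩; exact hc y)
    rw [this, finrank_bot] at hhalf
    omega
  obtain ⟨y₀, hy₀⟩ : ∃ y, polar Q (a x - x) y ≠ 0 := by
    by_contra hc
    push Not at hc
    exact hx (Quad.eq_zero_of_polar hG.nondeg hc)
  set y := (polar Q (a x - x) y₀)⁻¹ • y₀ with hy'
  have hy : polar Q (a x - x) y = 1 := by rw [hy', polar_smul_right, smul_eq_mul, inv_mul_cancel₀ hy₀]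
  clear_value y
  set Nx := a x - x with hNx
  set Ny := a y - y with hNy
  have hNxm : Nx ∈ mv a := ⟨x, rfl⟩
  have hNym : Ny ∈ mv a := ⟨y, rfl⟩
  have b1 : polar Q x Ny = 1 := by
    rw [hNy, polar_sub_right, hsymm, ← polar_sub_left, hy]
  have b2 : polar Q x Nx = 0 := by rw [hNx, polar_sub_right, c1, hself, sub_zero]
  have b3 : polar Q y Ny = 0 := by rw [hNy, polar_sub_right, c1, hself, sub_zero]
  have b4 : polar Q Nx Ny = 0 := polar_zero_of_ts hts hNxm hNym
  let L : (F × F) × F × F →ₗ[F] V :=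
    ((LinearMap.toSpanSingleton F V x).coprod (LinearMap.toSpanSingleton F V y)).coprod
      ((LinearMap.toSpanSingleton F V Nx).coprod (LinearMap.toSpanSingleton F V Ny))
  have hL : ∀ s t u v, L ((s, t), u, v) = s • x + t • y + (u • Nx + v • Ny) := fun s t u v => by simp [L]
  have key : ∀ w, (∀ z ∈ LinearMap.range L, polar Q (L w) z = 0) → w = 0 := by
    rintro ⟨⟨s, t⟩, u, v⟩ h
    have e1 := h x ⟨((1, 0), 0, 0), by simp [hL]⟩
    have e2 := h y ⟨((0, 1), 0, 0), by simp [hL]⟩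
    have e3 := h Nx ⟨((0, 0), 1, 0), by simp [hL]⟩
    have e4 := h Ny ⟨((0, 0), 0, 1), by simp [hL]⟩
    simp only [hL, polar_add_left, polar_smul_left, smul_eq_mul, polar_comm Q y x, polar_comm Q Nx x, polar_comm Q Ny x,
      polar_comm Q Ny y, polar_comm Q Ny Nx, polar_comm Q y Nx, hself, b1, b2, b3, b4, hy, mul_zero, mul_one,
      add_zero, zero_add] at e1 e2 e3 e4
    obtain rfl : t = 0 := e3
    obtain rfl : s = 0 := e4
    simp only [zero_mul, zero_add] at e1 e2
    simp [e1, e2]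
  have hinj : Function.Injective L :=
    (injective_iff_map_eq_zero L).2 fun w hw => key w fun z _ => by rw [hw, polar_zero_left]
  refine ⟨LinearMap.range L, ?_, ?_, by
    rw [LinearMap.finrank_range_of_inj hinj]; simp [Module.finrank_prod], ?_⟩
  · rintro _ ⟨⟨⟨s, t⟩, u, v⟩, rfl⟩
    refine ⟨((s, t), u + s, v + t), ?_⟩
    rw [hL, hL, map_add, map_add, map_add, map_smul, map_smul, map_smul, map_smul, fx_apply (hmle hNxm),
      fx_apply (hmle hNym), hNx, hNy]
    module
  · rintro _ ⟨w, rfl⟩ h0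
    by_contra hc
    push Not at hc
    exact h0 (by rw [key w hc, map_zero])
  · refine ⟨Submodule.map L ((⊥ : Submodule F (F × F)).prod ⊤), LinearMap.map_le_range, ?_, ?_⟩
    · rintro _ ⟨⟨⟨s, t⟩, u, v⟩, hw, rfl⟩
      obtain ⟨h1, -⟩ := hw
      rw [SetLike.mem_coe, Submodule.mem_bot, Prod.mk_eq_zero] at h1
      rw [hL, h1.1, h1.2, zero_smul, zero_smul, zero_add, zero_add]
      exact hts _ (Submodule.add_mem _ (Submodule.smul_mem _ _ hNxm) (Submodule.smul_mem _ _ hNym))
    · rw [← (Submodule.equivMapOfInjective L hinj _).finrank_eq, LinearMap.finrank_range_of_inj hinj]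
      have : finrank F ((⊥ : Submodule F (F × F)).prod (⊤ : Submodule F (F × F)) : Submodule F ((F × F) × F × F)) = 2 := by
        let e : ((⊥ : Submodule F (F × F)).prod (⊤ : Submodule F (F × F)) : Submodule F ((F × F) × F × F)) ≃ₗ[F] F × F :=
          { toFun := fun z => z.1.2
            map_add' := fun _ _ => rfl
            map_smul' := fun _ _ => rfl
            invFun := fun z => ⟨(0, z), Submodule.zero_mem _, Submodule.mem_top⟩
            left_inv := fun z => Subtype.ext (Prod.ext ((Submodule.mem_bot F).1 z.2.1).symm rfl)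
            right_inv := fun _ => rfl }
        rw [e.finrank_eq]; simp [Module.finrank_prod]
      rw [this]; simp [Module.finrank_prod]

/-- Plane or block inside an invariant non-degenerate subspace. -/
theorem plane_or_block_in (hG : QGood Q a) (h2 : (2 : F) = 0) (har : ∀ x, a (a x) = x) {U : Submodule F V}
    (hU : Inv a U) (hUn : NdOn Q U) (hd : 0 < finrank F U) :
    (∃ P : Submodule F V, P ≤ U ∧ Inv a P ∧ NdOn Q P ∧ finrank F P = 2) ∨
      (Plus Q U ∧ ∃ B : Submodule F V, B ≤ U ∧ Inv a B ∧ NdOn Q B ∧ finrank F B = 4 ∧ Plus Q B) := by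
  rcases plane_or_block (good_restrict hG hU hUn) h2 (fun x => Subtype.ext (har x)) hd with
    ⟨P, h1, h3, h4⟩ | ⟨hp, P, h1, h3, h4, h5⟩
  · exact Or.inl ⟨_, lift_le P, inv_lift h1, ndon_lift h3, by rw [finrank_lift, h4]⟩
  · exact Or.inr ⟨plus_qres.1 hp, _, lift_le P, inv_lift h1, ndon_lift h3, by rw [finrank_lift, h4], plus_lift.1 h5⟩

variable [Finite F]

/-- An invariant hyperbolic subspace of dimension four. -/
theorem plus_four (hG : QGood Q a) (h2 : (2 : F) = 0) (har : ∀ x, a (a x) = x) {U : Submodule F V}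
    (hU : Inv a U) (hUn : NdOn Q U) (hd : 6 ≤ finrank F U) :
    ∃ B : Submodule F V, B ≤ U ∧ Inv a B ∧ NdOn Q B ∧ finrank F B = 4 ∧ Plus Q B := by
  rcases plane_or_block_in hG h2 har hU hUn (by omega) with ⟨P₁, l1, i1, n1, d1⟩ | ⟨-, h⟩
  swap
  · exact h
  obtain ⟨hU₁, -, dU₁⟩ := ndon_diff hG.nondeg hUn n1 l1
  have iU₁ := hU.inf (inv_orth hG i1)
  rcases plane_or_block_in hG h2 har iU₁ hU₁ (by omega) with ⟨P₂, l2, i2, n2, d2⟩ | ⟨-, B, l, rest⟩
  swap
  · exact ⟨B, l.trans inf_le_left, rest⟩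
  obtain ⟨hU₂, -, dU₂⟩ := ndon_diff hG.nondeg hU₁ n2 l2
  have iU₂ := iU₁.inf (inv_orth hG i2)
  rcases plane_or_block_in hG h2 har iU₂ hU₂ (by omega) with ⟨P₃, l3, i3, n3, d3⟩ | ⟨-, B, l, rest⟩
  swap
  · exact ⟨B, (l.trans inf_le_left).trans inf_le_left, rest⟩
  have pair : ∀ {A B : Submodule F V}, A ≤ U → B ≤ U → Inv a A → Inv a B → NdOn Q A → NdOn Q B →
      finrank F A = 2 → finrank F B = 2 → A ≤ orth Q B → (Plus Q A ↔ Plus Q B) →
      ∃ C : Submodule F V, C ≤ U ∧ Inv a C ∧ NdOn Q C ∧ finrank F C = 4 ∧ Plus Q C := by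
    intro A B a1 b1 a2 b2 a3 b3 a4 b4 hp ht
    exact ⟨A ⊔ B, sup_le a1 b1, a2.sup b2, ndon_sup a3 b3 hp, by rw [finrank_sup_orth b3 hp, a4, b4],
      (plus_sup_iff hG.nondeg a3 b3 hp ⟨1, a4⟩ ⟨1, b4⟩).2 ht⟩
  have l2' : P₂ ≤ U := l2.trans inf_le_left
  have l3' : P₃ ≤ U := (l3.trans inf_le_left).trans inf_le_left
  by_cases c12 : Plus Q P₁ ↔ Plus Q P₂
  · exact pair l2' l1 i2 i1 n2 n1 d2 d1 (l2.trans inf_le_right) c12.symm
  by_cases c13 : Plus Q P₁ ↔ Plus Q P₃
  · exact pair l3' l1 i3 i1 n3 n1 d3 d1 ((l3.trans inf_le_left).trans inf_le_right) c13.symm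
  · refine pair l3' l2' i3 i2 n3 n2 d3 d2 (l3.trans inf_le_right) ?_
    by_cases c1 : Plus Q P₁ <;> simp [c1] at c12 c13 <;> simp [c12, c13]

/-- Invariant hyperbolic subspaces of every dimension divisible by four. -/
theorem plus_four_mul (hG : QGood Q a) (h2 : (2 : F) = 0) (har : ∀ x, a (a x) = x) {U : Submodule F V}
    (hU : Inv a U) (hUn : NdOn Q U) : ∀ k, 4 * k + 2 ≤ finrank F U →
      ∃ B : Submodule F V, B ≤ U ∧ Inv a B ∧ NdOn Q B ∧ finrank F B = 4 * k ∧ Plus Q B := by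
  intro k
  induction k with
  | zero => exact fun _ => ⟨⊥, bot_le, inv_bot, ndon_bot, by simp, plus_bot⟩
  | succ k ih =>
    intro hk
    obtain ⟨B, l, i, n, d, p⟩ := ih (by omega)
    obtain ⟨hR, -, hRd⟩ := ndon_diff hG.nondeg hUn n l
    obtain ⟨C, l', i', n', d', p'⟩ := plus_four hG h2 har (hU.inf (inv_orth hG i)) hR (by omega)
    have hperp : C ≤ orth Q B := l'.trans inf_le_right
    exact ⟨C ⊔ B, sup_le (l'.trans inf_le_left) l, i'.sup i, ndon_sup n' n hperp,
      by rw [finrank_sup_orth n hperp, d', d]; ring, plus_sup n hperp p' p⟩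

/-- An invariant elliptic plane in an elliptic space. -/
theorem elliptic_plane (hG : QGood Q a) (h2 : (2 : F) = 0) (har : ∀ x, a (a x) = x) {U : Submodule F V}
    (hU : Inv a U) (hUn : NdOn Q U) (he : Even (finrank F U)) (hd : 4 ≤ finrank F U) (hp : ¬ Plus Q U) :
    ∃ P : Submodule F V, P ≤ U ∧ Inv a P ∧ NdOn Q P ∧ finrank F P = 2 ∧ ¬ Plus Q P := by
  obtain ⟨t, ht⟩ := he
  -- reduce to dimension four or six
  obtain ⟨B, l, i, n, d, p⟩ := plus_four_mul hG h2 har hU hUn ((t - 2) / 2) (by omega)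
  obtain ⟨hR, hsup, hRd⟩ := ndon_diff hG.nondeg hUn n l
  have iR := hU.inf (inv_orth hG i)
  have hRp : ¬ Plus Q (U ⊓ orth Q B) := fun hh => hp (by
    have := plus_sup n inf_le_right hh p
    rwa [hsup] at this)
  have two : ∀ {R : Submodule F V}, R ≤ U → Inv a R → NdOn Q R → ¬ Plus Q R → finrank F R = 4 →
      ∃ P : Submodule F V, P ≤ U ∧ Inv a P ∧ NdOn Q P ∧ finrank F P = 2 ∧ ¬ Plus Q P := by
    intro R lR iR hR hRp hR4
    rcases plane_or_block_in hG h2 har iR hR (by omega) with ⟨P, l1, i1, n1, d1⟩ | ⟨hh, -⟩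
    · obtain ⟨hR', hsup', hR'd⟩ := ndon_diff hG.nondeg hR n1 l1
      by_cases c : Plus Q P
      · refine ⟨_, inf_le_left.trans lR, iR.inf (inv_orth hG i1), hR', by omega, fun hh => hRp ?_⟩
        have := plus_sup n1 inf_le_right hh c
        rwa [hsup'] at this
      · exact ⟨P, l1.trans lR, i1, n1, d1, c⟩
    · exact absurd hh hRp
  rcases (show finrank F (U ⊓ orth Q B : Submodule F V) = 4 ∨ finrank F (U ⊓ orth Q B : Submodule F V) = 6 by omega)
    with h | h
  · exact two inf_le_left iR hR hRp h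
  · obtain ⟨C, l', i', n', d', p'⟩ := plus_four hG h2 har iR hR (by omega)
    obtain ⟨hS, hsup', hSd⟩ := ndon_diff hG.nondeg hR n' l'
    refine ⟨_, inf_le_left.trans inf_le_left, iR.inf (inv_orth hG i'), hS, by omega, fun hh => hRp ?_⟩
    have := plus_sup n' inf_le_right hh p'
    rwa [hsup'] at this

end Cfsg.Agent.Classical.OrthElem
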