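import Cfsg.Agent.Classical.OrthElem.NdInv

/-!
# Criteria for invariant non-degenerate subspaces
-/

set_option autoImplicit false

namespace Cfsg.Agent.Classical.OrthElem

open Module
open QuadraticMap (polar polarBilin)
open Cfsg.Agent.Classical.SympElem (Inv fx mv inv_of_le_fx poly_facts)

universe u v

variable {F : Type u} [Field F] [Fintype F] {V : Type v} [AddCommGroup V] [Module F V] [FiniteDimensional F V]
  {Q : QuadraticForm F V} {a : Module.End F V} {r : ℕ}

/-- Some invariant non-degenerate subspace has dimension `m` and the given type. -/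
def HasND (Q : QuadraticForm F V) (a : Module.End F V) (m : ℕ) (τ : Prop) : Prop :=
  ∃ W : Submodule F V, Inv a W ∧ NdOn Q W ∧ finrank F W = m ∧ (Plus Q W ↔ τ)

/-- Some invariant non-degenerate subspace is isometric to a given one. -/
def HasIsom (Q : QuadraticForm F V) (a : Module.End F V) (W₀ : Submodule F V) : Prop :=
  ∃ W : Submodule F V, Inv a W ∧ NdOn Q W ∧ Isom Q W W₀

/-- The numerical condition for subspaces of even dimension. -/
def NdCond (F : Type u) [Fintype F] (r : ℕ) (P τ : Prop) (n m : ℕ) : Prop :=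
  (0 < n % bl F r ∧ ((0 < m % bl F r ∧ m % bl F r < n % bl F r) ∨
      (m % bl F r = 0 ∧ (τ ↔ BP F r (m / bl F r))) ∨
      (m % bl F r = n % bl F r ∧ (τ ↔ ((P ↔ BP F r (n / bl F r)) ↔ BP F r (m / bl F r)))))) ∨
    (n % bl F r = 0 ∧ (¬ (P ↔ BP F r (n / bl F r)) ∨ (m % bl F r = 0 ∧ (τ ↔ BP F r (m / bl F r)))))

/-- The numerical condition for subspaces of odd dimension. -/
def NdCondOdd (F : Type u) [Fintype F] (r : ℕ) (P : Prop) (n m : ℕ) : Prop :=
  (0 < n % bl F r ∧ m % bl F r < n % bl F r) ∨ (n % bl F r = 0 ∧ ¬ (P ↔ BP F r (n / bl F r)))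

theorem add_div_mod {c b A m : ℕ} (hb : b < c) (h : b + c * A = m) : m % c = b ∧ m / c = A := by
  subst h
  refine ⟨by rw [Nat.add_mul_mod_self_left, Nat.mod_eq_of_lt hb], ?_⟩
  rw [Nat.add_mul_div_left _ _ (by omega), Nat.div_eq_of_lt hb, zero_add]

variable [Fact r.Prime]

theorem mod_even (hr : (r : F) ≠ 0) {n : ℕ} : Even n ↔ Even (n % bl F r) := by
  have h := Nat.mod_add_div n (bl F r)
  conv_lhs => rw [← h]
  rw [Nat.even_add]
  exact ⟨fun hh => hh.2 ((bl_pos hr).2.mul_right _), fun hh => iff_of_true hh ((bl_pos hr).2.mul_right _)⟩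

theorem hasND_of (hG : QGood Q a) (hr : (r : F) ≠ 0) (hr2 : r ≠ 2) (har : a ^ r = 1) {A b m : ℕ} {τ : Prop}
    (hb : b + bl F r * A = m) (hbe : Even b) (hA : bl F r * A ≤ finrank F (mv a))
    (h : (0 < b ∧ b < finrank F (fx a)) ∨ (b = 0 ∧ (τ ↔ BP F r A)) ∨
      (b = finrank F (fx a) ∧ (τ ↔ (Plus Q (fx a) ↔ BP F r A)))) : HasND Q a m τ := by
  obtain ⟨hc, horth, hNE, hNR⟩ := fixed_decomp hG hr har
  obtain ⟨X, hle, hX, hXn, hXd, hXp⟩ := exists_blocks hG hr hr2 har A hA
  obtain ⟨k, hk⟩ := hbe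
  obtain ⟨U, hUle, hUn, hUd, hUt⟩ : ∃ U : Submodule F V, U ≤ fx a ∧ NdOn Q U ∧ finrank F U = b ∧
      (τ ↔ (Plus Q U ↔ BP F r A)) := by
    rcases h with ⟨h0, h1⟩ | ⟨h0, h1⟩ | ⟨h0, h1⟩
    · obtain ⟨U, a1, a2, a3, a4⟩ := exists_sub_type hG.nondeg hNE (τ ↔ BP F r A) k (Or.inl ⟨by omega, by omega⟩)
      exact ⟨U, a1, a2, by omega, by rw [a4]; by_cases hh : BP F r A <;> simp [hh]⟩
    · exact ⟨⊥, bot_le, ndon_bot, by rw [finrank_bot, h0],
        h1.trans ⟨fun hh => iff_of_true plus_bot hh, fun hh => hh.1 plus_bot⟩⟩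
    · exact ⟨fx a, le_rfl, hNE, h0.symm, h1⟩
  have hperp : U ≤ orth Q X := fun x hx => mem_orth.2 fun y hy =>
    mem_orth.1 (orth_le horth.ge (hUle hx)) y (hle hy)
  refine ⟨U ⊔ X, (inv_of_le_fx hUle).sup hX, ndon_sup hUn hXn hperp,
    by rw [finrank_sup_orth hXn hperp, hUd, hXd, hb], ?_⟩
  rw [plus_sup_iff hG.nondeg hUn hXn hperp ⟨k, by omega⟩ (hXd ▸ (bl_pos hr).2.mul_right A), hXp]
  exact hUt.symm

/-- Sufficiency for subspaces of even dimension. -/
theorem suff_nd (hG : QGood Q a) (hr : (r : F) ≠ 0) (hr2 : r ≠ 2) (har : a ^ r = 1) {n m : ℕ} {τ : Prop}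
    (hn : finrank F V = n) (hm : 0 < m) (hme : Even m) (hmn : m < n)
    (hc : NdCond F r (Plus Q ⊤) τ n m) : HasND Q a m τ := by
  obtain ⟨hc0, hce⟩ := bl_pos (F := F) hr
  obtain ⟨N, hN, hNp⟩ := mv_blocks hG hr hr2 har
  have hsum := finrank_fx_add (a := a)
  rw [hN, hn] at hsum
  have hty : Even n → (Plus Q ⊤ ↔ (Plus Q (fx a) ↔ BP F r N)) := fun h => by
    rw [(fx_type hG hr har (hn ▸ h) (hN ▸ hce.mul_right N)).2, hNp]
  have hdn := Nat.mod_add_div n (bl F r)
  have hdm := Nat.mod_add_div m (bl F r)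
  have hkc := Nat.mod_lt n hc0
  have hlc := Nat.mod_lt m hc0
  have hev : ∀ A b : ℕ, b + (bl F r) * A = m → Even b := fun A b h => by
    rw [← h, Nat.even_add] at hme
    exact hme.2 (hce.mul_right A)
  rcases lt_or_ge N (n / bl F r) with hj | hj
  · have h1 : (bl F r) * (N + 1) ≤ (bl F r) * (n / bl F r) := Nat.mul_le_mul_left (bl F r) hj
    rw [Nat.mul_succ] at h1
    rcases lt_or_ge N (m / bl F r) with hA | hA
    · have h2 : (bl F r) * (N + 1) ≤ (bl F r) * (m / bl F r) := Nat.mul_le_mul_left (bl F r) hA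
      rw [Nat.mul_succ] at h2
      exact hasND_of hG hr hr2 har (A := N) (b := m - (bl F r) * N) (by omega) (hev N _ (by omega)) (by omega)
        (Or.inl ⟨by omega, by omega⟩)
    · have h2 : (bl F r) * (m / bl F r) ≤ (bl F r) * N := Nat.mul_le_mul_left (bl F r) hA
      rcases Nat.eq_zero_or_pos (m % bl F r) with hl | hl
      · obtain ⟨u, hu⟩ : ∃ u, m / (bl F r) = u + 1 := ⟨m / (bl F r) - 1, by
          have : m / (bl F r) ≠ 0 := fun h0 => by rw [h0, mul_zero] at hdm; omega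
          exact (Nat.sub_add_cancel (Nat.pos_of_ne_zero this)).symm⟩
        rw [hu, Nat.mul_succ] at hdm h2
        rcases lt_or_ge (bl F r) (finrank F (fx a)) with he | he
        · exact hasND_of hG hr hr2 har (A := u) (b := bl F r) (by omega) hce (by omega) (Or.inl ⟨hc0, he⟩)
        · have hn0 : n % (bl F r) = 0 := by omega
          have hn1 : n / (bl F r) = N + 1 := Nat.eq_of_mul_eq_mul_left hc0 (by rw [Nat.mul_succ]; omega)
          by_cases ht : τ ↔ BP F r (u + 1)
          · exact hasND_of hG hr hr2 har (A := u + 1) (b := 0) (by rw [Nat.mul_succ]; omega) Even.zero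
              (by rw [Nat.mul_succ]; omega) (Or.inr (Or.inl ⟨rfl, ht⟩))
          · refine hasND_of hG hr hr2 har (A := u) (b := bl F r) (by omega) hce (by omega)
              (Or.inr (Or.inr ⟨by omega, ?_⟩))
            have h4 := hty ((mod_even hr).2 (by rw [hn0]; exact Even.zero))
            have h5 : ¬ (Plus Q ⊤ ↔ BP F r (N + 1)) := by
              rcases hc with ⟨h, -⟩ | ⟨-, h | ⟨-, h⟩⟩
              · omega
              · rwa [hn1] at h
              · exact absurd (hu ▸ h) ht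
            rcases Nat.even_or_odd (orderOf (Fintype.card F : ZMod r)) with h | h
            · simp only [(bl_even (F := F) h).2, Nat.even_add_one] at ht h4 h5 ⊢
              by_cases c1 : τ <;> by_cases c2 : Even u <;> by_cases c3 : Even N <;>
                by_cases c4 : Plus Q (fx a) <;> by_cases c5 : Plus Q ⊤ <;>
                  simp [c1, c2, c3, c4, c5] at ht h4 h5 ⊢
            · simp only [(bl_odd (F := F) h).2, iff_true] at ht h4 h5 ⊢
              by_cases c1 : τ <;> by_cases c4 : Plus Q (fx a) <;> by_cases c5 : Plus Q ⊤ <;>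
                simp [c1, c4, c5] at ht h4 h5 ⊢
      · exact hasND_of hG hr hr2 har (A := m / bl F r) (b := m % bl F r) hdm (hev _ _ hdm) (by omega)
          (Or.inl ⟨hl, by omega⟩)
  · have hNn : N = n / (bl F r) := le_antisymm ((Nat.le_div_iff_mul_le hc0).2 (by rw [mul_comm]; omega)) hj
    subst hNn
    have hA : (bl F r) * (m / bl F r) ≤ (bl F r) * (n / bl F r) := Nat.mul_le_mul_left (bl F r) (Nat.div_le_div_right hmn.le)
    have he : finrank F (fx a) = n % (bl F r) := by omega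
    rcases hc with ⟨-, hl | hl | hl⟩ | ⟨hk, hl⟩
    · exact hasND_of hG hr hr2 har (A := m / bl F r) (b := m % bl F r) hdm (hev _ _ hdm) (by omega) (Or.inl ⟨hl.1, by omega⟩)
    · exact hasND_of hG hr hr2 har (A := m / bl F r) (b := m % bl F r) hdm (hev _ _ hdm) (by omega)
        (Or.inr (Or.inl hl))
    · refine hasND_of hG hr hr2 har (A := m / bl F r) (b := m % bl F r) hdm (hev _ _ hdm) (by omega)
        (Or.inr (Or.inr ⟨by omega, ?_⟩))
      have hev' := hev _ _ hdm
      rw [hl.1] at hev'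
      have h4 := hty ((mod_even hr).2 hev')
      rw [hl.2, h4]
      by_cases c1 : Plus Q (fx a) <;> by_cases c2 : BP F r (n / bl F r) <;> simp [c1, c2]
    · have hp : Plus Q ⊤ ↔ BP F r (n / bl F r) := by
        rw [hty ((mod_even hr).2 (by rw [hk]; exact Even.zero)),
          Submodule.finrank_eq_zero.1 (by omega : finrank F (fx a) = 0)]
        exact ⟨fun hh => hh.1 plus_bot, fun hh => iff_of_true plus_bot hh⟩
      exact hasND_of hG hr hr2 har (A := m / bl F r) (b := m % bl F r) hdm (hev _ _ hdm) (by omega)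
        (Or.inr (Or.inl (hl.resolve_left fun h => h hp)))

omit a in
/-- An element with prescribed number of blocks. -/
theorem exists_elt_blocks (hr : (r : F) ≠ 0) (hr2 : r ≠ 2) (hQ : (polarBilin Q).Nondegenerate) {N : ℕ}
    (hN : bl F r * N ≤ finrank F V) (hN' : bl F r * N = finrank F V → (Plus Q ⊤ ↔ BP F r N)) :
    ∃ a : Module.End F V, QGood Q a ∧ a ^ r = 1 ∧ finrank F (fx a) + bl F r * N = finrank F V := by
  rcases Nat.even_or_odd (orderOf (Fintype.card F : ZMod r)) with h | h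
  · obtain ⟨e1, e2⟩ := bl_even (F := F) h
    obtain ⟨t, ht⟩ := (poly_facts (F := F) (r := r) hr).2.2.2.2
    rw [e1] at hN hN' ⊢
    obtain ⟨a, h1, h3, h4, -⟩ := exists_elt_even (r := r) hr hQ rfl h ht hN
      (fun e => (hN' e).trans (e2 N))
    exact ⟨a, h1, h3, h4⟩
  · obtain ⟨e1, e2⟩ := bl_odd (F := F) h
    rw [e1] at hN hN' ⊢
    exact exists_elt_odd hr hr2 hQ rfl h hN (fun e => (hN' e).2 (e2 N))

/-- Necessity for subspaces of even dimension. -/
theorem nec_nd (hr : (r : F) ≠ 0) (hr2 : r ≠ 2) (hQ : (polarBilin Q).Nondegenerate) {n m : ℕ} {τ : Prop}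
    (hn : finrank F V = n) (hme : Even m) (hle : bl F r ≤ n)
    (H : ∀ a : Module.End F V, QGood Q a → a ^ r = 1 → finrank F (fx a) < finrank F V → HasND Q a m τ) :
    NdCond F r (Plus Q ⊤) τ n m := by
  obtain ⟨hc0, hce⟩ := bl_pos (F := F) hr
  have hdn := Nat.mod_add_div n (bl F r)
  have hkc := Nat.mod_lt n hc0
  have hn1 : 0 < bl F r * (n / bl F r) := Nat.mul_pos hc0 (Nat.div_pos hle hc0)
  unfold NdCond
  by_contra hcon
  simp only [not_or, not_and] at hcon
  obtain ⟨hcon1, hcon2⟩ := hcon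
  obtain ⟨a, hG, har, hfx⟩ := exists_elt_blocks (Q := Q) hr hr2 hQ (N := n / bl F r) (by omega) (fun he => by
    have h0 : n % bl F r = 0 := by omega
    exact not_not.1 (hcon2 h0).1)
  rw [hn] at hfx
  obtain ⟨W, hW, hWn, hWd, hWp⟩ := H a hG har (by omega)
  obtain ⟨A, -, hA2, -, -, -, hty⟩ := split_nd hG hr hr2 har hW hWn
  set b := finrank F (W ⊓ fx a : Submodule F V) with hb
  have hbk : b ≤ n % bl F r := by
    have := Submodule.finrank_mono (inf_le_right : W ⊓ fx a ≤ fx a)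
    omega
  obtain ⟨e1, e2⟩ := add_div_mod (show b < bl F r by omega) (hA2.trans hWd)
  have hbe : Even b := by
    have := hA2.trans hWd
    rw [← this, Nat.even_add] at hme
    exact hme.2 (hce.mul_right A)
  have hP := hty hbe
  have hb0 : b = 0 → (τ ↔ BP F r A) := fun h0 => by
    rw [← hWp, hP, show W ⊓ fx a = ⊥ from Submodule.finrank_eq_zero.1 (hb ▸ h0)]
    exact ⟨fun h => h.1 plus_bot, fun h => iff_of_true plus_bot h⟩
  rcases Nat.eq_zero_or_pos (n % bl F r) with hk | hk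
  · exact (hcon2 hk).2 (by omega) (e2.symm ▸ hb0 (by omega))
  · obtain ⟨c1, c2, c3⟩ := hcon1 hk
    rcases Nat.eq_zero_or_pos b with h0 | h0
    · exact c2 (by omega) (e2.symm ▸ hb0 h0)
    rcases lt_or_ge b (n % bl F r) with hlt | hge
    · exact c1 (by omega) (by omega)
    · refine c3 (by omega) ?_
      have hfxe : W ⊓ fx a = fx a := Submodule.eq_of_le_of_finrank_le inf_le_right (by omega)
      obtain ⟨N, hN, hNp⟩ := mv_blocks hG hr hr2 har
      have hsum := finrank_fx_add (a := a)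
      rw [hN, hn] at hsum
      obtain rfl : N = n / bl F r := Nat.eq_of_mul_eq_mul_left hc0 (by omega)
      have hne : Even n := (mod_even hr).2 (by rwa [← show b = n % bl F r by omega])
      have h4 : Plus Q ⊤ ↔ (Plus Q (fx a) ↔ BP F r (n / bl F r)) := by
        rw [(fx_type hG hr har (hn ▸ hne) (hN ▸ hce.mul_right _)).2, hNp]
      rw [hfxe] at hP
      rw [e2, ← hWp, hP, h4]
      by_cases h8 : Plus Q (fx a) <;> by_cases h9 : BP F r (n / bl F r) <;> simp [h8, h9]

/-- Sufficiency for subspaces of odd dimension. -/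
theorem suff_isom (hG : QGood Q a) (hr : (r : F) ≠ 0) (hr2 : r ≠ 2) (h2 : (2 : F) ≠ 0) (har : a ^ r = 1)
    {n m : ℕ} (hn : finrank F V = n) (hne : Even n) {W₀ : Submodule F V} (hW₀ : NdOn Q W₀)
    (hW₀d : finrank F W₀ = m) (hmo : Odd m) (hmn : m < n) (hc : NdCondOdd F r (Plus Q ⊤) n m) :
    HasIsom Q a W₀ := by
  obtain ⟨hc0, hce⟩ := bl_pos (F := F) hr
  obtain ⟨hcc, horth, hNE, hNR⟩ := fixed_decomp hG hr har
  obtain ⟨N, hN, hNp⟩ := mv_blocks hG hr hr2 har
  have hsum := finrank_fx_add (a := a)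
  rw [hN, hn] at hsum
  have hdn := Nat.mod_add_div n (bl F r)
  have hdm := Nat.mod_add_div m (bl F r)
  have hkc := Nat.mod_lt n hc0
  have hlc := Nat.mod_lt m hc0
  obtain ⟨A, b, hb, hbe, hA⟩ : ∃ A b, b + (bl F r) * A = m ∧ b < finrank F (fx a) ∧ (bl F r) * A ≤ finrank F (mv a) := by
    rcases lt_or_ge N (n / bl F r) with hj | hj
    · have h1 : (bl F r) * (N + 1) ≤ (bl F r) * (n / bl F r) := Nat.mul_le_mul_left (bl F r) hj
      rw [Nat.mul_succ] at h1
      rcases lt_or_ge N (m / bl F r) with hA | hA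
      · have h2 : (bl F r) * (N + 1) ≤ (bl F r) * (m / bl F r) := Nat.mul_le_mul_left (bl F r) hA
        rw [Nat.mul_succ] at h2
        exact ⟨N, m - (bl F r) * N, by omega, by omega, by omega⟩
      · have h2 : (bl F r) * (m / bl F r) ≤ (bl F r) * N := Nat.mul_le_mul_left (bl F r) hA
        exact ⟨m / (bl F r), m % (bl F r), hdm, by omega, by omega⟩
    · have hNn : N = n / (bl F r) := le_antisymm ((Nat.le_div_iff_mul_le hc0).2 (by rw [mul_comm]; omega)) hj
      subst hNn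
      have h2 : (bl F r) * (m / bl F r) ≤ (bl F r) * (n / bl F r) := Nat.mul_le_mul_left (bl F r) (Nat.div_le_div_right hmn.le)
      rcases hc with ⟨-, hk⟩ | ⟨hk, hp⟩
      · exact ⟨m / (bl F r), m % (bl F r), hdm, by omega, by omega⟩
      · refine absurd ?_ hp
        rw [(fx_type hG hr har (hn ▸ hne) (hN ▸ hce.mul_right _)).2, hNp,
          Submodule.finrank_eq_zero.1 (by omega : finrank F (fx a) = 0)]
        exact ⟨fun hh => hh.1 plus_bot, fun hh => iff_of_true plus_bot hh⟩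
  obtain ⟨k, hk⟩ : Odd b := by
    rw [← hb, Nat.odd_add] at hmo
    exact hmo.2 (hce.mul_right A)
  have hee : Even (finrank F (fx a)) := by
    rw [← hsum, Nat.even_add] at hne
    exact hne.2 (hce.mul_right N)
  obtain ⟨X, hXle, hX, hXn, hXd, -⟩ := exists_blocks hG hr hr2 har A hA
  obtain ⟨U', hU'le, hU', hU'd, -⟩ := exists_sub_type hG.nondeg hNE True k (by
    rcases Nat.eq_zero_or_pos k with rfl | h
    · exact Or.inr ⟨rfl, trivial⟩
    · exact Or.inl ⟨h, by omega⟩)
  obtain ⟨hU, -, hUd⟩ := ndon_diff hG.nondeg hNE hU' hU'le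
  have hperp : U' ≤ orth Q X := fun x hx => mem_orth.2 fun y hy =>
    mem_orth.1 (orth_le horth.ge (hU'le hx)) y (hXle hy)
  obtain ⟨w, hw⟩ := hce.mul_right A
  obtain ⟨v, hv, hWn, hiso⟩ := exists_in_class hG.nondeg h2 hW₀ (ndon_sup hU' hXn hperp) (k := k + w)
    (by rw [finrank_sup_orth hXn hperp, hU'd, hXd]; omega) (by omega) hU
    (by
      obtain ⟨t, ht⟩ := hee
      omega)
    (fun x hx => mem_orth.2 fun y hy => by
      obtain ⟨p, hp, q, hq, rfl⟩ := Submodule.mem_sup.1 hy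
      rw [QuadraticMap.polar_add_right, mem_orth.1 hx.2 p hp,
        mem_orth.1 (orth_le horth.ge hx.1) q (hXle hq), add_zero])
  exact ⟨_, ((inv_of_le_fx hU'le).sup hX).sup
    (inv_of_le_fx ((Submodule.span_singleton_le_iff_mem _ _).2 hv.1)), hWn, hiso⟩

/-- Necessity for subspaces of odd dimension. -/
theorem nec_isom (hr : (r : F) ≠ 0) (hr2 : r ≠ 2) (hQ : (polarBilin Q).Nondegenerate) {n m : ℕ}
    (hn : finrank F V = n) (hne : Even n) (hmo : Odd m) (hle : bl F r ≤ n)
    (H : ∀ a : Module.End F V, QGood Q a → a ^ r = 1 → finrank F (fx a) < finrank F V →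
      ∃ W : Submodule F V, Inv a W ∧ NdOn Q W ∧ finrank F W = m) :
    NdCondOdd F r (Plus Q ⊤) n m := by
  obtain ⟨hc0, hce⟩ := bl_pos (F := F) hr
  have hdn := Nat.mod_add_div n (bl F r)
  have hkc := Nat.mod_lt n hc0
  have hn1 : 0 < bl F r * (n / bl F r) := Nat.mul_pos hc0 (Nat.div_pos hle hc0)
  unfold NdCondOdd
  by_contra hcon
  simp only [not_or, not_and, not_not] at hcon
  obtain ⟨hcon1, hcon2⟩ := hcon
  obtain ⟨a, hG, har, hfx⟩ := exists_elt_blocks (Q := Q) hr hr2 hQ (N := n / bl F r) (by omega) (fun he =>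
    hcon2 (by omega))
  rw [hn] at hfx
  obtain ⟨W, hW, hWn, hWd⟩ := H a hG har (by omega)
  obtain ⟨A, -, hA2, -, -, -, -⟩ := split_nd hG hr hr2 har hW hWn
  have hbk := Submodule.finrank_mono (inf_le_right : W ⊓ fx a ≤ fx a)
  obtain ⟨e1, -⟩ := add_div_mod (show finrank F (W ⊓ fx a : Submodule F V) < bl F r by omega) (hA2.trans hWd)
  have hbo : Odd (m % bl F r) := Nat.not_even_iff_odd.1 fun h => Nat.not_even_iff_odd.2 hmo ((mod_even hr).2 h)
  have hke : Even (n % bl F r) := (mod_even hr).1 hne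
  obtain ⟨x, hx⟩ := hbo
  obtain ⟨y, hy⟩ := hke
  rcases Nat.eq_zero_or_pos (n % bl F r) with hk | hk
  · omega
  · exact hcon1 hk (by omega)

end Cfsg.Agent.Classical.OrthElem
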