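import Cfsg.Agent.Classical.OrthElem.NdChar2

/-!
# The numerical conditions by parity of the order
-/

set_option autoImplicit false

namespace Cfsg.Agent.Classical.OrthElem

open Module

universe u

variable {F : Type u} [Field F] [Fintype F] {r : ℕ} [Fact r.Prime]

theorem bl_eq {i c : ℕ} (hi : i = orderOf (Fintype.card F : ZMod r)) (hc : c = if Even i then i else 2 * i) :
    c = bl F r := by
  subst hi hc
  rfl

theorem quot_add {c n m : ℕ} (h : m % c = n % c) (hc : 0 < c) :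
    (n + m - 2 * (n % c)) / c = n / c + m / c := by
  have h1 := Nat.mod_add_div n c
  have h2 := Nat.mod_add_div m c
  rw [show n + m - 2 * (n % c) = c * (n / c + m / c) by rw [mul_add]; omega, Nat.mul_div_cancel_left _ hc]

theorem le_of_mod_zero {c m : ℕ} (hm : 0 < m) (h : m % c = 0) : c ≤ m := Nat.le_of_dvd hm (Nat.dvd_of_mod_eq_zero h)

theorem cast_ne_zero_of_ne {p : ℕ} [Fact p.Prime] [CharP F p] (hrp : r ≠ p) :
    (r : F) ≠ 0 ∧ ¬ r ∣ Fintype.card F := by
  obtain ⟨n, hp, hn⟩ := FiniteField.card F p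
  refine ⟨fun h => hrp ?_, fun h => hrp ?_⟩
  · exact ((Nat.prime_dvd_prime_iff_eq hp Fact.out).1 ((CharP.cast_eq_zero_iff F p r).1 h)).symm
  · rw [hn] at h
    exact (Nat.prime_dvd_prime_iff_eq Fact.out hp).1 ((Fact.out : r.Prime).dvd_of_dvd_pow h)

omit [Fact r.Prime] in
theorem two_facts {p : ℕ} [Fact p.Prime] [CharP F p] (hp2 : p ≠ 2) :
    (2 : F) ≠ 0 ∧ Fintype.card F % 2 = 1 := by
  obtain ⟨n, hp, hn⟩ := FiniteField.card F p
  refine ⟨fun h => hp2 ((Nat.prime_dvd_prime_iff_eq hp Nat.prime_two).1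
    ((CharP.cast_eq_zero_iff F p 2).1 (by exact_mod_cast h))), ?_⟩
  rw [hn, ← Nat.odd_iff]
  exact (hp.odd_of_ne_two hp2).pow

omit [Fact r.Prime] in
theorem card_even {p : ℕ} [Fact p.Prime] [CharP F p] (hp2 : p = 2) : Fintype.card F % 2 = 0 ∧ (2 : F) = 0 := by
  subst hp2
  obtain ⟨n, hp, hn⟩ := FiniteField.card F 2
  refine ⟨?_, by exact_mod_cast CharP.cast_eq_zero F 2⟩
  rw [hn, Nat.pow_mod, Nat.mod_self, zero_pow n.pos.ne', Nat.zero_mod]

end Cfsg.Agent.Classical.OrthElem
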