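import Cfsg.Agent.Classical.OrthElem.NdCrit
import Cfsg.Agent.Classical.OrthElem.NdCount
import Cfsg.Agent.Classical.OrthElem.Divisors

/-!
# Numerical consequences of divisibility of the numbers of non-degenerate subspaces
-/

set_option autoImplicit false

namespace Cfsg.Agent.Classical.OrthElem

open Module QuadraticMap Cfsg.Agent.MatModule

universe u v

variable {F : Type u} [Field F] [Fintype F] {V : Type v} [AddCommGroup V] [Module F V] [FiniteDimensional F V]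
  {Q : QuadraticForm F V} {r : ℕ}

/-- Where the order can divide, for subspaces of even dimension `2 μ`. -/
def NdHex (F : Type u) [Fintype F] (r : ℕ) (P P' : Prop) (d μ : ℕ) : Prop :=
  (orderOf (Fintype.card F : ZMod r) ∣ 2 * d ∧ (orderOf (Fintype.card F : ZMod r) ∣ d ↔ P)) ∨
    (∃ e, d - μ < e ∧ e < d ∧ orderOf (Fintype.card F : ZMod r) ∣ 2 * e) ∨
    (orderOf (Fintype.card F : ZMod r) ∣ 2 * (d - μ) ∧ (orderOf (Fintype.card F : ZMod r) ∣ d - μ ↔ ¬ P'))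

/-- Where the order can divide, for subspaces of odd dimension `2 μ - 1`. -/
def NdHexOdd (F : Type u) [Fintype F] (r : ℕ) (P : Prop) (d μ : ℕ) : Prop :=
  (orderOf (Fintype.card F : ZMod r) ∣ 2 * d ∧ (orderOf (Fintype.card F : ZMod r) ∣ d ↔ P)) ∨
    (∃ e, d - μ < e ∧ e < d ∧ orderOf (Fintype.card F : ZMod r) ∣ 2 * e)

variable [Fact r.Prime]

theorem order_sub (e : ℕ) (h : r ∣ Fintype.card F ^ e - 1) : orderOf (Fintype.card F : ZMod r) ∣ e :=
  (LargeSylow.dvd_sub_iff Fintype.card_pos _).1 h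

theorem nd_count_dvd (hQ : (polarBilin Q).Nondegenerate) {W₀ : Submodule F V} (hW₀ : NdOn Q W₀)
    (h : r ∣ Nat.card {W : Submodule F V // Isom Q W W₀}) :
    r * Nat.card (Quad.oG (qres Q (orth Q W₀))) ∣ Nat.card (Quad.oG Q) :=
  dvd_trans (mul_dvd_mul_right h _) (card_isom_dvd hQ hW₀)

theorem type_card_eq (hQ : (polarBilin Q).Nondegenerate) {μ : ℕ} {τ : Prop} {W₀ : Submodule F V}
    (hW₀ : NdOn Q W₀) (hd : finrank F W₀ = 2 * μ) (hp : Plus Q W₀ ↔ τ) :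
    Nat.card {W : Submodule F V // finrank F W = 2 * μ ∧ NdOn Q W ∧ (Plus Q W ↔ τ)} =
      Nat.card {W : Submodule F V // Isom Q W W₀} :=
  Nat.card_congr (Equiv.subtypeEquivRight fun W =>
    ⟨fun ⟨h1, h2, h3⟩ => isom_of_plus h2 hW₀ h1 hd (h3.trans hp.symm),
      fun h => ⟨h.finrank_eq.trans hd, isom_ndon hQ h.symm hW₀,
        ⟨fun hh => hp.1 (isom_plus hQ h hh), fun hh => isom_plus hQ h.symm (hp.2 hh)⟩⟩⟩)

/-- Even-dimensional subspaces in even dimension. -/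
theorem hex_even (hQ : (polarBilin Q).Nondegenerate) (hr2 : r ≠ 2) (hrq : ¬ r ∣ Fintype.card F) {d μ : ℕ} {τ : Prop}
    (hd : finrank F V = 2 * d) (hμ : 0 < μ) (hμd : μ < d)
    (h : r ∣ Nat.card {W : Submodule F V // finrank F W = 2 * μ ∧ NdOn Q W ∧ (Plus Q W ↔ τ)}) :
    NdHex F r (Plus Q ⊤) (Plus Q ⊤ ↔ τ) d μ := by
  obtain ⟨W₀, -, hW₀, hW₀d, hW₀p⟩ := exists_sub_type hQ (ndon_top hQ) τ μ (Or.inl ⟨hμ, by rw [finrank_top]; omega⟩)
  rw [type_card_eq hQ hW₀ hW₀d hW₀p] at h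
  have hP := ndon_orth hQ hW₀
  obtain ⟨k, hk⟩ : ∃ k, d - μ = k + 1 := ⟨d - μ - 1, by omega⟩
  have hPd : finrank F (orth Q W₀) = 2 * (k + 1) := by rw [finrank_orth hQ, hW₀d, hd]; omega
  have hPt : Plus Q (orth Q W₀) ↔ (Plus Q ⊤ ↔ τ) := by
    have h3 := plus_sup_iff hQ hW₀ hP (orth_le le_rfl) ⟨μ, by omega⟩ ⟨k + 1, by omega⟩
    rw [(isCompl_orth hQ hW₀).sup_eq_top, hW₀p] at h3
    rw [h3]
    by_cases c1 : τ <;> simp [c1]
  have hdvd := nd_count_dvd hQ hW₀ h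
  have hq2 : 2 ≤ Fintype.card F := Fintype.one_lt_card
  have hpow : ∀ e, 1 ≤ e → 2 ≤ Fintype.card F ^ e := fun e he => hq2.trans (Nat.le_self_pow (by omega) _)
  have hr' := (Fact.out : r.Prime)
  obtain ⟨d', rfl⟩ : ∃ d', d = d' + 1 := ⟨d - 1, by omega⟩
  by_cases hp' : Plus Q (orth Q W₀)
  · obtain ⟨x, hx⟩ := card_oG_plusType (nondeg_qres hP) (k := k) hPd (plus_qres.2 hp')
    rw [hx] at hdvd
    have hC : (Fintype.card F ^ (k + 1) - 1) * (Fintype.card F ^ (k + 1) + 1) * oProd (Fintype.card F) k =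
        oProd (Fintype.card F) (k + 1) := by
      rw [oProd_succ, Quad.sq_pow_sub_one]; ring
    have hB : 0 < Fintype.card F ^ (k + 1) - 1 := by have := hpow (k + 1) (by omega); omega
    by_cases hp : Plus Q ⊤
    · obtain ⟨y, hy⟩ := card_oG_plusType hQ (k := d') hd hp
      rw [hy] at hdvd
      rcases factor_cases hr' hr2 hrq hq2 hB (by omega) hC hdvd with h1 | h1 | ⟨e, h1, h3, h4⟩
      · exact Or.inl ⟨(order_sub _ h1).mul_left 2, iff_of_true (order_sub _ h1) hp⟩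
      · obtain ⟨o1, o2⟩ := order_of_dvd_add_one hr2 h1
        rw [← hk] at o1 o2
        exact Or.inr (Or.inr ⟨o1, iff_of_false o2 (not_not.2 (hPt.1 hp'))⟩)
      · exact Or.inr (Or.inl ⟨e, by omega, by omega, order_sub _ h4⟩)
    · obtain ⟨y, hy⟩ := card_oG_minusType hQ (k := d') hd hp
      rw [hy] at hdvd
      rcases factor_cases hr' hr2 hrq hq2 hB (by omega) hC hdvd with h1 | h1 | ⟨e, h1, h3, h4⟩
      · obtain ⟨o1, o2⟩ := order_of_dvd_add_one hr2 h1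
        exact Or.inl ⟨o1, iff_of_false o2 hp⟩
      · obtain ⟨o1, o2⟩ := order_of_dvd_add_one hr2 h1
        rw [← hk] at o1 o2
        exact Or.inr (Or.inr ⟨o1, iff_of_false o2 (not_not.2 (hPt.1 hp'))⟩)
      · exact Or.inr (Or.inl ⟨e, by omega, by omega, order_sub _ h4⟩)
  · obtain ⟨x, hx⟩ := card_oG_minusType (nondeg_qres hP) (k := k) hPd (fun hh => hp' (plus_qres.1 hh))
    rw [hx] at hdvd
    have hC : (Fintype.card F ^ (k + 1) + 1) * (Fintype.card F ^ (k + 1) - 1) * oProd (Fintype.card F) k =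
        oProd (Fintype.card F) (k + 1) := by
      rw [oProd_succ, Quad.sq_pow_sub_one]; ring
    have hB : 0 < Fintype.card F ^ (k + 1) + 1 := Nat.succ_pos _
    by_cases hp : Plus Q ⊤
    · obtain ⟨y, hy⟩ := card_oG_plusType hQ (k := d') hd hp
      rw [hy] at hdvd
      rcases factor_cases hr' hr2 hrq hq2 hB (by omega) hC hdvd with h1 | h1 | ⟨e, h1, h3, h4⟩
      · exact Or.inl ⟨(order_sub _ h1).mul_left 2, iff_of_true (order_sub _ h1) hp⟩
      · refine Or.inr (Or.inr ?_)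
        rw [hk]
        exact ⟨(order_sub _ h1).mul_left 2, iff_of_true (order_sub _ h1) fun hh => hp' (hPt.2 hh)⟩
      · exact Or.inr (Or.inl ⟨e, by omega, by omega, order_sub _ h4⟩)
    · obtain ⟨y, hy⟩ := card_oG_minusType hQ (k := d') hd hp
      rw [hy] at hdvd
      rcases factor_cases hr' hr2 hrq hq2 hB (by omega) hC hdvd with h1 | h1 | ⟨e, h1, h3, h4⟩
      · obtain ⟨o1, o2⟩ := order_of_dvd_add_one hr2 h1
        exact Or.inl ⟨o1, iff_of_false o2 hp⟩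
      · refine Or.inr (Or.inr ?_)
        rw [hk]
        exact ⟨(order_sub _ h1).mul_left 2, iff_of_true (order_sub _ h1) fun hh => hp' (hPt.2 hh)⟩
      · exact Or.inr (Or.inl ⟨e, by omega, by omega, order_sub _ h4⟩)

/-- Odd-dimensional subspaces in even dimension. -/
theorem hex_odd (hQ : (polarBilin Q).Nondegenerate) (hr2 : r ≠ 2) (hrq : ¬ r ∣ Fintype.card F) {d μ : ℕ}
    (hd : finrank F V = 2 * d) (hμ : 0 < μ) (hμd : μ ≤ d) {W₀ : Submodule F V} (hW₀ : NdOn Q W₀)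
    (hW₀d : finrank F W₀ + 1 = 2 * μ) (h : r ∣ Nat.card {W : Submodule F V // Isom Q W W₀}) :
    NdHexOdd F r (Plus Q ⊤) d μ := by
  have hP := ndon_orth hQ hW₀
  have hdvd := nd_count_dvd hQ hW₀ h
  obtain ⟨x, hx⟩ := card_oG_oddType (nondeg_qres hP) (k := d - μ) (by rw [finrank_orth hQ, hd]; omega)
  rw [hx] at hdvd
  have hq2 : 2 ≤ Fintype.card F := Fintype.one_lt_card
  have hr' := (Fact.out : r.Prime)
  obtain ⟨d', rfl⟩ : ∃ d', d = d' + 1 := ⟨d - 1, by omega⟩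
  rw [show 2 * Fintype.card F ^ x * oProd (Fintype.card F) (d' + 1 - μ) =
    2 * Fintype.card F ^ x * 1 * oProd (Fintype.card F) (d' + 1 - μ) by ring] at hdvd
  have hC : 1 * 1 * oProd (Fintype.card F) (d' + 1 - μ) = oProd (Fintype.card F) (d' + 1 - μ) := by ring
  by_cases hp : Plus Q ⊤
  · obtain ⟨y, hy⟩ := card_oG_plusType hQ (k := d') hd hp
    rw [hy] at hdvd
    rcases factor_cases hr' hr2 hrq hq2 one_pos (by omega) hC hdvd with h1 | h1 | ⟨e, h1, h3, h4⟩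
    · exact Or.inl ⟨(order_sub _ h1).mul_left 2, iff_of_true (order_sub _ h1) hp⟩
    · exact absurd h1 hr'.not_dvd_one
    · exact Or.inr ⟨e, by omega, by omega, order_sub _ h4⟩
  · obtain ⟨y, hy⟩ := card_oG_minusType hQ (k := d') hd hp
    rw [hy] at hdvd
    rcases factor_cases hr' hr2 hrq hq2 one_pos (by omega) hC hdvd with h1 | h1 | ⟨e, h1, h3, h4⟩
    · obtain ⟨o1, o2⟩ := order_of_dvd_add_one hr2 h1
      exact Or.inl ⟨o1, iff_of_false o2 hp⟩
    · exact absurd h1 hr'.not_dvd_one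
    · exact Or.inr ⟨e, by omega, by omega, order_sub _ h4⟩

/-- Even-dimensional subspaces in odd dimension. -/
theorem hex_oddn (hQ : (polarBilin Q).Nondegenerate) (hr2 : r ≠ 2) (hrq : ¬ r ∣ Fintype.card F) {d μ : ℕ} {τ : Prop}
    (hd : finrank F V = 2 * d + 1) (hμ : 0 < μ) (hμd : μ ≤ d)
    (h : r ∣ Nat.card {W : Submodule F V // finrank F W = 2 * μ ∧ NdOn Q W ∧ (Plus Q W ↔ τ)}) :
    ∃ e, d - μ < e ∧ e ≤ d ∧ orderOf (Fintype.card F : ZMod r) ∣ 2 * e := by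
  obtain ⟨W₀, -, hW₀, hW₀d, hW₀p⟩ := exists_sub_type hQ (ndon_top hQ) τ μ (Or.inl ⟨hμ, by rw [finrank_top]; omega⟩)
  rw [type_card_eq hQ hW₀ hW₀d hW₀p] at h
  have hP := ndon_orth hQ hW₀
  have hdvd := nd_count_dvd hQ hW₀ h
  obtain ⟨x, hx⟩ := card_oG_oddType (nondeg_qres hP) (k := d - μ) (by rw [finrank_orth hQ, hd, hW₀d]; omega)
  obtain ⟨y, hy⟩ := card_oG_oddType hQ (k := d) hd
  rw [hx, hy, show 2 * Fintype.card F ^ x * oProd (Fintype.card F) (d - μ) =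
    2 * Fintype.card F ^ x * 1 * oProd (Fintype.card F) (d - μ) by ring,
    show 2 * Fintype.card F ^ y * oProd (Fintype.card F) d =
    2 * Fintype.card F ^ y * 1 * oProd (Fintype.card F) d by ring] at hdvd
  have hC : 1 * 1 * oProd (Fintype.card F) (d - μ) = oProd (Fintype.card F) (d - μ) := by ring
  have hr' := (Fact.out : r.Prime)
  rcases factor_cases hr' hr2 hrq (Fintype.one_lt_card) one_pos (by omega) hC hdvd with h1 | h1 | ⟨e, h1, h3, h4⟩
  · exact absurd h1 hr'.not_dvd_one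
  · exact absurd h1 hr'.not_dvd_one
  · exact ⟨e, by omega, by omega, order_sub _ h4⟩

/-! ## Size of the block -/

theorem bl_dvd {e : ℕ} (h : orderOf (Fintype.card F : ZMod r) ∣ 2 * e) : bl F r ∣ 2 * e := by
  rcases Nat.even_or_odd (orderOf (Fintype.card F : ZMod r)) with hi | hi
  · rw [(bl_even hi).1]; exact h
  · rw [(bl_odd hi).1]; exact mul_dvd_mul_left 2 ((Nat.coprime_two_right.2 hi).dvd_of_dvd_mul_left h)

omit [Fact r.Prime] in
theorem mod_le_of_dvd {c n e : ℕ} (h : c ∣ 2 * e) (hle : 2 * e ≤ n) : n % c ≤ n - 2 * e := by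
  obtain ⟨t, ht⟩ := h
  rw [show n = n - 2 * e + c * t by omega, Nat.add_mul_mod_self_left]
  exact (Nat.mod_le _ _).trans (by omega)

omit [Fact r.Prime] in
theorem mod_eq_of_dvd {c n e : ℕ} (h : c ∣ 2 * e) (hle : 2 * e ≤ n) (hlt : n - 2 * e < c) :
    n % c = n - 2 * e ∧ n / c * c = 2 * e := by
  obtain ⟨t, ht⟩ := h
  obtain ⟨h1, h2⟩ := add_div_mod (A := t) hlt (show n - 2 * e + c * t = n by omega)
  exact ⟨h1, by rw [h2, mul_comm]; omega⟩

theorem le_of_hex {P P' : Prop} {d μ : ℕ} (hμ : μ < d) (h : NdHex F r P P' d μ) :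
    bl F r ≤ 2 * d := by
  rcases h with ⟨h1, -⟩ | ⟨e, h0, h2, h3⟩ | ⟨h1, -⟩
  · exact Nat.le_of_dvd (by omega) (bl_dvd h1)
  · exact (Nat.le_of_dvd (by omega) (bl_dvd h3)).trans (by omega)
  · exact (Nat.le_of_dvd (by omega) (bl_dvd h1)).trans (by omega)

theorem le_of_hexOdd {P : Prop} {d μ : ℕ} (hd : 0 < d) (h : NdHexOdd F r P d μ) :
    bl F r ≤ 2 * d := by
  rcases h with ⟨h1, -⟩ | ⟨e, h0, h2, h3⟩
  · exact Nat.le_of_dvd (by omega) (bl_dvd h1)
  · exact (Nat.le_of_dvd (by omega) (bl_dvd h3)).trans (by omega)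

theorem bl_le_m (hr : (r : F) ≠ 0) {P τ : Prop} {d μ : ℕ} (hμ : 0 < μ) (hμd : μ < d)
    (hx : NdHex F r P (P ↔ τ) d μ) (hc : NdCond F r P τ (2 * d) (2 * μ)) (hk : 0 < (2 * d) % bl F r) :
    bl F r ≤ 2 * μ := by
  by_contra hlt
  rw [not_le] at hlt
  obtain ⟨hl, hm'⟩ : (2 * μ) % bl F r = 2 * μ ∧ 2 * μ / bl F r = 0 :=
    ⟨Nat.mod_eq_of_lt hlt, Nat.div_eq_of_lt hlt⟩
  rcases hc with ⟨-, hc⟩ | ⟨h0, -⟩
  swap
  · omega
  rw [hl, hm'] at hc
  rcases hx with ⟨h1, -⟩ | ⟨e, h0, h1, h3⟩ | ⟨h1, h3⟩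
  · obtain ⟨t, ht⟩ := bl_dvd (F := F) h1
    rw [ht, Nat.mul_mod_right] at hk
    omega
  · obtain ⟨e1, -⟩ := mod_eq_of_dvd (bl_dvd h3) (n := 2 * d) (by omega) (by omega)
    rcases hc with hc | hc | hc <;> omega
  · rcases lt_or_ge (2 * d - 2 * (d - μ)) (bl F r) with h | h
    swap
    · omega
    obtain ⟨e1, e2⟩ := mod_eq_of_dvd (bl_dvd h1) (n := 2 * d) (by omega) h
    rcases hc with hc | hc | hc
    · omega
    · omega
    · have hb : BP F r (2 * d / bl F r) ↔ ¬ (P ↔ τ) := by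
        rw [← h3]
        rcases Nat.even_or_odd (orderOf (Fintype.card F : ZMod r)) with hi | hi
        · obtain ⟨c1, c2⟩ := bl_even (F := F) hi
          rw [c2]
          rw [c1] at e2 ⊢
          obtain ⟨h, hh⟩ := hi
          set i := orderOf (Fintype.card F : ZMod r)
          have hpos : 0 < h := by
            have := (SympElem.poly_facts (F := F) (r := r) hr).2.2.2.1
            omega
          have e3 : d - μ = h * (2 * d / i) := by
            have : i * (2 * d / i) = 2 * (h * (2 * d / i)) := by nth_rw 1 [hh]; ring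
            rw [mul_comm] at e2
            omega
          rw [e3, show i = h * 2 by omega, Nat.mul_dvd_mul_iff_left hpos, even_iff_two_dvd]
        · refine iff_of_true ((bl_odd hi).2 _) ?_
          exact (Nat.coprime_two_right.2 hi).dvd_of_dvd_mul_left h1
      have h4 := hc.2
      have h5 : BP F r 0 := bp_zero
      by_cases c1 : P <;> by_cases c2 : τ <;> simp [c1, c2, h5] at hb h4 <;> exact absurd hb (by simp [h4])

theorem bl_le_m_odd {P : Prop} {d μ : ℕ} (hμ : 0 < μ) (hμd : μ ≤ d)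
    (hx : NdHexOdd F r P d μ) (hc : NdCondOdd F r P (2 * d) (2 * μ - 1)) (hk : 0 < (2 * d) % bl F r) :
    bl F r ≤ 2 * μ - 1 := by
  by_contra hlt
  rw [not_le] at hlt
  rcases hc with ⟨-, hc⟩ | ⟨h0, -⟩
  swap
  · omega
  rw [Nat.mod_eq_of_lt hlt] at hc
  rcases hx with ⟨h1, -⟩ | ⟨e, h0, h1, h3⟩
  · obtain ⟨t, ht⟩ := bl_dvd (F := F) h1
    rw [ht, Nat.mul_mod_right] at hk
    omega
  · have := mod_le_of_dvd (bl_dvd h3) (n := 2 * d) (by omega)
    omega

theorem bl_le_m_oddn {P τ : Prop} {d μ : ℕ} (hμd : μ ≤ d)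
    (hx : ∃ e, d - μ < e ∧ e ≤ d ∧ orderOf (Fintype.card F : ZMod r) ∣ 2 * e)
    (hc : NdCond F r P τ (2 * d + 1) (2 * μ)) (hl : 0 < (2 * μ) % bl F r) : bl F r ≤ 2 * μ := by
  by_contra hlt
  rw [not_le] at hlt
  rw [NdCond, Nat.mod_eq_of_lt hlt] at hc
  rw [Nat.mod_eq_of_lt hlt] at hl
  obtain ⟨e, h0, h1, h3⟩ := hx
  obtain ⟨e1, -⟩ := mod_eq_of_dvd (bl_dvd h3) (n := 2 * d + 1) (by omega) (by omega)
  rcases hc with ⟨-, hc | hc | hc⟩ | ⟨hc, -⟩ <;> omega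

end Cfsg.Agent.Classical.OrthElem
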