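import Cfsg.Agent.Classical.OrthElem.NdTwo
import Cfsg.Agent.Classical.OrthElem.NdHex

/-!
# Non-degenerate subspaces: translation to matrices
-/

set_option autoImplicit false

namespace Cfsg.Agent.Classical.OrthElem

open Module QuadraticMap
open Cfsg.Agent.Classical.Quad (oG qs hex_of_two)
open Cfsg.Agent.Classical.SympElem (Inv inv_iff fx mv fx_apply)

universe u

variable {F : Type u} [Field F] {ι : Type} [Fintype ι] [DecidableEq ι] {Q : QuadraticForm F (ι → F)}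

omit [Fintype ι] [DecidableEq ι] in
theorem isND_iff {W : Submodule F (ι → F)} :
    Cfsg.Geo.IsNondegenerateOn (QuadraticMap.polar ⇑Q) W ↔ NdOn Q W := by
  constructor
  · exact fun h x hx h0 => (h x hx h0).2
  · intro h x hx h0
    obtain ⟨y, hy, hne⟩ := h x hx h0
    exact ⟨⟨y, hy, by rwa [polar_comm]⟩, y, hy, hne⟩

omit [Fintype ι] [DecidableEq ι] in
theorem isPlus_iff {W : Submodule F (ι → F)} : Cfsg.Geo.IsPlusTypeOn ⇑Q W ↔ Plus Q W := Iff.rfl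

omit [Fintype ι] [DecidableEq ι] in
theorem isIsom_iff {W W' : Submodule F (ι → F)} : Cfsg.Geo.AreIsometricFor ⇑Q W W' ↔ Isom Q W W' := Iff.rfl

variable [Fintype F]

/-- From all isometries of the prime order to the projective statement. -/
theorem proj_of_good (hQ : (polarBilin Q).Nondegenerate) (hn : 1 ≤ finrank F (ι → F)) {r : ℕ} (hr : Odd r)
    {G : Submodule F (ι → F) → Prop}
    (H : ∀ a, QGood Q a → a ^ r = 1 → ∃ W, Inv a W ∧ G W) (x : GL ι F) (hx : x ∈ Cfsg.Geo.omegaGL ⇑Q)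
    (hxz : ∃ z : F, ((x ^ r : GL ι F) : Matrix ι ι F) = z • (1 : Matrix ι ι F)) :
    ∃ W, G W ∧ W.map (Matrix.toLin' x.1) ≤ W := by
  obtain ⟨z, hz⟩ := hxz
  obtain ⟨a, hG, har, htr⟩ := exists_normalise hQ hn hr hx hz
  obtain ⟨W, h1, h2⟩ := H a hG har
  exact ⟨W, h2, htr W h1⟩

/-- From the projective statement to all isometries of the prime order. -/
theorem good_of_proj (hn : 5 ≤ finrank F (ι → F)) {r : ℕ} (hr : Odd r) {G : Submodule F (ι → F) → Prop}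
    (H : ∀ x : GL ι F, x ∈ Cfsg.Geo.omegaGL ⇑Q →
      (∃ z : F, ((x ^ r : GL ι F) : Matrix ι ι F) = z • (1 : Matrix ι ι F)) →
      (∀ z : F, x.1 ≠ z • (1 : Matrix ι ι F)) → ∃ W, G W ∧ W.map (Matrix.toLin' x.1) ≤ W)
    (a : Module.End F (ι → F)) (hG : QGood Q a) (har : a ^ r = 1)
    (hfx : finrank F (fx a) < finrank F (ι → F)) : ∃ W, Inv a W ∧ G W := by
  obtain ⟨x, hx, hxr, hxa⟩ := exists_omega_of_good hn hG hr har
  subst hxa
  obtain ⟨W, h1, h2⟩ := H x hx (pow_scalar_of_one hxr) (not_scalar (by omega) hr hG hxr hfx)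
  exact ⟨W, inv_iff.2 h2, h1⟩

/-- From the statement on orders to all isometries of the prime order. -/
theorem good_of_order (hn : 5 ≤ finrank F (ι → F)) {r : ℕ} [Fact r.Prime] (hr : Odd r)
    {G : Submodule F (ι → F) → Prop}
    (H : ∀ x : GL ι F, x ∈ Cfsg.Geo.omegaGL ⇑Q → orderOf x = r → ∃ W, G W ∧ W.map (Matrix.toLin' x.1) ≤ W)
    (a : Module.End F (ι → F)) (hG : QGood Q a) (har : a ^ r = 1)
    (hfx : finrank F (fx a) < finrank F (ι → F)) : ∃ W, Inv a W ∧ G W := by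
  obtain ⟨x, hx, hxr, hxa⟩ := exists_omega_of_good hn hG hr har
  subst hxa
  obtain ⟨W, h1, h2⟩ := H x hx (orderOf_eq hxr hfx)
  exact ⟨W, inv_iff.2 h2, h1⟩

theorem order_of_good {r : ℕ} (hQ : (polarBilin Q).Nondegenerate) {G : Submodule F (ι → F) → Prop}
    (H : ∀ a, QGood Q a → a ^ r = 1 → ∃ W, Inv a W ∧ G W) (x : GL ι F) (hx : x ∈ Cfsg.Geo.omegaGL ⇑Q)
    (hxo : orderOf x = r) : ∃ W, G W ∧ W.map (Matrix.toLin' x.1) ≤ W := by
  obtain ⟨W, h1, h2⟩ := H _ (good_of_mem hQ hx).1 (pow_toLin' (hxo ▸ pow_orderOf_eq_one x))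
  exact ⟨W, h2, inv_iff.1 h1⟩

/-- Elements of projective order two. -/
theorem proj_two (hQ : (polarBilin Q).Nondegenerate) (h2 : (2 : F) ≠ 0) (hn : 1 ≤ finrank F (ι → F))
    {G : Submodule F (ι → F) → Prop}
    (H1 : ∀ a, QGood Q a → a ^ 2 = 1 → Even (finrank F (mv a)) → ∃ W, Inv a W ∧ G W)
    (H2 : ∀ a, QGood Q a → (∀ v, a (a v) = -v) → ∀ d, finrank F (ι → F) = 2 * d → qs (2 : F) ^ d = 1 →
      ∃ W, Inv a W ∧ G W)
    {d : ℕ} (hd : finrank F (ι → F) = 2 * d) (x : GL ι F) (hx : x ∈ Cfsg.Geo.omegaGL ⇑Q)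
    (hxz : ∃ z : F, ((x ^ 2 : GL ι F) : Matrix ι ι F) = z • (1 : Matrix ι ι F)) :
    ∃ W, G W ∧ W.map (Matrix.toLin' x.1) ≤ W := by
  obtain ⟨z, hz⟩ := hxz
  obtain ⟨hG, g, hg, hga⟩ := good_of_mem hQ hx
  obtain ⟨W, h1, h3⟩ : ∃ W, Inv (Matrix.toLin' x.1) W ∧ G W := by
    rcases sq_cases hQ hn hG hz with h | h
    · exact H1 _ hG h (involution_mv hG h2 h hg hga).1
    · exact H2 _ hG h d hd (J_spin hQ h2 hx hd h)
  exact ⟨W, h3, inv_iff.1 h1⟩

/-- Elements of order two in odd dimension. -/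
theorem order_two (hQ : (polarBilin Q).Nondegenerate) (h2 : (2 : F) ≠ 0) {G : Submodule F (ι → F) → Prop}
    (H1 : ∀ a, QGood Q a → a ^ 2 = 1 → Even (finrank F (mv a)) → ∃ W, Inv a W ∧ G W)
    (x : GL ι F) (hx : x ∈ Cfsg.Geo.omegaGL ⇑Q) (hxo : orderOf x = 2) :
    ∃ W, G W ∧ W.map (Matrix.toLin' x.1) ≤ W := by
  obtain ⟨hG, g, hg, hga⟩ := good_of_mem hQ hx
  have har := pow_toLin' (r := 2) (hxo ▸ pow_orderOf_eq_one x)
  obtain ⟨W, h1, h3⟩ := H1 _ hG har (involution_mv hG h2 har hg hga).1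
  exact ⟨W, h3, inv_iff.1 h1⟩

/-- An element with square minus one. -/
theorem exists_J_any (hQ : (polarBilin Q).Nondegenerate) (h2 : (2 : F) ≠ 0) {d : ℕ}
    (hd : finrank F (ι → F) = 2 * d) (hn : 1 ≤ d)
    (hp : (IsSquare (-1 : F) ∧ Plus Q ⊤) ∨ (¬ IsSquare (-1 : F) ∧ (Plus Q ⊤ ↔ Even d)))
    (hs : qs (2 : F) ^ d = 1) :
    ∃ x : GL ι F, x ∈ Cfsg.Geo.omegaGL ⇑Q ∧
      (∃ z : F, ((x ^ 2 : GL ι F) : Matrix ι ι F) = z • (1 : Matrix ι ι F)) ∧
      (∀ z : F, x.1 ≠ z • (1 : Matrix ι ι F)) ∧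
      QGood Q (Matrix.toLin' x.1) ∧ ∀ v, Matrix.toLin' x.1 (Matrix.toLin' x.1 v) = -v := by
  obtain ⟨a, hG, hsq⟩ : ∃ a : Module.End F (ι → F), QGood Q a ∧ ∀ v, a (a v) = -v := by
    rcases hp with ⟨⟨z, hz⟩, hp⟩ | ⟨h1, hp⟩
    · exact exists_sq_split hz.symm d _ Q hQ hd hp
    · exact exists_sq_neg_one h1 d _ Q hQ hd hp
  have hinj := injective_of_good hG
  let g : oG Q := ⟨LinearEquiv.ofBijective a ⟨hinj, LinearMap.injective_iff_surjective.1 hinj⟩, hG.pres⟩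
  obtain ⟨k, hk, hdk, hsk⟩ := sq_neg_one_chars hQ h2 _ ⊤ le_rfl (ndon_top hQ) g (fun _ _ => Submodule.mem_top)
    (fun v _ => hsq v) (fun v hv => by
      have : v = 0 := Submodule.disjoint_def.1 (disjoint_orth (ndon_top hQ)) v Submodule.mem_top hv
      rw [this, map_zero])
  rw [finrank_top, hd] at hk
  obtain rfl : d = k := by omega
  obtain ⟨x, hx, hxa⟩ := exists_of_comm ((Quad.mem_commutator_chars hQ (hex_of_two h2 _) g).2
    ⟨hdk, fun _ => hsk.trans hs⟩)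
  have hxsq : ∀ v, Matrix.toLin' x.1 (Matrix.toLin' x.1 v) = -v := fun v => by
    rw [hxa, hxa]
    exact hsq v
  refine ⟨x, hx, J_pow hxsq, fun z hz => ?_, (good_of_mem hQ hx).1, hxsq⟩
  have hxz : Matrix.toLin' x.1 = z • (1 : Module.End F (ι → F)) := by
    rw [hz, map_smul, Matrix.toLin'_one]; rfl
  have hz2 := scalar_sq hQ (by omega) (good_of_mem hQ hx).1.pres hxz
  have : Nontrivial (ι → F) := Module.nontrivial_of_finrank_pos (R := F) (by omega)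
  obtain ⟨v, hv⟩ := exists_ne (0 : ι → F)
  have h3 := hxsq v
  rw [hxz] at h3
  simp only [LinearMap.smul_apply, Module.End.one_apply, smul_smul, ← pow_two, hz2, one_smul] at h3
  rw [eq_neg_iff_add_eq_zero, ← two_smul F] at h3
  exact hv ((smul_eq_zero.1 h3).resolve_left h2)

end Cfsg.Agent.Classical.OrthElem
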