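import Cfsg.Agent.Classical.OrthElem.Iso

/-!
# Non-degenerate invariant subspaces
-/

set_option autoImplicit false

namespace Cfsg.Agent.Classical.OrthElem

open Module Polynomial Cfsg.Agent.MatModule
open QuadraticMap (polar polarBilin)
open Cfsg.Agent.Classical.SympElem (Inv fx mv inv_fx inv_mv inv_of_le_fx inv_bot inv_top inv_iff poly_facts
  aeval_mv inv_lift lift_le finrank_lift blocks cyc cyc_props exists_compl inv_ker)

universe u v

variable {F : Type u} [Field F] {V : Type v} [AddCommGroup V] [Module F V] [FiniteDimensional F V]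
  {Q : QuadraticForm F V} {a : Module.End F V}

omit [FiniteDimensional F V] in
theorem plus_lift {P : Submodule F V} {U : Submodule F P} : Plus (qres Q P) U ↔ Plus Q (U.map P.subtype) := by
  constructor
  · rintro ⟨X, hle, hX, hXd⟩
    exact ⟨X.map P.subtype, Submodule.map_mono hle, ts_lift hX, by rw [finrank_lift, finrank_lift, hXd]⟩
  · rintro ⟨X, hle, hX, hXd⟩
    have hXP : X ≤ P := hle.trans (lift_le U)
    have hmap : (X.comap P.subtype).map P.subtype = X := by
      rw [Submodule.map_comap_subtype, inf_eq_right.2 hXP]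
    refine ⟨X.comap P.subtype, fun x hx => ?_, ts_comap hX, ?_⟩
    · obtain ⟨y, hy, hyx⟩ := hle hx
      rwa [← show y = x from Subtype.ext hyx]
    · rw [← finrank_lift, hmap, hXd, finrank_lift]

omit [FiniteDimensional F V] in
theorem inv_pow {W : Submodule F V} (hW : Inv a W) (k : ℕ) {x : V} (hx : x ∈ W) : (a ^ k) x ∈ W := by
  induction k with
  | zero => exact hx
  | succ k ih => rw [pow_succ', Module.End.mul_apply]; exact hW _ ih

/-- A totally singular invariant subspace extends to a non-degenerate one of twice the dimension. -/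
theorem exists_pair (hG : QGood Q a) {g : F[X]} (hg : Squarefree g) (hag : aeval a g = 0) {W : Submodule F V}
    (hW : Inv a W) (hts : TS Q W) :
    ∃ U : Submodule F V, W ≤ U ∧ Inv a U ∧ NdOn Q U ∧ finrank F U = 2 * finrank F W ∧ Plus Q U := by
  obtain ⟨C, hC, hWC⟩ := exists_compl hg hag (inv_orth hG hW)
  have hWle : W ≤ orth Q W := fun x hx => mem_orth.2 fun y hy => polar_zero_of_ts hts hx hy
  have hCd : finrank F C = finrank F W := by
    have h1 := Submodule.finrank_add_eq_of_isCompl hWC
    rw [finrank_orth hG.nondeg] at h1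
    have := W.finrank_le
    omega
  have hd : finrank F (W ⊔ C : Submodule F V) = 2 * finrank F W := by
    have h1 := Submodule.finrank_sup_add_finrank_inf_eq W C
    rw [(hWC.disjoint.mono_left hWle).eq_bot, finrank_bot, hCd] at h1
    omega
  refine ⟨W ⊔ C, le_sup_left, hW.sup hC, fun x hx h0 => ?_, hd, ⟨W, le_sup_left, hts, hd.symm⟩⟩
  obtain ⟨w, hw, c, hc, rfl⟩ := Submodule.mem_sup.1 hx
  by_contra hcn
  push Not at hcn
  have hc0 : c = 0 := by
    refine Submodule.disjoint_def.1 hWC.symm.disjoint c hc (mem_orth.2 fun y hy => ?_)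
    have := hcn y (Submodule.mem_sup_left hy)
    rwa [QuadraticMap.polar_add_left, polar_zero_of_ts hts hw hy, zero_add] at this
  subst hc0
  rw [add_zero] at h0 hcn
  refine h0 (Quad.eq_zero_of_polar hG.nondeg fun y => ?_)
  obtain ⟨s, hs, t, ht, rfl⟩ := Submodule.mem_sup.1 (hWC.sup_eq_top.symm ▸ Submodule.mem_top (x := y))
  rw [QuadraticMap.polar_add_right, hcn t (Submodule.mem_sup_right ht), add_zero, QuadraticMap.polar_comm]
  exact mem_orth.1 hs w hw

/-- The kernel of a palindromic polynomial is orthogonal to its image. -/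
theorem polar_ker_range (hG : QGood Q a) {f : F[X]}
    (hpal : ∀ l, l ≤ f.natDegree → f.coeff (f.natDegree - l) = f.coeff l) {x : V} (hx : aeval a f x = 0) (y : V) :
    polar Q (aeval a f y) x = 0 := by
  have hinj : Function.Injective (a ^ f.natDegree) := by
    rw [Module.End.coe_pow]; exact (injective_of_good hG).iterate _
  have hker : Inv (a ^ f.natDegree) (LinearMap.ker (aeval a f)) := inv_ker (by
    rw [show a ^ f.natDegree = aeval a (X ^ f.natDegree : F[X]) by simp]
    exact (Commute.all f (X ^ f.natDegree)).map (aeval a))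
  obtain ⟨⟨x', hx'⟩, he⟩ := ((LinearMap.injective_iff_surjective
    (f := (a ^ f.natDegree).restrict hker)).1 fun u w h => Subtype.ext (hinj (congrArg Subtype.val h)))
    ⟨x, LinearMap.mem_ker.2 hx⟩
  rw [← show (a ^ f.natDegree) x' = x from congrArg Subtype.val he, polar_aeval]
  have h3 := polar_aeval (Q := Q) (a := a) (g := f) x' y
  rw [LinearMap.mem_ker.1 hx', QuadraticMap.polar_zero_left] at h3
  rw [h3, ← Finset.sum_range_reflect (fun l => f.coeff l * polar Q ((a ^ l) x') y)]
  refine Finset.sum_congr rfl fun l hl => ?_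
  have hl' := Finset.mem_range.1 hl
  have := polar_shift hG l 0 (f.natDegree - l) y x'
  rw [add_zero, show l + (f.natDegree - l) = f.natDegree by omega, pow_zero, Module.End.one_apply] at this
  rw [this, show f.natDegree + 1 - 1 - l = f.natDegree - l by omega, hpal l (by omega), QuadraticMap.polar_comm]

variable [Fintype F] {r : ℕ} [Fact r.Prime]

/-- Some cyclic irreducible subspace is non-degenerate when the order is even. -/
theorem step_even (hG : QGood Q a) (hr : (r : F) ≠ 0) (hag : aeval a (cyclotomic r F) = 0)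
    (heven : Even (orderOf (Fintype.card F : ZMod r))) (hpos : 0 < finrank F V) :
    ∃ W : Submodule F V, Inv a W ∧ NdOn Q W ∧ finrank F W = orderOf (Fintype.card F : ZMod r) := by
  obtain ⟨hsf, hAll, -, hi0, -⟩ := poly_facts (F := F) (r := r) hr
  obtain ⟨-, h1, -⟩ := blocks hsf hag hAll
  obtain ⟨f, hf, hirr, hfg, hdim⟩ := h1 hpos
  obtain ⟨he1, he0, hdeg⟩ := factor_facts hr hf hirr hfg
  obtain ⟨hh, hhi⟩ := heven
  have hpal := palindrome hf hirr he1 he0 (dvd_reverse_of_even hr hf hirr hfg hhi)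
  set K := LinearMap.ker (aeval a f) with hK
  obtain ⟨h, hh'⟩ := hfg
  have hcop : IsCoprime f h := hirr.coprime_iff_not_dvd.2 fun hd => hirr.not_isUnit (hsf f (by
    rw [hh']; exact mul_dvd_mul_left f hd))
  have hKinv : Inv a K := inv_ker (by
    simpa using ((Commute.all (X : F[X]) f).map (aeval a)).symm)
  have hKne : ¬ ∀ x ∈ K, ∀ y ∈ K, polar Q x y = 0 := by
    intro hiso
    obtain ⟨x, hx, hx0⟩ := K.exists_mem_ne_zero_of_ne_bot (fun h0 => by rw [h0, finrank_bot] at hdim; omega)
    refine hx0 (Quad.eq_zero_of_polar hG.nondeg fun y => ?_)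
    obtain ⟨s, t, hst⟩ := hcop
    have hy := congrArg (fun p => aeval a p y) hst
    simp only [map_add, map_one, LinearMap.add_apply, Module.End.one_apply] at hy
    have hty : aeval a (t * h) y ∈ K := by
      rw [hK, LinearMap.mem_ker, ← Module.End.mul_apply, ← map_mul,
        show f * (t * h) = t * (f * h) by ring, ← hh', map_mul, hag, mul_zero, LinearMap.zero_apply]
    rw [← hy, QuadraticMap.polar_add_right, hiso x hx _ hty, add_zero, mul_comm s f, map_mul,
      Module.End.mul_apply, QuadraticMap.polar_comm]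
    exact polar_ker_range hG hpal (LinearMap.mem_ker.1 hx) _
  obtain ⟨u, hu, k, hk⟩ : ∃ u ∈ K, ∃ k, polar Q ((a ^ k) u) u ≠ 0 := by
    by_contra hcn
    push Not at hcn
    refine hKne fun x hx y hy => ?_
    have lin : ∀ (k : ℕ) (x y : V), x ∈ K → y ∈ K →
        polar Q ((a ^ k) x) y + polar Q ((a ^ k) y) x = 0 := fun k x y hx hy => by
      have := hcn (x + y) (K.add_mem hx hy) k
      rw [map_add, QuadraticMap.polar_add_left, QuadraticMap.polar_add_right, QuadraticMap.polar_add_right,
        hcn x hx k, hcn y hy k, zero_add, add_zero] at this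
      exact this
    by_cases h2 : (2 : F) = 0
    · have hr2 : r ≠ 2 := fun e => hr (by subst e; exact_mod_cast h2)
      obtain ⟨s, hs⟩ := (Fact.out : r.Prime).odd_of_ne_two hr2
      have har : a ^ r = 1 := by
        have := congrArg (aeval a) (cyclotomic_prime_mul_X_sub_one F r)
        simp only [map_mul, hag, zero_mul, map_sub, map_pow, aeval_X, map_one] at this
        exact sub_eq_zero.1 this.symm
      let M : Module.End F K := a.restrict hKinv
      let N : Module.End F K := 1 - M * M
      have hN : Function.Injective N := (injective_iff_map_eq_zero N).2 fun v hv => by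
        have h0 : a (a (v : V)) = v := (sub_eq_zero.1 (congrArg Subtype.val hv)).symm
        have h1 : ∀ w, (a ^ (2 * w)) (v : V) = v := by
          intro w
          induction w with
          | zero => rfl
          | succ w ih =>
            rw [show 2 * (w + 1) = 2 + 2 * w by ring, pow_add, Module.End.mul_apply, ih, pow_two]
            exact h0
        have h2 : a (v : V) = v := by
          have := LinearMap.congr_fun har (v : V)
          rwa [hs, pow_succ', Module.End.mul_apply, h1 s, Module.End.one_apply] at this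
        exact Subtype.ext (fix_free hr hag h2)
      have hMi : Function.Injective M := fun u v h =>
        Subtype.ext (injective_of_good hG (congrArg Subtype.val h))
      obtain ⟨x', hx'⟩ := LinearMap.injective_iff_surjective.1 hMi ⟨x, hx⟩
      obtain ⟨y', hy'⟩ := LinearMap.injective_iff_surjective.1 hN ⟨y, hy⟩
      rw [← show a (x' : V) = x from congrArg Subtype.val hx',
        ← show (y' : V) - a (a (y' : V)) = y from congrArg Subtype.val hy', QuadraticMap.polar_sub_right,
        polar_pres hG]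
      have := lin 1 x' y' x'.2 y'.2
      rw [pow_one, QuadraticMap.polar_comm Q (a (y' : V))] at this
      linear_combination this - polar Q (x' : V) (a (y' : V)) * h2
    · have := lin 0 x y hx hy
      rw [pow_zero, Module.End.one_apply, Module.End.one_apply, QuadraticMap.polar_comm Q y x, ← two_mul] at this
      exact (mul_eq_zero.1 this).resolve_left h2
  have hu0 : u ≠ 0 := fun e => hk (by rw [e, map_zero, QuadraticMap.polar_zero_left])
  obtain ⟨hinv, hfin, hmin⟩ := cyc_props hf hirr hu0 (LinearMap.mem_ker.1 hu)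
  set W := cyc a u f.natDegree
  have huW : u ∈ W := Submodule.subset_span ⟨⟨0, hirr.natDegree_pos⟩, by simp⟩
  refine ⟨W, hinv, fun x hx h0 => ?_, hfin.trans hdeg⟩
  by_contra hcn
  push Not at hcn
  have hrad : W ⊓ orth Q W = W := hmin _ (hinv.inf (inv_orth hG hinv)) inf_le_left fun hb =>
    h0 ((Submodule.eq_bot_iff _).1 hb x ⟨hx, mem_orth.2 hcn⟩)
  exact hk (mem_orth.1 (hrad.ge (inv_pow hinv k huW)).2 u huW)

/-- Dimension of a block of the moved space. -/
noncomputable def bl (F : Type u) [Fintype F] (r : ℕ) : ℕ :=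
  if Even (orderOf (Fintype.card F : ZMod r)) then orderOf (Fintype.card F : ZMod r)
  else 2 * orderOf (Fintype.card F : ZMod r)

/-- The type of a sum of blocks. -/
def BP (F : Type u) [Fintype F] (r A : ℕ) : Prop :=
  Odd (orderOf (Fintype.card F : ZMod r)) ∨ Even A

theorem bl_even (h : Even (orderOf (Fintype.card F : ZMod r))) :
    bl F r = orderOf (Fintype.card F : ZMod r) ∧ ∀ A, (BP F r A ↔ Even A) :=
  ⟨if_pos h, fun _ => or_iff_right (Nat.not_odd_iff_even.2 h)⟩

theorem bl_odd (h : Odd (orderOf (Fintype.card F : ZMod r))) :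
    bl F r = 2 * orderOf (Fintype.card F : ZMod r) ∧ ∀ A, BP F r A :=
  ⟨if_neg (Nat.not_even_iff_odd.2 h), fun _ => Or.inl h⟩

theorem bl_pos (hr : (r : F) ≠ 0) : 0 < bl F r ∧ Even (bl F r) := by
  have hi0 := (poly_facts (F := F) (r := r) hr).2.2.2.1
  rcases Nat.even_or_odd (orderOf (Fintype.card F : ZMod r)) with h | h
  · rw [(bl_even h).1]; exact ⟨hi0, h⟩
  · rw [(bl_odd h).1]; exact ⟨by omega, even_two_mul _⟩

theorem bp_zero : BP F r 0 := Or.inr Even.zero

/-- The moved space is a sum of blocks. -/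
theorem mv_blocks (hG : QGood Q a) (hr : (r : F) ≠ 0) (hr2 : r ≠ 2) (har : a ^ r = 1) :
    ∃ N, finrank F (mv a) = bl F r * N ∧ (Plus Q (mv a) ↔ BP F r N) := by
  rcases Nat.even_or_odd (orderOf (Fintype.card F : ZMod r)) with h | h
  · obtain ⟨N, hN⟩ := mv_dvd hG hr har
    obtain ⟨e1, e2⟩ := bl_even h
    refine ⟨N, by rw [e1, hN], ?_⟩
    rw [e2, mv_even hG hr har h, hN, Nat.mul_div_cancel_left _ (poly_facts (F := F) (r := r) hr).2.2.2.1]
  · obtain ⟨⟨N, hN⟩, hp⟩ := mv_odd hG hr hr2 har h
    exact ⟨N, by rw [(bl_odd h).1, hN], iff_of_true hp ((bl_odd h).2 N)⟩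

/-- The two parts of a non-degenerate invariant subspace. -/
theorem split_nd (hG : QGood Q a) (hr : (r : F) ≠ 0) (hr2 : r ≠ 2) (har : a ^ r = 1) {W : Submodule F V}
    (hW : Inv a W) (hWn : NdOn Q W) :
    ∃ A, finrank F (W ⊓ mv a : Submodule F V) = bl F r * A ∧
      finrank F (W ⊓ fx a : Submodule F V) + bl F r * A = finrank F W ∧
      (Plus Q (W ⊓ mv a) ↔ BP F r A) ∧ NdOn Q (W ⊓ mv a) ∧ NdOn Q (W ⊓ fx a) ∧
      (Even (finrank F (W ⊓ fx a : Submodule F V)) → (Plus Q W ↔ (Plus Q (W ⊓ fx a) ↔ BP F r A))) := by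
  obtain ⟨heq, hsum⟩ := split_inv hG hr har hW
  have hG' := good_restrict hG hW hWn
  have har' := restrict_pow_eq_one hW har
  obtain ⟨-, horth', hNE, hNR⟩ := fixed_decomp hG' hr har'
  have hmle : (mv (a.restrict hW)).map W.subtype ≤ W ⊓ mv a := by
    rintro _ ⟨_, ⟨y, rfl⟩, rfl⟩
    exact ⟨((a.restrict hW - 1) y).2, (y : V), rfl⟩
  have hfe : (fx (a.restrict hW)).map W.subtype = W ⊓ fx a := by
    refine le_antisymm ?_ ?_
    · rintro _ ⟨y, hy, rfl⟩
      exact ⟨y.2, SympElem.mem_fx (congrArg Subtype.val (SympElem.fx_apply hy))⟩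
    · rintro x ⟨hx, hxa⟩
      exact ⟨⟨x, hx⟩, SympElem.mem_fx (Subtype.ext (SympElem.fx_apply hxa)), rfl⟩
  have hme : (mv (a.restrict hW)).map W.subtype = W ⊓ mv a := by
    refine Submodule.eq_of_le_of_finrank_le hmle ?_
    have h1 := finrank_fx_add (a := a.restrict hW)
    have h2 := congrArg (fun X : Submodule F V => finrank F X) hfe
    simp only [finrank_lift] at h2
    rw [finrank_lift]
    omega
  obtain ⟨A, hA, hAp⟩ := mv_blocks hG' hr hr2 har'
  have hAd : finrank F (W ⊓ mv a : Submodule F V) = bl F r * A := by rw [← hme, finrank_lift, hA]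
  refine ⟨A, hAd, by omega, ?_, hme ▸ ndon_lift hNR, hfe ▸ ndon_lift hNE, fun he => ?_⟩
  · rw [← hme, ← plus_lift, hAp]
  · have hperp : W ⊓ fx a ≤ orth Q (W ⊓ mv a) := fun x hx => mem_orth.2 fun y hy =>
      mem_orth.1 (orth_le (fixed_decomp hG hr har).2.1.ge hx.2) y hy.2
    conv_lhs => rw [← heq]
    rw [plus_sup_iff hG.nondeg (hfe ▸ ndon_lift hNE) (hme ▸ ndon_lift hNR) hperp he
      (hAd ▸ (bl_pos hr).2.mul_right A), show Plus Q (W ⊓ mv a) ↔ BP F r A by rw [← hme, ← plus_lift, hAp]]

theorem exists_block (hG : QGood Q a) (hr : (r : F) ≠ 0) (hr2 : r ≠ 2) (hag : aeval a (cyclotomic r F) = 0)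
    (hpos : 0 < finrank F V) : ∃ W : Submodule F V, Inv a W ∧ NdOn Q W ∧ finrank F W = bl F r := by
  rcases Nat.even_or_odd (orderOf (Fintype.card F : ZMod r)) with h | h
  · obtain ⟨W, a1, a2, a3⟩ := step_even hG hr hag h hpos
    exact ⟨W, a1, a2, by rw [(bl_even h).1, a3]⟩
  · obtain ⟨W, hW, hts, hd⟩ := exists_ts_block hG hr hr2 hag (Or.inl ⟨h, hpos⟩)
    obtain ⟨U, -, hU, hUn, hUd, -⟩ := exists_pair hG (poly_facts (F := F) (r := r) hr).1 hag hW hts
    exact ⟨U, hU, hUn, by rw [(bl_odd h).1, hUd, hd]⟩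

/-- Sums of blocks of every possible number. -/
theorem exists_blocks (hG : QGood Q a) (hr : (r : F) ≠ 0) (hr2 : r ≠ 2) (har : a ^ r = 1) :
    ∀ A, bl F r * A ≤ finrank F (mv a) → ∃ X : Submodule F V, X ≤ mv a ∧ Inv a X ∧ NdOn Q X ∧
      finrank F X = bl F r * A ∧ (Plus Q X ↔ BP F r A) := by
  obtain ⟨hc, horth, hNE, hNR⟩ := fixed_decomp hG hr har
  have key : ∀ A, bl F r * A ≤ finrank F (mv a) → ∃ X : Submodule F V, X ≤ mv a ∧ Inv a X ∧ NdOn Q X ∧
      finrank F X = bl F r * A := by
    intro A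
    induction A with
    | zero => exact fun _ => ⟨⊥, bot_le, inv_bot, ndon_bot, by simp⟩
    | succ A ih =>
      intro hA
      rw [Nat.mul_succ] at hA
      obtain ⟨X, hle, hX, hXn, hXd⟩ := ih (by omega)
      obtain ⟨hP, -, hPd⟩ := ndon_diff hG.nondeg hNR hXn hle
      have hPi : Inv a (mv a ⊓ orth Q X) := inv_mv.inf (inv_orth hG hX)
      have := (bl_pos (F := F) hr).1
      obtain ⟨W, hW, hWn, hWd⟩ := exists_block (good_restrict hG hPi hP) hr hr2 (by
        refine LinearMap.ext fun x => Subtype.ext ?_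
        have h0 := congrArg Subtype.val (LinearMap.congr_fun (aeval_mv (a := a) har) ⟨x, x.2.1⟩)
        rw [← aeval_agree (a := a) (b := a.restrict (inv_mv (a := a))) (fun _ => rfl)] at h0
        rw [← aeval_agree (a := a) (b := a.restrict hPi) (fun _ => rfl)]
        exact h0) (by omega)
      have hperp : W.map (mv a ⊓ orth Q X).subtype ≤ orth Q X := (lift_le W).trans inf_le_right
      refine ⟨W.map (mv a ⊓ orth Q X).subtype ⊔ X, sup_le ((lift_le W).trans inf_le_left) hle,
        (inv_lift hW).sup hX, ndon_sup (ndon_lift hWn) hXn hperp, ?_⟩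
      rw [finrank_sup_orth hXn hperp, finrank_lift, hWd, hXd, Nat.mul_succ, add_comm]
  intro A hA
  obtain ⟨X, hle, hX, hXn, hXd⟩ := key A hA
  obtain ⟨A', hA', -, hp, -⟩ := split_nd hG hr hr2 har hX hXn
  rw [inf_eq_left.2 hle] at hA' hp
  obtain rfl : A' = A := Nat.eq_of_mul_eq_mul_left (bl_pos hr).1 (hA'.symm.trans hXd)
  exact ⟨X, hle, hX, hXn, hXd, hp⟩

end Cfsg.Agent.Classical.OrthElem
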