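import Cfsg.Agent.Classical.OrthElem.NdCrit

/-!
# Non-degenerate invariant subspaces of involutions
-/

set_option autoImplicit false

namespace Cfsg.Agent.Classical.OrthElem

open Module QuadraticMap
open Cfsg.Agent.Classical.Quad (oG qs)
open Cfsg.Agent.Classical.SympElem (Inv fx mv inv_of_le_fx inv_top inv_bot inv_lift lift_le finrank_lift)

universe u v

variable {F : Type u} [Field F] [Fintype F]

section general

variable {V : Type v} [AddCommGroup V] [Module F V] [FiniteDimensional F V] {Q : QuadraticForm F V}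
  {a : Module.End F V}

/-- An involution fixes subspaces of every even dimension and both types. -/
theorem involution_type (hG : QGood Q a) (h2 : (2 : F) ≠ 0) (har : a ^ 2 = 1) (hM : Even (finrank F (mv a)))
    {m : ℕ} (hn : 5 ≤ finrank F V) (hm : 0 < m) (hme : Even m) (hmn : m < finrank F V) (τ : Prop) :
    HasND Q a m τ := by
  obtain ⟨hc, horth, hNE, hNR⟩ := fixed_decomp hG (r := 2) (by exact_mod_cast h2) har
  obtain ⟨j, hj⟩ := hM
  obtain ⟨μ, hμ⟩ := hme
  have hsum := finrank_fx_add (a := a)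
  have hperp : ∀ {U X : Submodule F V}, U ≤ fx a → X ≤ mv a → U ≤ orth Q X := fun hU hX x hx =>
    mem_orth.2 fun y hy => mem_orth.1 (orth_le horth.ge (hU hx)) y (hX hy)
  have comb : ∀ {U X : Submodule F V}, U ≤ fx a → X ≤ mv a → NdOn Q U → NdOn Q X → Even (finrank F U) →
      Even (finrank F X) → finrank F U + finrank F X = m → ((Plus Q U ↔ Plus Q X) ↔ τ) → HasND Q a m τ := by
    intro U X h1 h3 h4 h5 h6 h7 h8 h9
    refine ⟨U ⊔ X, (inv_of_le_fx h1).sup (involution_inv har h3), ndon_sup h4 h5 (hperp h1 h3),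
      by rw [finrank_sup_orth h5 (hperp h1 h3), h8], ?_⟩
    rw [plus_sup_iff hG.nondeg h4 h5 (hperp h1 h3) h6 h7]
    exact h9
  have part : ∀ {U : Submodule F V}, NdOn Q U → ∀ k, 2 * k ≤ finrank F U →
      ∃ X : Submodule F V, X ≤ U ∧ NdOn Q X ∧ finrank F X = 2 * k := by
    intro U hU k hk
    rcases lt_or_eq_of_le hk with h | h
    · obtain ⟨X, h1, h3, h4, -⟩ := exists_sub_type hG.nondeg hU True k (by
        rcases Nat.eq_zero_or_pos k with rfl | h0
        · exact Or.inr ⟨rfl, trivial⟩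
        · exact Or.inl ⟨h0, h⟩)
      exact ⟨X, h1, h3, h4⟩
    · exact ⟨U, le_rfl, hU, h.symm⟩
  by_cases he : 3 ≤ finrank F (fx a)
  · set b := min μ ((finrank F (fx a) - 1) / 2) with hb
    obtain ⟨X, x1, x2, x3⟩ := part hNR (μ - b) (by omega)
    obtain ⟨U, u1, u2, u3, u4⟩ := exists_sub_type hG.nondeg hNE (τ ↔ Plus Q X) b (Or.inl ⟨by omega, by omega⟩)
    refine comb u1 x1 u2 x2 ⟨b, by omega⟩ ⟨μ - b, by omega⟩ (by omega) ?_
    rw [u4]
    by_cases c1 : Plus Q X <;> simp [c1]
  by_cases hb : m + 2 ≤ finrank F V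
  · set x := min μ (j - 1) with hx
    obtain ⟨U, u1, u2, u3⟩ := part hNE (μ - x) (by omega)
    obtain ⟨X, x1, x2, x3, x4⟩ := exists_sub_type hG.nondeg hNR (τ ↔ Plus Q U) x (Or.inl ⟨by omega, by omega⟩)
    refine comb u1 x1 u2 x2 ⟨μ - x, by omega⟩ ⟨x, by omega⟩ (by omega) ?_
    rw [x4]
    by_cases c1 : Plus Q U <;> simp [c1]
  obtain ⟨X, x1, x2, x3, x4⟩ := exists_sub_type hG.nondeg hNR τ (μ - 1) (Or.inl ⟨by omega, by omega⟩)
  obtain ⟨hL, -, hLd⟩ := ndon_diff hG.nondeg hNR x2 x1
  obtain ⟨w, hw, hQw⟩ := exists_aniso_vec hNE (fun h0 => by rw [h0, finrank_bot] at hsum; omega)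
  obtain ⟨v, hv, hQv⟩ := exists_value_in h2 hL (by omega) (c := -Q w) (neg_ne_zero.2 hQw)
  have hvw : polar Q v w = 0 := by
    rw [polar_comm]
    exact mem_orth.1 (orth_le horth.ge hw) v hv.1
  obtain ⟨hP, hPd⟩ := ndon_pairSpan (Q := Q) (x := v) (y := w) (by
    rw [Quad.polar_self', Quad.polar_self', hvw, hQv]
    simpa using ⟨h2, hQw⟩)
  have hPp : Plus Q (pairSpan (F := F) v w) := by
    have h0 : v + w ≠ 0 := fun h0 => by
      have : polar Q v (v + w) = 0 := by rw [h0, polar_zero_right]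
      rw [polar_add_right, hvw, add_zero, Quad.polar_self', hQv] at this
      simp [h2, hQw] at this
    refine ⟨Submodule.span F {v + w}, ?_, ts_span_singleton (by rw [Quad.map_add', hvw, hQv]; ring),
      by rw [finrank_span_singleton h0, hPd]⟩
    exact (Submodule.span_singleton_le_iff_mem _ _).2
      (Submodule.add_mem _ (left_mem_pairSpan v w) (right_mem_pairSpan v w))
  have hXP : X ≤ orth Q (pairSpan (F := F) v w) := fun x hx => mem_orth.2 fun y hy => by
    obtain ⟨s, t, rfl⟩ := mem_pairSpan.1 hy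
    rw [polar_add_right, polar_smul_right, polar_smul_right, polar_comm Q x v, mem_orth.1 hv.2 x hx, polar_comm Q x w,
      mem_orth.1 (orth_le horth.ge hw) x (x1 hx)]
    simp
  refine ⟨X ⊔ pairSpan v w, ?_, ndon_sup x2 hP hXP, by rw [finrank_sup_orth hP hXP, hPd, x3]; omega, ?_⟩
  · intro z hz
    obtain ⟨x, hx, y, hy, rfl⟩ := Submodule.mem_sup.1 hz
    obtain ⟨s, t, rfl⟩ := mem_pairSpan.1 hy
    rw [map_add, map_add, map_smul, map_smul, SympElem.fx_apply hw, SympElem.mv_involution har hv.1]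
    exact Submodule.add_mem_sup (involution_inv har x1 x hx) (mem_pairSpan.2 ⟨-s, t, by rw [neg_smul, smul_neg]⟩)
  · rw [plus_sup_iff hG.nondeg x2 hP hXP ⟨μ - 1, by omega⟩ ⟨1, hPd⟩, x4]
    exact ⟨fun h => h.2 hPp, fun h => iff_of_true h hPp⟩

/-- An involution fixes subspaces of every odd dimension and both classes. -/
theorem involution_isom (hG : QGood Q a) (h2 : (2 : F) ≠ 0) (har : a ^ 2 = 1) (hM : Even (finrank F (mv a)))
    (hV : Even (finrank F V)) {W₀ : Submodule F V} (hW₀ : NdOn Q W₀) (hodd : Odd (finrank F W₀)) :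
    HasIsom Q a W₀ := by
  obtain ⟨hc, horth, hNE, hNR⟩ := fixed_decomp hG (r := 2) (by exact_mod_cast h2) har
  obtain ⟨j, hj⟩ := hM
  obtain ⟨n, hn⟩ := hV
  obtain ⟨k, hk⟩ := hodd
  have hle := W₀.finrank_le
  have hsum := finrank_fx_add (a := a)
  by_cases he : finrank F (fx a) = 0
  · have hmv : mv a = ⊤ := Submodule.eq_top_of_finrank_eq (by omega)
    exact ⟨W₀, involution_inv har (hmv ▸ le_top), hW₀, Isom.refl _⟩
  set x := min k j with hx
  obtain ⟨X, x1, x2, x3⟩ : ∃ X : Submodule F V, X ≤ mv a ∧ NdOn Q X ∧ finrank F X = 2 * x := by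
    rcases lt_or_ge x j with h | h
    · obtain ⟨X, h1, h3, h4, -⟩ := exists_sub_type hG.nondeg hNR True x (by
        rcases Nat.eq_zero_or_pos x with h0 | h0
        · exact Or.inr ⟨h0, trivial⟩
        · exact Or.inl ⟨h0, by omega⟩)
      exact ⟨X, h1, h3, h4⟩
    · exact ⟨mv a, le_rfl, hNR, by omega⟩
  obtain ⟨U, u1, u2, u3, -⟩ := exists_sub_type hG.nondeg hNE True (k - x) (by
    rcases Nat.eq_zero_or_pos (k - x) with h0 | h0
    · exact Or.inr ⟨h0, trivial⟩
    · exact Or.inl ⟨h0, by omega⟩)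
  obtain ⟨hL, -, hLd⟩ := ndon_diff hG.nondeg hNE u2 u1
  have hperp : U ≤ orth Q X := fun z hz => mem_orth.2 fun y hy =>
    mem_orth.1 (orth_le horth.ge (u1 hz)) y (x1 hy)
  obtain ⟨v, hv, hWn, hiso⟩ := exists_in_class hG.nondeg h2 hW₀ (ndon_sup u2 x2 hperp) (k := k)
    (by rw [finrank_sup_orth x2 hperp, u3, x3]; omega) hk hL (by omega) (fun z hz => mem_orth.2 fun y hy => by
      obtain ⟨p, hp, q, hq, rfl⟩ := Submodule.mem_sup.1 hy
      rw [polar_add_right, mem_orth.1 hz.2 p hp, mem_orth.1 (orth_le horth.ge hz.1) q (x1 hq), add_zero])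
  exact ⟨_, ((inv_of_le_fx u1).sup (involution_inv har x1)).sup
    (inv_of_le_fx ((Submodule.span_singleton_le_iff_mem _ _).2 hv.1)), hWn, hiso⟩

/-- Square minus one: non-degenerate invariant subspaces of all even dimensions. -/
theorem sq_planes (hG : QGood Q a) (h2 : (2 : F) ≠ 0) (hsq : ∀ v, a (a v) = -v) :
    ∀ k, 2 * k ≤ finrank F V → ∃ W : Submodule F V, Inv a W ∧ NdOn Q W ∧ finrank F W = 2 * k := by
  intro k
  induction k with
  | zero => exact fun _ => ⟨⊥, inv_bot, ndon_bot, by simp⟩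
  | succ k ih =>
    intro hk
    obtain ⟨W, hW, hWn, hWd⟩ := ih (by omega)
    obtain ⟨v, hv, hQv⟩ := exists_aniso_vec (ndon_orth hG.nondeg hWn) (fun h0 => by
      have := finrank_orth hG.nondeg W
      rw [h0, finrank_bot, hWd] at this
      omega)
    have hav := inv_orth hG hW v hv
    have hvv : polar Q v (a v) = 0 := by
      have h := polar_pres hG v (a v)
      rw [hsq, polar_neg_right, polar_comm Q (a v) v] at h
      exact (mul_eq_zero.1 (by linear_combination -h : (2 : F) * polar Q v (a v) = 0)).resolve_left h2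
    obtain ⟨hS, hSd⟩ := ndon_pairSpan (Q := Q) (x := v) (y := a v) (by
      rw [Quad.polar_self', Quad.polar_self', hvv, hG.pres]
      simpa using ⟨h2, hQv⟩)
    refine ⟨pairSpan v (a v) ⊔ W, Inv.sup (fun x hx => ?_) hW, ndon_sup hS hWn (pairSpan_le hv hav),
      by rw [finrank_sup_orth hWn (pairSpan_le hv hav), hSd, hWd]; ring⟩
    obtain ⟨s, t, rfl⟩ := mem_pairSpan.1 hx
    exact mem_pairSpan.2 ⟨-t, s, by rw [map_add, map_smul, map_smul, hsq, smul_neg, neg_smul, add_comm]⟩

/-- Square minus one: the shape of a non-degenerate invariant subspace. -/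
theorem sq_shape (hG : QGood Q a) (h2 : (2 : F) ≠ 0) (hsq : ∀ v, a (a v) = -v) {W : Submodule F V}
    (hW : Inv a W) (hWn : NdOn Q W) :
    ∃ k, finrank F W = 2 * k ∧ (Plus Q W ↔ (IsSquare (-1 : F) ∨ Even k)) := by
  have hG' := good_restrict hG hW hWn
  have hsq' : ∀ v, a.restrict hW (a.restrict hW v) = -v := fun v => Subtype.ext (hsq v)
  obtain ⟨k, hk⟩ : Even (finrank F W) := by
    by_contra hn
    obtain ⟨k, hk⟩ := Nat.not_even_iff_odd.1 hn
    obtain ⟨U, hU, hUn, hUd⟩ := sq_planes hG' h2 hsq' k (by omega)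
    have hd := finrank_orth hG'.nondeg U
    obtain ⟨v, hv, hQv⟩ := exists_aniso_vec (ndon_orth hG'.nondeg hUn) (fun h0 => by
      rw [h0, finrank_bot, hUd] at hd; omega)
    have hv0 : v ≠ 0 := fun h => hQv (by rw [h, QuadraticMap.map_zero])
    have hspan : Submodule.span F {v} = orth (qres Q W) U :=
      Submodule.eq_of_le_of_finrank_le ((Submodule.span_singleton_le_iff_mem _ _).2 hv)
        (by rw [finrank_span_singleton hv0, hd, hUd]; omega)
    obtain ⟨c, hc⟩ := Submodule.mem_span_singleton.1 (hspan.ge (inv_orth hG' hU v hv))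
    have h1 : c * c = 1 := by
      have := hG'.pres v
      rw [← hc, Quad.map_smul'] at this
      exact mul_right_cancel₀ hQv (by rw [one_mul]; exact this)
    have h3 := hsq' v
    rw [← hc, map_smul, ← hc, smul_smul, h1, one_smul, eq_neg_iff_add_eq_zero, ← two_smul F] at h3
    exact hv0 ((smul_eq_zero.1 h3).resolve_left h2)
  refine ⟨k, by omega, ?_⟩
  by_cases h1 : IsSquare (-1 : F)
  · obtain ⟨z, hz⟩ := h1
    exact iff_of_true (plus_qres.1 (sq_neg_one_split hG' h2 hsq' hz.symm (d := k) (by omega)).1)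
      (Or.inl ⟨z, hz⟩)
  · rw [or_iff_right h1, ← plus_qres]
    exact sq_neg_one_type h2 h1 k W _ _ hG' hsq' (by omega)

/-- An isometry with square minus one in a hyperbolic space. -/
theorem exists_sq_split {z : F} (hz : z * z = -1) : ∀ (d : ℕ) (W : Type v) [AddCommGroup W] [Module F W]
    [FiniteDimensional F W] (R : QuadraticForm F W), (polarBilin R).Nondegenerate → finrank F W = 2 * d →
      Plus R ⊤ → ∃ a : Module.End F W, QGood R a ∧ ∀ x, a (a x) = -x := by
  intro d
  induction d with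
  | zero =>
    intro W _ _ _ R hR hd _
    have : Subsingleton W := Module.finrank_zero_iff.1 hd
    exact ⟨1, ⟨hR, fun x => rfl⟩, fun x => Subsingleton.elim _ _⟩
  | succ d ih =>
    intro W _ _ _ R hR hd hp
    obtain ⟨X, -, hX, hXd⟩ := hp
    rw [finrank_top, hd] at hXd
    obtain ⟨e, he, he0⟩ := X.exists_mem_ne_zero_of_ne_bot (fun h0 => by rw [h0, finrank_bot] at hXd; omega)
    obtain ⟨f, -, hQf, hef⟩ := exists_pair_in (ndon_top hR) (Submodule.mem_top (x := e)) he0 (hX e he)
    obtain ⟨hS, hSd, hSp⟩ := ndon_hyp (hX e he) hQf hef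
    set S := pairSpan (F := F) e f
    have hPd : finrank F (orth R S) = 2 * d := by rw [finrank_orth hR, hSd, hd]; omega
    obtain ⟨a₂, hG₂, ha₂⟩ := ih (orth R S) (qres R (orth R S)) (nondeg_qres (ndon_orth hR hS)) hPd (by
      have h3 := plus_sup_iff hR hS (ndon_orth hR hS) (orth_le le_rfl) ⟨1, hSd⟩ ⟨d, by omega⟩
      rw [(isCompl_orth hR hS).sup_eq_top] at h3
      exact plus_qres.2 ((h3.1 ⟨X, le_top, hX, by rw [finrank_top, hd, hXd]⟩).1 hSp))
    let L : Module.End F W :=
      (z • (polarBilin R).flip f).smulRight e + (-z • (polarBilin R).flip e).smulRight f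
    have hL : ∀ x, L x = (z * polar R x f) • e + (-z * polar R x e) • f := fun x => rfl
    have hLS : Inv L S := fun x _ => mem_pairSpan.2 ⟨_, _, (hL x).symm⟩
    have hee : polar R e e = 0 := by rw [Quad.polar_self', hX e he, mul_zero]
    have hff : polar R f f = 0 := by rw [Quad.polar_self', hQf, mul_zero]
    have hLa : ∀ s t : F, L (s • e + t • f) = (z * s) • e + (-z * t) • f := fun s t => by
      rw [hL]
      simp only [polar_add_left, polar_smul_left, hee, hff, hef, polar_comm R f e, smul_eq_mul]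
      congr 2 <;> ring
    have hG₁ : QGood (qres R S) (L.restrict hLS) := ⟨nondeg_qres hS, fun x => by
      obtain ⟨s, t, hst⟩ := mem_pairSpan.1 x.2
      show R (L (x : W)) = R (x : W)
      rw [← hst, hLa]
      simp only [Quad.map_add', Quad.map_smul', polar_smul_left, polar_smul_right, hX e he, hQf, hef, smul_eq_mul]
      linear_combination -(s * t) * hz⟩
    obtain ⟨a, hG, ha1, ha2⟩ := glue hR hS hG₁ hG₂
    refine ⟨a, hG, fun x => ?_⟩
    obtain ⟨u, hu, w, hw, rfl⟩ := Submodule.mem_sup.1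
      ((isCompl_orth hR hS).sup_eq_top.symm ▸ Submodule.mem_top (x := x))
    rw [map_add, ha1 ⟨u, hu⟩, ha2 ⟨w, hw⟩, map_add, ha1, ha2, ha₂]
    obtain ⟨s, t, rfl⟩ := mem_pairSpan.1 hu
    show L (L (s • e + t • f)) + _ = _
    rw [hLa, hLa, Submodule.coe_neg, show z * (z * s) = -s by linear_combination s * hz,
      show -z * (-z * t) = -t by linear_combination t * hz, neg_smul, neg_smul]
    abel

end general

end Cfsg.Agent.Classical.OrthElem
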