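import Cfsg.Agent.Classical.OrthElem.NdGlue
import Cfsg.Agent.Classical.AltBasis

/-!
# Unipotent elements without invariant non-degenerate subspaces
-/

set_option autoImplicit false

namespace Cfsg.Agent.Classical.OrthElem

open Module QuadraticMap
open Cfsg.Agent.Classical.Quad (oG qs hex_of_two)
open Cfsg.Agent.Classical.SympElem (Inv inv_iff fx mv fx_apply mem_fx inv_fx inv_mv finrank_lift lift_le)

universe u v

variable {F : Type u} [Field F]

section general

variable {V : Type v} [AddCommGroup V] [Module F V] [FiniteDimensional F V] {Q : QuadraticForm F V}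
  {a : Module.End F V} {p : ℕ} [Fact p.Prime] [CharP F p]

omit [FiniteDimensional F V] in
theorem pow_eq_one_of_nilp (h : (a - 1) ^ p = 0) : a ^ p = 1 := by
  have e : ((Polynomial.X : Polynomial F) - 1) ^ p = Polynomial.X ^ p - 1 := by rw [sub_pow_char, one_pow]
  have := congrArg (Polynomial.aeval a) e
  simp only [map_pow, map_sub, Polynomial.aeval_X, map_one, h] at this
  exact sub_eq_zero.1 this.symm

omit [FiniteDimensional F V] in
theorem nilp_mono {k : ℕ} (h : (a - 1) ^ k = 0) (hk : k ≤ p) : a ^ p = 1 :=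
  pow_eq_one_of_nilp (pow_eq_zero_of_le hk h)

/-- A square-zero element with prescribed image. -/
theorem exists_unip_ts (hQ : (polarBilin Q).Nondegenerate) {W : Submodule F V} (hW : TS Q W) {t : ℕ}
    (ht : finrank F W = t + t) :
    ∃ a : Module.End F V, QGood Q a ∧ a ^ p = 1 ∧ mv a = W ∧ fx a = orth Q W := by
  let b : Basis (Fin t ⊕ Fin t) F W := (finBasisOfFinrankEq F W ht).reindex finSumFinEquiv.symm
  let φ : Fin t ⊕ Fin t → V →ₗ[F] F := fun s => (polarBilin Q).flip (b s : V)
  let N : Module.End F V := ∑ j : Fin t,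
    ((φ (Sum.inl j)).smulRight (b (Sum.inr j) : V) - (φ (Sum.inr j)).smulRight (b (Sum.inl j) : V))
  have hN : ∀ x, N x = ∑ j : Fin t, (polar Q x (b (Sum.inl j) : V) • (b (Sum.inr j) : V) -
      polar Q x (b (Sum.inr j) : V) • (b (Sum.inl j) : V)) := fun x => by simp [N, φ]
  have hle : LinearMap.range N ≤ W := by
    rintro _ ⟨x, rfl⟩
    rw [hN]
    exact W.sum_mem fun j _ => W.sub_mem (W.smul_mem _ (b _).2) (W.smul_mem _ (b _).2)
  have hker : LinearMap.ker N = orth Q W := by
    ext x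
    rw [LinearMap.mem_ker, mem_orth, hN]
    constructor
    · intro h w hw
      have h0 : ∀ s, polar Q x (b s : V) = 0 := by
        have hl := Fintype.linearIndependent_iff.1 (b.linearIndependent.map' W.subtype W.ker_subtype)
          (Sum.elim (fun j => -polar Q x (b (Sum.inr j) : V)) (fun j => polar Q x (b (Sum.inl j) : V))) (by
            rw [Fintype.sum_sum_type, ← h, ← Finset.sum_add_distrib]
            refine Finset.sum_congr rfl fun j _ => ?_
            simp only [Sum.elim_inl, Sum.elim_inr, Function.comp_apply, Submodule.coe_subtype, neg_smul]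
            abel)
        rintro (j | j)
        · simpa using hl (Sum.inr j)
        · simpa using hl (Sum.inl j)
      have : ((polarBilin Q x).domRestrict W) = 0 := b.ext fun s => h0 s
      exact LinearMap.congr_fun this ⟨w, hw⟩
    · exact fun h => Finset.sum_eq_zero fun j _ => by
        rw [h _ (b _).2, h _ (b _).2, zero_smul, zero_smul, sub_zero]
  have hrange : LinearMap.range N = W := by
    refine Submodule.eq_of_le_of_finrank_le hle ?_
    have h1 := N.finrank_range_add_finrank_ker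
    rw [hker, finrank_orth hQ] at h1
    have := W.finrank_le
    omega
  have hsub : (1 + N) - 1 = N := add_sub_cancel_left 1 N
  refine ⟨1 + N, ⟨hQ, fun x => ?_⟩, nilp_mono (k := 2) ?_ (Fact.out : p.Prime).two_le,
    by rw [mv, hsub, hrange], by rw [fx, hsub, hker]⟩
  · rw [LinearMap.add_apply, Module.End.one_apply, Quad.map_add', hW _ (hle ⟨x, rfl⟩), add_zero]
    have : polar Q x (N x) = 0 := by
      rw [hN, ← polarBilin_apply_apply, map_sum]
      refine Finset.sum_eq_zero fun j _ => ?_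
      simp only [map_sub, map_smul, polarBilin_apply_apply, smul_eq_mul]
      ring
    rw [this, add_zero]
  · refine LinearMap.ext fun x => ?_
    rw [hsub, pow_two, Module.End.mul_apply, LinearMap.zero_apply]
    refine LinearMap.mem_ker.1 (hker.ge (mem_orth.2 fun w hw => polar_zero_of_ts hW (hle ⟨x, rfl⟩) hw))

omit [Fact p.Prime] [CharP F p] in
/-- The rank on a non-degenerate invariant subspace is even when the image is totally singular. -/
theorem even_rank (hG : QGood Q a) (hts : TS Q (mv a)) {W : Submodule F V} (hW : Inv a W) (hWn : NdOn Q W) :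
    Even (finrank F (W.map (a - 1))) := by
  let N : W →ₗ[F] V := (a - 1).domRestrict W
  have hNW : ∀ x : W, N x ∈ W := fun x => by
    show a (x : V) - (x : V) ∈ W
    exact W.sub_mem (hW _ x.2) x.2
  let β : LinearMap.BilinForm F W := ((polarBilin Q).comp N).compl₂ W.subtype
  have hβ : ∀ x y : W, β x y = polar Q (N x) (y : V) := fun x y => rfl
  have hA : β.IsAlt := fun x => by
    rw [hβ]
    have h := hG.pres (x : V)
    rw [show a (x : V) = (x : V) + N x by show _ = (x : V) + (a (x : V) - (x : V)); abel, Quad.map_add',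
      show Q (N x) = 0 from hts _ ⟨(x : V), rfl⟩, polar_comm] at h
    linear_combination h
  obtain ⟨C, hC⟩ := Submodule.exists_isCompl (LinearMap.ker β)
  have hnd : Alt.NDon β C := fun w hw hw0 => by
    by_contra hc
    push Not at hc
    refine hw0 (Submodule.disjoint_def.1 hC.disjoint w ?_ hw)
    refine LinearMap.mem_ker.2 (LinearMap.ext fun x => ?_)
    obtain ⟨s, hs, t, ht, rfl⟩ := Submodule.mem_sup.1 (hC.sup_eq_top.symm ▸ Submodule.mem_top (x := x))
    rw [map_add, hc t ht, Alt.neg' hA s w, LinearMap.mem_ker.1 hs]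
    simp
  obtain ⟨m, e, f, -, hm⟩ := Alt.exists_sympBasis hA C hnd
  have hker : LinearMap.ker β = LinearMap.ker N := by
    ext x
    rw [LinearMap.mem_ker, LinearMap.mem_ker]
    constructor
    · intro h
      by_contra h0
      obtain ⟨y, hy, hne⟩ := hWn _ (hNW x) h0
      exact hne (by rw [← show β x ⟨y, hy⟩ = polar Q (N x) y from rfl, h]; rfl)
    · intro h
      refine LinearMap.ext fun y => ?_
      rw [hβ, h, polar_zero_left]
      rfl
  have h1 := Submodule.finrank_add_eq_of_isCompl hC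
  have h2 := N.finrank_range_add_finrank_ker
  rw [show LinearMap.range N = W.map (a - 1) by rw [LinearMap.range_domRestrict]] at h2
  rw [hker] at h1
  exact ⟨m, by omega⟩

omit [Fact p.Prime] [CharP F p] in
/-- The constraint coming from a totally singular image. -/
theorem image_bound (hG : QGood Q a) (hts : TS Q (mv a)) {W : Submodule F V} (hW : Inv a W) (hWn : NdOn Q W) :
    ∃ r₁ r₂, Even r₁ ∧ Even r₂ ∧ finrank F (mv a) ≤ r₁ + r₂ ∧
      (2 * r₁ < finrank F W ∨ (2 * r₁ = finrank F W ∧ Plus Q W)) ∧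
      (2 * r₂ < finrank F (orth Q W) ∨ (2 * r₂ = finrank F (orth Q W) ∧ Plus Q (orth Q W))) := by
  have hW' := inv_orth hG hW
  have hWn' := ndon_orth hG.nondeg hWn
  have key : ∀ {U : Submodule F V}, Inv a U → NdOn Q U →
      2 * finrank F (U.map (a - 1)) < finrank F U ∨
        (2 * finrank F (U.map (a - 1)) = finrank F U ∧ Plus Q U) := by
    intro U hU hUn
    have hle : U.map (a - 1) ≤ U := by
      rintro _ ⟨x, hx, rfl⟩
      exact U.sub_mem (hU x hx) hx
    have hts' : TS Q (U.map (a - 1)) := ts_mono (LinearMap.map_le_range) hts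
    rcases lt_or_eq_of_le (two_mul_le_of_ts hUn hle hts') with h | h
    · exact Or.inl h
    · exact Or.inr ⟨h, _, hle, hts', h⟩
  refine ⟨_, _, even_rank hG hts hW hWn, even_rank hG hts hW' hWn', ?_, key hW hWn, key hW' hWn'⟩
  have h : mv a = W.map (a - 1) ⊔ (orth Q W).map (a - 1) := by
    rw [← Submodule.map_sup, (isCompl_orth hG.nondeg hWn).sup_eq_top, Submodule.map_top]
  rw [h]
  exact Submodule.finrank_add_le_finrank_add_finrank _ _

omit [Fact p.Prime] [CharP F p] in
/-- Fixed vectors split along an invariant decomposition. -/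
theorem fx_split (hG : QGood Q a) {W : Submodule F V} (hW : Inv a W) (hWn : NdOn Q W) {x : V} (hx : x ∈ fx a) :
    ∃ w ∈ W ⊓ fx a, ∃ z ∈ orth Q W ⊓ fx a, x = w + z := by
  have hc := isCompl_orth hG.nondeg hWn
  obtain ⟨w, hw, z, hz, rfl⟩ := Submodule.mem_sup.1 (hc.sup_eq_top.symm ▸ Submodule.mem_top (x := x))
  have h := fx_apply hx
  rw [map_add] at h
  have e : a w - w = z - a z := by
    rw [sub_eq_sub_iff_add_eq_add, h]
    abel
  have h0 : a w - w = 0 := Submodule.disjoint_def.1 hc.disjoint _ (W.sub_mem (hW w hw) hw)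
    (e ▸ (orth Q W).sub_mem hz (inv_orth hG hW z hz))
  exact ⟨w, ⟨hw, mem_fx (sub_eq_zero.1 h0)⟩, z, ⟨hz, mem_fx (sub_eq_zero.1 (e.symm.trans h0)).symm⟩, rfl⟩

omit [Fact p.Prime] [CharP F p] in
theorem fx_restrict_eq {W : Submodule F V} (hW : Inv a W) :
    (fx (a.restrict hW)).map W.subtype = W ⊓ fx a := by
  refine le_antisymm ?_ ?_
  · rintro _ ⟨y, hy, rfl⟩
    exact ⟨y.2, mem_fx (congrArg Subtype.val (fx_apply hy))⟩
  · rintro x ⟨hx, hxa⟩
    exact ⟨⟨x, hx⟩, mem_fx (Subtype.ext (fx_apply hxa)), rfl⟩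

omit [CharP F p] in
/-- An isometry of odd order fixes a subspace of the parity of the dimension. -/
theorem fx_parity [Finite F] (hG : QGood Q a) (h2 : (2 : F) ≠ 0) (hp : Odd p) (har : a ^ p = 1) :
    Even (finrank F V + finrank F (fx a)) := by
  have hinj := injective_of_good hG
  let g : oG Q := ⟨LinearEquiv.ofBijective a ⟨hinj, LinearMap.injective_iff_surjective.1 hinj⟩, hG.pres⟩
  have hk : ∀ (k : ℕ) (x : V), (g ^ k).1 x = (a ^ k) x := by
    intro k
    induction k with
    | zero => exact fun x => rfl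
    | succ k ih =>
      intro x
      rw [pow_succ', pow_succ', Quad.oG_mul_apply, ih, Module.End.mul_apply]
      rfl
  have hg : g ^ p = 1 := Quad.ext_oG fun x => by rw [hk, har]; rfl
  have hd : Quad.dickson hG.nondeg (hex_of_two h2 _) g = 1 := by
    have := congrArg (Quad.dickson hG.nondeg (hex_of_two h2 _)) hg
    rwa [map_pow, map_one, Int.units_pow_eq_pow_mod_two, Nat.odd_iff.1 hp, pow_one] at this
  have hfix : Quad.fixSub g = fx a := by
    ext x
    rw [Quad.mem_fixSub]
    exact ⟨mem_fx, fx_apply⟩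
  have h : (-1 : ℤˣ) ^ (finrank F V + finrank F (Quad.fixSub g)) = 1 := hd
  rw [hfix] at h
  by_contra hn
  rw [(Nat.not_even_iff_odd.1 hn).neg_one_pow] at h
  exact absurd h (by decide)

omit [CharP F p] in
/-- The constraint coming from a totally singular fixed space. -/
theorem fixed_bound [Finite F] (hG : QGood Q a) (h2 : (2 : F) ≠ 0) (hp : Odd p) (har : a ^ p = 1)
    (hts : TS Q (fx a)) {W : Submodule F V} (hW : Inv a W) (hWn : NdOn Q W) :
    ∃ f₁ f₂, Even (finrank F W + f₁) ∧ Even (finrank F (orth Q W) + f₂) ∧ finrank F (fx a) ≤ f₁ + f₂ ∧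
      (2 * f₁ < finrank F W ∨ (2 * f₁ = finrank F W ∧ Plus Q W)) ∧
      (2 * f₂ < finrank F (orth Q W) ∨ (2 * f₂ = finrank F (orth Q W) ∧ Plus Q (orth Q W))) := by
  have key : ∀ {U : Submodule F V}, Inv a U → NdOn Q U →
      Even (finrank F U + finrank F (U ⊓ fx a : Submodule F V)) ∧
      (2 * finrank F (U ⊓ fx a : Submodule F V) < finrank F U ∨
        (2 * finrank F (U ⊓ fx a : Submodule F V) = finrank F U ∧ Plus Q U)) := by
    intro U hU hUn
    refine ⟨?_, ?_⟩
    · rw [← fx_restrict_eq hU, finrank_lift]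
      exact fx_parity (good_restrict hG hU hUn) h2 hp (restrict_pow_eq_one hU har)
    · rcases lt_or_eq_of_le (two_mul_le_of_ts hUn (inf_le_left : U ⊓ fx a ≤ U) (ts_mono inf_le_right hts)) with h | h
      · exact Or.inl h
      · exact Or.inr ⟨h, _, inf_le_left, ts_mono inf_le_right hts, h⟩
  obtain ⟨k1, k2⟩ := key hW hWn
  obtain ⟨k3, k4⟩ := key (inv_orth hG hW) (ndon_orth hG.nondeg hWn)
  refine ⟨_, _, k1, k3, ?_, k2, k4⟩
  refine (Submodule.finrank_mono ?_).trans (Submodule.finrank_add_le_finrank_add_finrank _ _)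
  intro x hx
  obtain ⟨w, hw, z, hz, rfl⟩ := fx_split hG hW hWn hx
  exact Submodule.add_mem_sup hw hz

/-- Gluing two unipotent isometries. -/
theorem glue_unip (hQ : (polarBilin Q).Nondegenerate) {S : Submodule F V} (hS : NdOn Q S) {a₁ : Module.End F S}
    {a₂ : Module.End F (orth Q S)} (h₁ : QGood (qres Q S) a₁) (h₂ : QGood (qres Q (orth Q S)) a₂)
    (r₁ : a₁ ^ p = 1) (r₂ : a₂ ^ p = 1) :
    ∃ a : Module.End F V, QGood Q a ∧ a ^ p = 1 ∧
      fx a = (fx a₁).map S.subtype ⊔ (fx a₂).map (orth Q S).subtype ∧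
      finrank F (fx a) = finrank F (fx a₁) + finrank F (fx a₂) ∧
      (TS (qres Q S) (fx a₁) → TS (qres Q (orth Q S)) (fx a₂) → TS Q (fx a)) := by
  obtain ⟨a, hG, e1, e2⟩ := glue hQ hS h₁ h₂
  have hc := isCompl_orth hQ hS
  have hk1 : ∀ (k : ℕ) (x : S), (a ^ k) x = ((a₁ ^ k) x : S) := by
    intro k
    induction k with
    | zero => exact fun x => rfl
    | succ k ih => intro x; rw [pow_succ', pow_succ', Module.End.mul_apply, ih, e1, Module.End.mul_apply]
  have hk2 : ∀ (k : ℕ) (x : orth Q S), (a ^ k) x = ((a₂ ^ k) x : orth Q S) := by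
    intro k
    induction k with
    | zero => exact fun x => rfl
    | succ k ih => intro x; rw [pow_succ', pow_succ', Module.End.mul_apply, ih, e2, Module.End.mul_apply]
  have hfx : fx a = (fx a₁).map S.subtype ⊔ (fx a₂).map (orth Q S).subtype := by
    refine le_antisymm (fun x hx => ?_) (sup_le ?_ ?_)
    · obtain ⟨w, hw, z, hz, rfl⟩ := fx_split hG (fun y hy => by rw [e1 ⟨y, hy⟩]; exact (a₁ _).2) hS hx
      refine Submodule.add_mem_sup ⟨⟨w, hw.1⟩, mem_fx (Subtype.ext ?_), rfl⟩
        ⟨⟨z, hz.1⟩, mem_fx (Subtype.ext ?_), rfl⟩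
      · rw [← e1]; exact fx_apply hw.2
      · rw [← e2]; exact fx_apply hz.2
    · rintro _ ⟨y, hy, rfl⟩
      exact mem_fx (by rw [Submodule.coe_subtype, e1, fx_apply hy])
    · rintro _ ⟨y, hy, rfl⟩
      exact mem_fx (by rw [Submodule.coe_subtype, e2, fx_apply hy])
  have hperp : (fx a₁).map S.subtype ≤ orth Q ((fx a₂).map (orth Q S).subtype) :=
    (lift_le _).trans (orth_le (lift_le _))
  refine ⟨a, hG, LinearMap.ext fun x => ?_, hfx, ?_, fun t1 t2 => hfx ▸ ts_sup (ts_lift t1) (ts_lift t2) hperp⟩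
  · obtain ⟨s, hs, t, ht, rfl⟩ := Submodule.mem_sup.1 (hc.sup_eq_top.symm ▸ Submodule.mem_top (x := x))
    rw [map_add, hk1 p ⟨s, hs⟩, hk2 p ⟨t, ht⟩, r₁, r₂]
    rfl
  · have h1 := Submodule.finrank_sup_add_finrank_inf_eq ((fx a₁).map S.subtype) ((fx a₂).map (orth Q S).subtype)
    rw [(hc.disjoint.mono (lift_le _) (lift_le _)).eq_bot, finrank_bot, finrank_lift, finrank_lift, ← hfx] at h1
    omega

/-- A three-dimensional element with an isotropic line as fixed space. -/
theorem exists_J3 (hQ : (polarBilin Q).Nondegenerate) [Finite F] (h2 : (2 : F) ≠ 0) (hd : finrank F V = 3) :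
    ∃ a : Module.End F V, QGood Q a ∧ a ^ p = 1 ∧ TS Q (fx a) ∧ finrank F (fx a) = 1 := by
  obtain ⟨e, f, -, -, hQe, hQf, hef⟩ := exists_hyp_in (ndon_top hQ) (by rw [finrank_top, hd])
  obtain ⟨hS, hSd, -⟩ := ndon_hyp hQe hQf hef
  obtain ⟨v, hv, hQv⟩ := exists_aniso_vec (ndon_orth hQ hS) (fun h0 => by
    have := finrank_orth hQ (pairSpan (F := F) e f)
    rw [h0, finrank_bot, hSd, hd] at this
    omega)
  have hev : polar Q e v = 0 := by rw [polar_comm]; exact mem_orth.1 hv e (left_mem_pairSpan e f)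
  have hfv : polar Q f v = 0 := by rw [polar_comm]; exact mem_orth.1 hv f (right_mem_pairSpan e f)
  have he0 : e ≠ 0 := fun h => one_ne_zero (by rw [← hef, h, polar_zero_left])
  let s := Quad.siegel hQe hev
  let a : Module.End F V := s.toLinearMap
  have hN : ∀ x, (a - 1) x = (polar Q x v - Q v * polar Q x e) • e - polar Q x e • v := fun x => by
    show s x - x = _
    rw [Quad.siegel_apply]
    module
  have hee : polar Q e e = 0 := by rw [Quad.polar_self', hQe, mul_zero]
  have hNe : (a - 1) e = 0 := by rw [hN, hee, hev]; simp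
  have hNv : (a - 1) v = (2 * Q v) • e := by
    rw [hN, polar_comm Q v e, hev, Quad.polar_self']; simp
  have hN3 : (a - 1) ^ 3 = 0 := LinearMap.ext fun x => by
    rw [pow_succ, pow_succ, pow_one, Module.End.mul_apply, Module.End.mul_apply, hN x, map_sub, map_smul, map_smul,
      hNe, hNv]
    simp [show a e = e from sub_eq_zero.1 hNe]
  have hsep : ∀ c d : F, c • e - d • v = 0 → c = 0 ∧ d = 0 := fun c d h => by
    have hd0 : d = 0 := by
      have := congrArg (polar Q v) h
      rw [polar_sub_right, polar_smul_right, polar_smul_right, polar_comm Q v e, hev, Quad.polar_self',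
        polar_zero_right] at this
      simpa [h2, hQv] using this
    subst hd0
    refine ⟨?_, rfl⟩
    rw [zero_smul, sub_zero, smul_eq_zero] at h
    exact h.resolve_right he0
  have hfx : fx a = Submodule.span F {e} := by
    refine le_antisymm (fun x hx => ?_) ((Submodule.span_singleton_le_iff_mem _ _).2 hNe)
    obtain ⟨c1, c2⟩ := hsep _ _ ((hN x).symm.trans hx)
    rw [c2, mul_zero, sub_zero] at c1
    obtain ⟨y, hy, z, hz, rfl⟩ :=
      Submodule.mem_sup.1 ((isCompl_orth hQ hS).sup_eq_top.symm ▸ Submodule.mem_top (x := x))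
    have hspan : orth Q (pairSpan (F := F) e f) = Submodule.span F {v} :=
      (Submodule.eq_of_le_of_finrank_le ((Submodule.span_singleton_le_iff_mem _ _).2 hv) (by
        rw [finrank_orth hQ, hSd, hd, finrank_span_singleton (fun h => hQv (by rw [h, QuadraticMap.map_zero]))])).symm
    obtain ⟨w, rfl⟩ := Submodule.mem_span_singleton.1 (hspan ▸ hz)
    obtain ⟨c, d, rfl⟩ := mem_pairSpan.1 hy
    simp only [polar_add_left, polar_smul_left, hev, hfv, hee, polar_comm Q f e, hef, polar_comm Q v e,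
      Quad.polar_self' v, smul_eq_mul, mul_zero, zero_add, add_zero, mul_one] at c1 c2
    have hw : w = 0 := by simpa [h2, hQv] using c1
    rw [c2, hw, zero_smul, zero_smul, add_zero, add_zero]
    exact Submodule.smul_mem _ _ (Submodule.mem_span_singleton_self e)
  refine ⟨a, ⟨hQ, Quad.siegel_mem hQe hev⟩, nilp_mono hN3 ?_, hfx ▸ ts_span_singleton hQe,
    by rw [hfx, finrank_span_singleton he0]⟩
  have := (Fact.out : p.Prime).two_le
  rcases Nat.lt_or_ge p 3 with h | h
  · exfalso
    obtain rfl : p = 2 := by omega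
    exact h2 (by exact_mod_cast CharP.cast_eq_zero F 2)
  · exact h

/-- Odd dimension: an element whose fixed space is a maximal totally singular subspace. -/
theorem exists_fx_ts_odd (hQ : (polarBilin Q).Nondegenerate) [Finite F] (h2 : (2 : F) ≠ 0) {D : ℕ} (hD : Odd D)
    (hd : finrank F V = 2 * D + 1) :
    ∃ a : Module.End F V, QGood Q a ∧ a ^ p = 1 ∧ TS Q (fx a) ∧ finrank F (fx a) = D := by
  obtain ⟨t, ht⟩ := hD
  obtain ⟨P, -, hP, hPd, hPp⟩ := exists_sub_type hQ (ndon_top hQ) True (2 * t) (by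
    rcases Nat.eq_zero_or_pos (2 * t) with h | h
    · exact Or.inr ⟨h, trivial⟩
    · exact Or.inl ⟨h, by rw [finrank_top]; omega⟩)
  obtain ⟨X, -, hX, hXd⟩ := plus_qres.2 (hPp.2 trivial)
  rw [finrank_top, hPd] at hXd
  obtain ⟨a₁, hG₁, hr₁, -, hf₁⟩ := exists_unip_ts (p := p) (nondeg_qres hP) hX (t := t) (by omega)
  have hfX : fx a₁ = X := by
    rw [hf₁]
    refine (Submodule.eq_of_le_of_finrank_le (fun x hx => mem_orth.2 fun y hy => polar_zero_of_ts hX hx hy) ?_).symm
    rw [finrank_orth (nondeg_qres hP), hPd]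
    omega
  obtain ⟨a₂, hG₂, hr₂, ht₂, hd₂⟩ := exists_J3 (p := p) (nondeg_qres (ndon_orth hQ hP)) h2
    (by rw [finrank_orth hQ, hPd, hd]; omega)
  obtain ⟨a, hG, har, -, hdim, htsg⟩ := glue_unip hQ hP hG₁ hG₂ hr₁ hr₂
  exact ⟨a, hG, har, htsg (hfX ▸ hX) ht₂, by rw [hdim, hfX, hd₂]; omega⟩

/-- Even dimension with odd half: an element whose fixed space is totally singular of codimension one in the half. -/
theorem exists_fx_ts_even (hQ : (polarBilin Q).Nondegenerate) [Finite F] (h2 : (2 : F) ≠ 0) {d : ℕ} (hd1 : Odd d)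
    (hd3 : 3 ≤ d) (hd : finrank F V = 2 * d) :
    ∃ a : Module.End F V, QGood Q a ∧ a ^ p = 1 ∧ TS Q (fx a) ∧ finrank F (fx a) + 1 = d := by
  obtain ⟨e, f, -, -, hQe, hQf, hef⟩ := exists_hyp_in (ndon_top hQ) (by rw [finrank_top, hd]; omega)
  obtain ⟨hP, hPd, -⟩ := ndon_hyp hQe hQf hef
  obtain ⟨v, hv, hQv⟩ := exists_aniso_vec (ndon_orth hQ hP) (fun h0 => by
    have := finrank_orth hQ (pairSpan (F := F) e f)
    rw [h0, finrank_bot, hPd, hd] at this
    omega)
  obtain ⟨hS, hSd⟩ := finrank_odd_split h2 hP hQv (le_orth_span.2 hv)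
  rw [hPd] at hSd
  obtain ⟨a₁, hG₁, hr₁, ht₁, hd₁⟩ := exists_J3 (p := p) (nondeg_qres hS) h2 hSd
  obtain ⟨a₂, hG₂, hr₂, ht₂, hd₂⟩ := exists_fx_ts_odd (p := p) (nondeg_qres (ndon_orth hQ hS)) h2 (D := d - 2)
    (by obtain ⟨s, hs⟩ := hd1; exact ⟨s - 1, by omega⟩) (by rw [finrank_orth hQ, hSd, hd]; omega)
  obtain ⟨a, hG, har, -, hdim, htsg⟩ := glue_unip hQ hS hG₁ hG₂ hr₁ hr₂
  exact ⟨a, hG, har, htsg ht₁ ht₂, by rw [hdim, hd₁, hd₂]; omega⟩

/-- No member of a class of odd dimension is invariant, for even half dimension. -/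
theorem exists_no_class (hQ : (polarBilin Q).Nondegenerate) [Finite F] (h2 : (2 : F) ≠ 0) (hp : Odd p) {d : ℕ}
    (hde : Even d) (hd2 : 2 ≤ d) (hd : finrank F V = 2 * d) {W₀ : Submodule F V} (hW₀ : NdOn Q W₀)
    (hodd : Odd (finrank F W₀)) :
    ∃ a : Module.End F V, QGood Q a ∧ a ^ p = 1 ∧ finrank F (fx a) < finrank F V ∧
      ∀ W : Submodule F V, Inv a W → NdOn Q W → ¬ Isom Q W W₀ := by
  obtain ⟨k, hk⟩ := hodd
  have hle := W₀.finrank_le
  obtain ⟨s, hs⟩ := hde
  obtain ⟨β, hβ, hbad⟩ : ∃ β : F, β ≠ 0 ∧ ∀ W : Submodule F V, Isom Q W W₀ → ∀ (U : Submodule F V),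
      ((Even k ∧ U = W) ∨ (¬ Even k ∧ U = orth Q W)) → ∀ v ∈ U, ∀ c : F, Q v ≠ 0 → Q v = c * c * β →
        ¬ Plus Q (U ⊓ orth Q (Submodule.span F {v})) := by
    by_cases hev : Even k
    · obtain ⟨β, hβ, hb⟩ := exists_bad_value hQ h2 hW₀ hk
      refine ⟨β, hβ, fun W hW U hU => ?_⟩
      rcases hU with ⟨-, rfl⟩ | ⟨h, -⟩
      · exact hb _ hW
      · exact absurd hev h
    · obtain ⟨β, hβ, hb⟩ := exists_bad_value hQ h2 (ndon_orth hQ hW₀) (k := d - 1 - k)
        (by rw [finrank_orth hQ, hk, hd]; omega)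
      refine ⟨β, hβ, fun W hW U hU => ?_⟩
      rcases hU with ⟨h, -⟩ | ⟨-, rfl⟩
      · exact absurd h hev
      · exact hb _ (isom_orth hQ hW)
  obtain ⟨u, -, hQu⟩ := exists_value_in h2 (ndon_top hQ) (by rw [finrank_top]; omega) hβ
  have hu0 : u ≠ 0 := fun h => hβ (by rw [← hQu, h, QuadraticMap.map_zero])
  have hS := ndon_span (Q := Q) h2 (hQu ▸ hβ)
  obtain ⟨a₂, hG₂, hr₂, ht₂, hd₂⟩ := exists_fx_ts_odd (p := p) (nondeg_qres (ndon_orth hQ hS)) h2 (D := d - 1)
    ⟨s - 1, by omega⟩ (by rw [finrank_orth hQ, finrank_span_singleton hu0, hd]; omega)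
  obtain ⟨a, hG, har, hfx, hdim, -⟩ := glue_unip hQ hS (a₁ := 1) ⟨nondeg_qres hS, fun _ => rfl⟩ hG₂ (one_pow p) hr₂
  have hfx1 : fx (1 : Module.End F (Submodule.span F {u})) = ⊤ := eq_top_iff.2 fun x _ => mem_fx rfl
  rw [hfx1, finrank_top, finrank_span_singleton hu0, hd₂] at hdim
  rw [hfx1, Submodule.map_top, Submodule.range_subtype] at hfx
  set R := (fx a₂).map (orth Q (Submodule.span F {u})).subtype with hR
  have hRts : TS Q R := ts_lift ht₂
  have hRd : finrank F R = d - 1 := by rw [hR, finrank_lift, hd₂]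
  have hRu : ∀ x ∈ R, polar Q x u = 0 := fun x hx =>
    mem_orth.1 (lift_le _ hx) u (Submodule.mem_span_singleton_self u)
  have huf : u ∈ fx a := hfx ▸ Submodule.mem_sup_left (Submodule.mem_span_singleton_self u)
  have hRf : R ≤ fx a := hfx ▸ le_sup_right
  have hrad : ∀ x ∈ fx a, (∀ y ∈ fx a, polar Q x y = 0) → x ∈ R := fun x hx hxy => by
    rw [hfx] at hx
    obtain ⟨w, hw, z, hz, rfl⟩ := Submodule.mem_sup.1 hx
    obtain ⟨c, rfl⟩ := Submodule.mem_span_singleton.1 hw
    have h := hxy u huf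
    rw [polar_add_left, hRu z hz, add_zero, polar_smul_left, Quad.polar_self', smul_eq_mul, hQu] at h
    simp only [mul_eq_zero, h2, hβ, or_false] at h
    rw [h, zero_smul, zero_add]
    exact hz
  have hRperp : ∀ x ∈ R, ∀ y ∈ fx a, polar Q x y = 0 := fun x hx y hy => by
    rw [hfx] at hy
    obtain ⟨w, hw, z, hz, rfl⟩ := Submodule.mem_sup.1 hy
    obtain ⟨c, rfl⟩ := Submodule.mem_span_singleton.1 hw
    rw [polar_add_right, polar_smul_right, hRu x hx, smul_zero, zero_add, polar_zero_of_ts hRts hx hz]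
  refine ⟨a, hG, har, by omega, fun W hW hWn hiso => ?_⟩
  have hWd : finrank F W = 2 * k + 1 := hiso.finrank_eq.trans hk
  have hW' := inv_orth hG hW
  have hWn' := ndon_orth hQ hWn
  have hW'd : finrank F (orth Q W) = 2 * (d - 1 - k) + 1 := by rw [finrank_orth hQ, hWd, hd]; omega
  have hperp : ∀ w ∈ W, ∀ z ∈ orth Q W, polar Q w z = 0 := fun w hw z hz => by
    rw [polar_comm]; exact mem_orth.1 hz w hw
  have hsplit : R ≤ (W ⊓ R) ⊔ (orth Q W ⊓ R) := fun x hx => by
    obtain ⟨w, hw, z, hz, rfl⟩ := fx_split hG hW hWn (hRf hx)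
    refine Submodule.add_mem_sup ⟨hw.1, hrad w hw.2 fun y hy => ?_⟩ ⟨hz.1, hrad z hz.2 fun y hy => ?_⟩
    all_goals
      obtain ⟨w', hw', z', hz', rfl⟩ := fx_split hG hW hWn hy
    · have := hRperp _ hx w' hw'.2
      rw [polar_add_left, polar_comm Q z w', hperp w' hw'.1 z hz.1, add_zero] at this
      rw [polar_add_right, this, hperp w hw.1 z' hz'.1, add_zero]
    · have := hRperp _ hx z' hz'.2
      rw [polar_add_left, hperp w hw.1 z' hz'.1, zero_add] at this
      rw [polar_add_right, this, polar_comm Q z w', hperp w' hw'.1 z hz.1, zero_add]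
  have c1 := (Submodule.finrank_mono hsplit).trans (Submodule.finrank_add_le_finrank_add_finrank _ _)
  have c2 := two_mul_le_of_ts hWn (inf_le_left : W ⊓ R ≤ W) (ts_mono inf_le_right hRts)
  have c3 := two_mul_le_of_ts hWn' (inf_le_left : orth Q W ⊓ R ≤ orth Q W) (ts_mono inf_le_right hRts)
  have c4 : Even (finrank F W + finrank F (W ⊓ fx a : Submodule F V)) := by
    rw [← fx_restrict_eq hW, finrank_lift]
    exact fx_parity (good_restrict hG hW hWn) h2 hp (restrict_pow_eq_one hW har)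
  have c5 : Even (finrank F (orth Q W) + finrank F (orth Q W ⊓ fx a : Submodule F V)) := by
    rw [← fx_restrict_eq hW', finrank_lift]
    exact fx_parity (good_restrict hG hW' hWn') h2 hp (restrict_pow_eq_one hW' har)
  have fin : ∀ {U : Submodule F V} {e : ℕ}, ((Even k ∧ U = W) ∨ (¬ Even k ∧ U = orth Q W)) → NdOn Q U →
      finrank F U = 2 * e + 1 → e ≤ finrank F (U ⊓ R : Submodule F V) → Even e →
      Even (finrank F U + finrank F (U ⊓ fx a : Submodule F V)) →
      finrank F (U ⊓ R : Submodule F V) ≤ e → False := by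
    intro U e hU hUn hUd hle hev hpar hle'
    have hne : ¬ U ⊓ fx a ≤ U ⊓ R := fun hh => by
      have h1 := Submodule.finrank_mono hh
      have h3 := Submodule.finrank_mono (inf_le_inf_left U hRf)
      rw [Nat.even_iff] at hev hpar
      omega
    obtain ⟨v, hv, hvR⟩ := SetLike.not_le_iff_exists.1 hne
    obtain ⟨w, hw, z, hz, hvwz⟩ := Submodule.mem_sup.1 (hfx ▸ hv.2)
    obtain ⟨c, rfl⟩ := Submodule.mem_span_singleton.1 hw
    have hc : c ≠ 0 := fun h0 => hvR ⟨hv.1, by rw [← hvwz, h0, zero_smul, zero_add]; exact hz⟩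
    have hQv : Q v = c * c * β := by
      rw [← hvwz, Quad.map_add', Quad.map_smul', hRts z hz, polar_smul_left, polar_comm Q u z, hRu z hz, hQu]
      simp
    have hQv0 : Q v ≠ 0 := by rw [hQv]; exact mul_ne_zero (mul_ne_zero hc hc) hβ
    refine hbad W hiso U hU v hv.1 c hQv0 hQv ⟨U ⊓ R, le_inf inf_le_left fun x hx => ?_, ts_mono inf_le_right hRts, ?_⟩
    · exact (le_orth_span (U := Submodule.span F {x})).2 (mem_orth.2 fun y hy => by
        obtain ⟨t, rfl⟩ := Submodule.mem_span_singleton.1 hy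
        rw [polar_smul_right, polar_comm, hRperp x hx.2 v hv.2, smul_zero]) (Submodule.mem_span_singleton_self x)
    · obtain ⟨-, -, h6⟩ := ndon_diff hQ hUn (ndon_span h2 hQv0)
        ((Submodule.span_singleton_le_iff_mem _ _).2 hv.1)
      rw [finrank_span_singleton (fun h => hQv0 (by rw [h, QuadraticMap.map_zero])), hUd] at h6
      omega
  by_cases hev : Even k
  · exact fin (Or.inl ⟨hev, rfl⟩) hWn hWd (by omega) hev c4 (by omega)
  · refine fin (Or.inr ⟨hev, rfl⟩) hWn' hW'd (by omega) ?_ c5 (by omega)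
    rw [Nat.even_iff] at hev ⊢
    omega

end general

section matrices

variable [Fintype F] {ι : Type} [Fintype ι] [DecidableEq ι] {Q : QuadraticForm F (ι → F)} {p : ℕ} [Fact p.Prime]
  [CharP F p]

/-- A unipotent isometry of even codimension of the fixed space is an element of prime order of Ω. -/
theorem exists_omega_unip (hn : 5 ≤ finrank F (ι → F)) {a : Module.End F (ι → F)} (hG : QGood Q a)
    (har : a ^ p = 1) (hev : Even (finrank F (ι → F) + finrank F (fx a)))
    (hfx : finrank F (fx a) < finrank F (ι → F)) :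
    ∃ x : GL ι F, x ∈ Cfsg.Geo.omegaGL ⇑Q ∧ orderOf x = p ∧
      (∃ z : F, ((x ^ p : GL ι F) : Matrix ι ι F) = z • (1 : Matrix ι ι F)) ∧
      (∀ z : F, x.1 ≠ z • (1 : Matrix ι ι F)) ∧ Matrix.toLin' x.1 = a := by
  rcases (Fact.out : p.Prime).eq_two_or_odd' with rfl | hodd
  · have h2 : (2 : F) = 0 := by exact_mod_cast CharP.cast_eq_zero F 2
    have hinj := injective_of_good hG
    let g : oG Q := ⟨LinearEquiv.ofBijective a ⟨hinj, LinearMap.injective_iff_surjective.1 hinj⟩, hG.pres⟩
    have hfix : Quad.fixSub g = fx a := by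
      ext x
      rw [Quad.mem_fixSub]
      exact ⟨mem_fx, fx_apply⟩
    have hd : Quad.dickson hG.nondeg (Or.inr (by omega)) g = 1 := by
      show (-1 : ℤˣ) ^ (finrank F (ι → F) + finrank F (Quad.fixSub g)) = 1
      rw [hfix, hev.neg_one_pow]
    obtain ⟨x, hx, hxa⟩ := exists_of_comm ((Quad.mem_commutator_chars hG.nondeg (Or.inr (by omega)) g).2
      ⟨hd, fun h => absurd h2 h⟩)
    have e : Matrix.toLin' x.1 = a := LinearMap.ext fun v => by rw [hxa]; rfl
    have hx2 : x ^ 2 = 1 := Units.ext (Matrix.toLin'.injective (by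
      rw [Units.val_pow_eq_pow_val, Matrix.toLin'_pow, e, har, Units.val_one, Matrix.toLin'_one]; rfl))
    refine ⟨x, hx, orderOf_eq hx2 (by rw [e]; exact hfx), pow_scalar_of_one hx2, fun z hz => ?_, e⟩
    have hxz : a = z • (1 : Module.End F (ι → F)) := by
      rw [← e, hz, map_smul, Matrix.toLin'_one]; rfl
    have hz2 := scalar_sq hG.nondeg (by omega) hG.pres hxz
    have hz1 : z = 1 := by
      have : (z - 1) * (z - 1) = 0 := by linear_combination hz2 - (z - 1) * h2
      simpa [sub_eq_zero] using this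
    have htop : fx a = ⊤ := eq_top_iff.2 fun v _ => mem_fx (by rw [hxz, hz1, one_smul]; rfl)
    rw [htop, finrank_top] at hfx
    exact lt_irrefl _ hfx
  · obtain ⟨x, hx, hxr, hxa⟩ := exists_omega_of_good hn hG hodd har
    subst hxa
    exact ⟨x, hx, orderOf_eq hxr hfx, pow_scalar_of_one hxr, not_scalar (by omega) hodd hG hxr hfx, rfl⟩

end matrices

end Cfsg.Agent.Classical.OrthElem
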