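import Cfsg.Agent.Classical.OrthElem.Ti

/-!
# Totally singular invariant subspaces of isometries of odd prime order
-/

set_option autoImplicit false

namespace Cfsg.Agent.Classical.OrthElem

open Module Polynomial Cfsg.Agent.MatModule
open QuadraticMap (polar polarBilin)
open Cfsg.Agent.Classical.SympElem (Inv fx mv inv_fx inv_mv inv_of_le_fx inv_bot inv_top poly_facts aeval_mv
  inv_lift lift_le finrank_lift blocks)

universe u v

variable {F : Type u} [Field F] [Fintype F] {V : Type v} [AddCommGroup V] [Module F V] [FiniteDimensional F V]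
  {Q : QuadraticForm F V} {a : Module.End F V} {r : ℕ} [Fact r.Prime]

omit [Fintype F] [FiniteDimensional F V] in
theorem coe_restrict_pow {W : Submodule F V} (hW : Inv a W) (k : ℕ) :
    ∀ x : W, (((a.restrict hW) ^ k) x : V) = (a ^ k) x := by
  induction k with
  | zero => intro x; rfl
  | succ k ih =>
    intro x
    rw [pow_succ', pow_succ', Module.End.mul_apply, Module.End.mul_apply, ← ih]
    rfl

omit [Fintype F] [Fact r.Prime] in
theorem restrict_pow_eq_one {W : Submodule F V} (hW : Inv a W) (har : a ^ r = 1) : a.restrict hW ^ r = 1 :=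
  LinearMap.ext fun x => Subtype.ext (by rw [coe_restrict_pow, har]; rfl)

omit [Fact r.Prime] [Fintype F] in
theorem finrank_fx_add : finrank F (fx a) + finrank F (mv a) = finrank F V := by
  rw [add_comm]
  exact (a - 1).finrank_range_add_finrank_ker

theorem mv_dvd (hG : QGood Q a) (hr : (r : F) ≠ 0) (har : a ^ r = 1) :
    orderOf (Fintype.card F : ZMod r) ∣ finrank F (mv a) :=
  dvd_dim hr (aeval_mv har)

theorem mv_odd (hG : QGood Q a) (hr : (r : F) ≠ 0) (hr2 : r ≠ 2) (har : a ^ r = 1)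
    (hodd : Odd (orderOf (Fintype.card F : ZMod r))) :
    2 * orderOf (Fintype.card F : ZMod r) ∣ finrank F (mv a) ∧ Plus Q (mv a) := by
  obtain ⟨h1, h2⟩ := plus_of_odd (good_restrict hG inv_mv (fixed_decomp hG hr har).2.2.2) hr hr2 (aeval_mv har) hodd
  exact ⟨h1, plus_qres.1 h2⟩

theorem mv_even (hG : QGood Q a) (hr : (r : F) ≠ 0) (har : a ^ r = 1)
    (heven : Even (orderOf (Fintype.card F : ZMod r))) :
    Plus Q (mv a) ↔ Even (finrank F (mv a) / orderOf (Fintype.card F : ZMod r)) :=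
  plus_qres.symm.trans (plus_iff_of_even (good_restrict hG inv_mv (fixed_decomp hG hr har).2.2.2) hr
    (aeval_mv har) (restrict_pow_eq_one inv_mv har) heven)

/-- The type of the fixed space. -/
theorem fx_type (hG : QGood Q a) (hr : (r : F) ≠ 0) (har : a ^ r = 1) (hV : Even (finrank F V))
    (hM : Even (finrank F (mv a))) :
    Even (finrank F (fx a)) ∧ (Plus Q ⊤ ↔ (Plus Q (fx a) ↔ Plus Q (mv a))) := by
  obtain ⟨hc, horth, hNE, hNR⟩ := fixed_decomp hG hr har
  have he : Even (finrank F (fx a)) := by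
    have := finrank_fx_add (a := a)
    rw [← this, Nat.even_add] at hV
    exact hV.2 hM
  refine ⟨he, ?_⟩
  rw [← hc.sup_eq_top]
  exact plus_sup_iff hG.nondeg hNE hNR (orth_le horth.ge) he hM

theorem exists_prime_ts (hG : QGood Q a) (hr : (r : F) ≠ 0) (hr2 : r ≠ 2) (har : a ^ r = 1) {A b : ℕ}
    (hA : A = 0 ∨ (2 * orderOf (Fintype.card F : ZMod r) * A ≤ finrank F (mv a) ∧
      (Odd (orderOf (Fintype.card F : ZMod r)) ∨
        r - 1 + 2 * orderOf (Fintype.card F : ZMod r) * A <
          finrank F (mv a) + 2 * orderOf (Fintype.card F : ZMod r))))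
    (hb : 2 * b < finrank F (fx a) ∨ (2 * b = finrank F (fx a) ∧ Plus Q (fx a))) :
    ∃ W : Submodule F V, Inv a W ∧ TS Q W ∧ finrank F W = orderOf (Fintype.card F : ZMod r) * A + b := by
  obtain ⟨hc, horth, hNE, hNR⟩ := fixed_decomp hG hr har
  set i := orderOf (Fintype.card F : ZMod r)
  obtain ⟨W₁, hW₁, hts₁, hd₁⟩ : ∃ W₁ : Submodule F (mv a), Inv (a.restrict (inv_mv (a := a))) W₁ ∧
      TS (qres Q (mv a)) W₁ ∧ finrank F W₁ = i * A := by
    rcases hA with hA0 | ⟨h1, h2⟩
    · exact ⟨⊥, inv_bot, ts_bot, by simp [hA0]⟩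
    · exact exists_ts (good_restrict hG inv_mv hNR) hr hr2 (aeval_mv har) A h1 (Or.inr h2)
  obtain ⟨W₂, hle₂, hts₂, hd₂⟩ : ∃ W : Submodule F V, W ≤ fx a ∧ TS Q W ∧ finrank F W = b := by
    rcases hb with h | ⟨h, hp⟩
    · exact exists_ts_le hG.nondeg b _ hNE h
    · exact exists_ts_of_plus hp h.le
  have hperp : W₁.map (mv a).subtype ≤ orth Q W₂ := fun x hx => mem_orth.2 fun y hy =>
    mem_orth.1 (horth.symm ▸ lift_le W₁ hx) y (hle₂ hy)
  refine ⟨W₁.map (mv a).subtype ⊔ W₂, (inv_lift hW₁).sup (inv_of_le_fx hle₂),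
    ts_sup (ts_lift hts₁) hts₂ hperp, ?_⟩
  have h1 := Submodule.finrank_sup_add_finrank_inf_eq (W₁.map (mv a).subtype) W₂
  rw [(hc.disjoint.symm.mono (lift_le W₁) hle₂).eq_bot, finrank_bot, finrank_lift, hd₁, hd₂] at h1
  omega

/-- The constraints carried by an invariant totally singular subspace. -/
theorem ts_parts (hG : QGood Q a) (hr : (r : F) ≠ 0) (har : a ^ r = 1) {W : Submodule F V} (hW : Inv a W)
    (hts : TS Q W) :
    ∃ A b, finrank F W = orderOf (Fintype.card F : ZMod r) * A + b ∧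
      finrank F (W ⊓ mv a : Submodule F V) = orderOf (Fintype.card F : ZMod r) * A ∧
      (2 * b < finrank F (fx a) ∨ (2 * b = finrank F (fx a) ∧ Plus Q (fx a))) := by
  obtain ⟨-, hsum⟩ := split_inv hG hr har hW
  have hWinv : Inv (a.restrict (inv_mv (a := a))) (W.comap (mv a).subtype) := fun w hw => hW _ hw
  obtain ⟨A, hA⟩ := (blocks (poly_facts (F := F) (r := r) hr).1
    (SympConj.aeval_restrict (aeval_mv har) hWinv) (poly_facts hr).2.1).1
  have he : finrank F (W ⊓ mv a : Submodule F V) = finrank F (W.comap (mv a).subtype) := by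
    rw [← finrank_lift (W.comap (mv a).subtype), Submodule.map_comap_subtype, inf_comm]
  rw [hA] at he
  have hb := two_mul_le_of_ts (fixed_decomp hG hr har).2.2.1 (inf_le_right : W ⊓ fx a ≤ fx a)
    (ts_mono inf_le_left hts)
  refine ⟨A, finrank F (W ⊓ fx a : Submodule F V), by omega, he, ?_⟩
  rcases lt_or_eq_of_le hb with h | h
  · exact Or.inl h
  · exact Or.inr ⟨h, _, inf_le_right, ts_mono inf_le_left hts, h⟩

end Cfsg.Agent.Classical.OrthElem
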