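import Cfsg.Agent.Classical.OrthElem.Model
import Cfsg.Agent.Classical.OrthElem.Count
import Cfsg.Agent.Classical.OrthMat
import Cfsg.Agent.Classical.OrthChar
import Cfsg.Prelude.Def_GeometricClasses

/-!
# The standard forms, the group Ω and the normalisation of elements of odd projective order
-/

set_option autoImplicit false

namespace Cfsg.Agent.Classical.OrthElem

open Module QuadraticMap
open Cfsg.Agent.Classical.Quad (oG oEquiv oEquiv_apply)
open Cfsg.Agent.Classical.SympElem (Inv inv_iff fx mv mem_fx)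

universe u v

variable {F : Type u} [Field F]

/-! ## Standard forms -/

/-- The form of plus type as a quadratic form. -/
noncomputable def plusQ (F : Type u) [Field F] (d : ℕ) : QuadraticForm F (Fin d ⊕ Fin d → F) :=
  (Quad.hyp (Quad.zeroForm F) d).comp (Quad.plusCoord d).toLinearMap

/-- The form of minus type as a quadratic form. -/
noncomputable def minusQ (k : ℕ) (a b : F) : QuadraticForm F ((Fin k ⊕ Fin k) ⊕ Fin 2 → F) :=
  (Quad.hyp (Quad.binForm a b) k).comp (Quad.minusCoord k).toLinearMap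

/-- The odd-dimensional form as a quadratic form. -/
noncomputable def oddQ (F : Type u) [Field F] (d : ℕ) : QuadraticForm F (Unit ⊕ (Fin d ⊕ Fin d) → F) :=
  (Quad.hyp (Quad.sqForm F) d).comp (Quad.oddCoord d).toLinearMap

theorem coe_plusQ (d : ℕ) : ⇑(plusQ F d) = Cfsg.quadFormPlus d F := funext fun x => Quad.plusCoord_map d x

theorem coe_minusQ (k : ℕ) (a b : F) : ⇑(minusQ k a b) = Cfsg.quadFormMinus k F a b :=
  funext fun x => Quad.minusCoord_map a b k x

theorem coe_oddQ (d : ℕ) : ⇑(oddQ F d) = Cfsg.quadFormOdd d F := funext fun x => Quad.oddCoord_map d x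

theorem plusQ_facts (d : ℕ) :
    (polarBilin (plusQ F d)).Nondegenerate ∧ finrank F (Fin d ⊕ Fin d → F) = 2 * d ∧ Plus (plusQ F d) ⊤ := by
  have hd : finrank F (Fin d ⊕ Fin d → F) = 2 * d := by simp; ring
  obtain ⟨U, hU, hUd⟩ := (Quad.plus_index (F := F) d).1
  exact ⟨Quad.Iso.nondeg (Quad.Iso.symm ⟨Quad.plusCoord d, fun x => rfl⟩)
    (Quad.nondeg_hyp Quad.nondeg_zeroForm d), hd, U, le_top,
    fun u hu => by rw [coe_plusQ]; exact hU u hu, by rw [finrank_top, hd, hUd]⟩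

theorem minusQ_facts [Finite F] {a b : F}
    (hab : ∀ x y : F, x ^ 2 + a * x * y + b * y ^ 2 = 0 → x = 0 ∧ y = 0) (k : ℕ) :
    (polarBilin (minusQ k a b)).Nondegenerate ∧ finrank F ((Fin k ⊕ Fin k) ⊕ Fin 2 → F) = 2 * (k + 1) ∧
      ¬ Plus (minusQ k a b) ⊤ := by
  have hd : finrank F ((Fin k ⊕ Fin k) ⊕ Fin 2 → F) = 2 * (k + 1) := by simp; ring
  refine ⟨Quad.Iso.nondeg (Quad.Iso.symm ⟨Quad.minusCoord k, fun x => rfl⟩)
    (Quad.nondeg_hyp (Quad.nondeg_binForm hab) k), hd, ?_⟩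
  rintro ⟨X, -, hX, hXd⟩
  have := (Quad.minus_index hab k).2 X fun u hu => by rw [← coe_minusQ]; exact hX u hu
  rw [finrank_top, hd] at hXd
  omega

theorem oddQ_facts (h2 : (2 : F) ≠ 0) (d : ℕ) :
    (polarBilin (oddQ F d)).Nondegenerate ∧ finrank F (Unit ⊕ (Fin d ⊕ Fin d) → F) = 2 * d + 1 :=
  ⟨Quad.Iso.nondeg (Quad.Iso.symm ⟨Quad.oddCoord d, fun x => rfl⟩)
    (Quad.nondeg_hyp (Quad.nondeg_sqForm h2) d), by simp; ring⟩

/-! ## The group Ω -/

variable {ι : Type} [Fintype ι] [DecidableEq ι] {Q : QuadraticForm F (ι → F)}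

theorem good_of_mem (hQ : (polarBilin Q).Nondegenerate) {x : GL ι F} (hx : x ∈ Cfsg.Geo.omegaGL ⇑Q) :
    QGood Q (Matrix.toLin' x.1) ∧ ∃ g : oG Q, g ∈ commutator (oG Q) ∧ ∀ v, g.1 v = Matrix.toLin' x.1 v := by
  obtain ⟨g, hg, rfl⟩ := hx
  refine ⟨⟨hQ, fun v => ?_⟩, oEquiv Q g, (Quad.mem_omega_iff g).1 hg, fun v => ?_⟩
  · rw [Matrix.toLin'_apply]
    exact ((oEquiv Q g).2 v)
  · rw [Matrix.toLin'_apply]
    rfl

theorem exists_of_comm {g : oG Q} (hg : g ∈ commutator (oG Q)) :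
    ∃ x : GL ι F, x ∈ Cfsg.Geo.omegaGL ⇑Q ∧ ∀ v, Matrix.toLin' x.1 v = g.1 v :=
  ⟨((oEquiv Q).symm g).1, ⟨(oEquiv Q).symm g, (Quad.mem_omega_iff _).2 (by rwa [MulEquiv.apply_symm_apply]), rfl⟩,
    fun v => by
      rw [Matrix.toLin'_apply, ← oEquiv_apply, MulEquiv.apply_symm_apply]⟩

theorem oG_pow_apply (g : oG Q) (k : ℕ) (v : ι → F) :
    (g ^ k).1 v = ((g.1 : (ι → F) →ₗ[F] (ι → F)) ^ k) v := by
  induction k generalizing v with
  | zero => rfl
  | succ k ih =>
    rw [pow_succ', pow_succ', Quad.oG_mul_apply, Module.End.mul_apply, ih]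
    rfl

variable [Fintype F]

theorem mem_commutator_of_odd_pow (hQ : (polarBilin Q).Nondegenerate) (hn : 5 ≤ finrank F (ι → F)) {g : oG Q}
    {r : ℕ} (hr : Odd r) (h : g ^ r = 1) : g ∈ commutator (oG Q) := by
  haveI : Finite (ι → F) := inferInstance
  set H := commutator (oG Q)
  have h4 : g ^ 4 ∈ H := by
    have hi : H.index ∣ 4 := by
      by_cases h2 : (2 : F) = 0
      · haveI : CharP F 2 := CharTwo.of_one_ne_zero_of_two_eq_zero one_ne_zero h2
        rw [(Quad.commutator_eq_ker_dickson hQ (Or.inr (by omega)) (by omega)).2]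
        norm_num
      · rw [Quad.index_commutator_odd hQ h2 (by omega)]
    obtain ⟨t, ht⟩ := hi
    rw [← QuotientGroup.eq_one_iff, QuotientGroup.mk_pow, ht, pow_mul, H.index_eq_card, pow_card_eq_one',
      one_pow]
  obtain ⟨s, hs⟩ := hr
  rcases Nat.even_or_odd s with ⟨w, hw⟩ | ⟨w, hw⟩
  · have e : g = ((g ^ 4) ^ w)⁻¹ := by
      refine eq_inv_of_mul_eq_one_left ?_
      rw [← pow_mul, ← pow_succ', show 4 * w + 1 = r by omega, h]
    rw [e]
    exact H.inv_mem (H.pow_mem h4 _)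
  · have e : g = (g ^ 4) ^ (w + 1) := by
      rw [← pow_mul, show 4 * (w + 1) = r + 1 by omega, pow_succ, h, one_mul]
    rw [e]
    exact H.pow_mem h4 _

theorem exists_omega_of_good (hn : 5 ≤ finrank F (ι → F)) {a : Module.End F (ι → F)} (hG : QGood Q a) {r : ℕ}
    (hr : Odd r) (har : a ^ r = 1) :
    ∃ x : GL ι F, x ∈ Cfsg.Geo.omegaGL ⇑Q ∧ x ^ r = 1 ∧ Matrix.toLin' x.1 = a := by
  have hinj := injective_of_good hG
  let g : oG Q := ⟨LinearEquiv.ofBijective a ⟨hinj, LinearMap.injective_iff_surjective.1 hinj⟩, hG.pres⟩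
  have hg : g ^ r = 1 := Quad.ext_oG fun v => by
    rw [oG_pow_apply]
    show (a ^ r) v = v
    rw [har]; rfl
  obtain ⟨x, hx, hxa⟩ := exists_of_comm (mem_commutator_of_odd_pow hG.nondeg hn hr hg)
  have hxl : Matrix.toLin' x.1 = a := LinearMap.ext fun v => by rw [hxa]; rfl
  refine ⟨x, hx, Units.ext (Matrix.toLin'.injective ?_), hxl⟩
  rw [Units.val_pow_eq_pow_val, Matrix.toLin'_pow, hxl, har, Units.val_one, Matrix.toLin'_one]
  rfl

omit [Fintype F] in
theorem pow_scalar_of_one {x : GL ι F} {r : ℕ} (hx : x ^ r = 1) :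
    ∃ z : F, ((x ^ r : GL ι F) : Matrix ι ι F) = z • (1 : Matrix ι ι F) :=
  ⟨1, by rw [hx, one_smul]; rfl⟩

omit [Fintype F] in
theorem scalar_sq (hQ : (polarBilin Q).Nondegenerate) (hn : 1 ≤ finrank F (ι → F)) {a : Module.End F (ι → F)}
    (ha : ∀ v, Q (a v) = Q v) {z : F} (h : a = z • 1) : z ^ 2 = 1 := by
  obtain ⟨v, -, hv⟩ := exists_aniso_vec (ndon_top hQ) fun h0 => by
    have := congrArg (fun W : Submodule F (ι → F) => finrank F W) h0
    simp only [finrank_top, finrank_bot] at this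
    omega
  have := ha v
  rw [h, LinearMap.smul_apply, Module.End.one_apply, Quad.map_smul'] at this
  exact mul_right_cancel₀ hv (by rw [pow_two, one_mul]; exact this)

omit [Fintype F] in
theorem not_scalar (hn : 1 ≤ finrank F (ι → F)) {x : GL ι F} {r : ℕ} (hr : Odd r)
    (hG : QGood Q (Matrix.toLin' x.1)) (hx : x ^ r = 1)
    (hfx : finrank F (fx (Matrix.toLin' x.1)) < finrank F (ι → F)) (z : F) : x.1 ≠ z • (1 : Matrix ι ι F) := by
  intro h
  have ha : Matrix.toLin' x.1 = z • (1 : Module.End F (ι → F)) := by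
    rw [h, map_smul, Matrix.toLin'_one]; rfl
  have hz := scalar_sq hG.nondeg hn hG.pres ha
  have hxr : (Matrix.toLin' x.1) ^ r = 1 := by
    rw [← Matrix.toLin'_pow, ← Units.val_pow_eq_pow_val, hx, Units.val_one, Matrix.toLin'_one]; rfl
  rw [ha, _root_.smul_pow, one_pow] at hxr
  haveI : Nontrivial (ι → F) := Module.nontrivial_of_finrank_pos (R := F) hn
  have hzr : z ^ r = 1 := smul_left_injective F (one_ne_zero (α := Module.End F (ι → F)))
    (by simpa using hxr)
  have hz1 : z = 1 := by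
    obtain ⟨s, rfl⟩ := hr
    rwa [pow_succ, pow_mul, hz, one_pow, one_mul] at hzr
  have htop : fx (Matrix.toLin' x.1) = ⊤ := eq_top_iff.2 fun v _ => mem_fx (by rw [ha, hz1, one_smul]; rfl)
  rw [htop, finrank_top] at hfx
  exact lt_irrefl _ hfx

omit [Fintype F] in
theorem orderOf_eq {x : GL ι F} {r : ℕ} [Fact r.Prime] (hx : x ^ r = 1)
    (hfx : finrank F (fx (Matrix.toLin' x.1)) < finrank F (ι → F)) : orderOf x = r := by
  refine orderOf_eq_prime hx fun h => ?_
  rw [h, Units.val_one, Matrix.toLin'_one] at hfx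
  have htop : fx (LinearMap.id : Module.End F (ι → F)) = ⊤ := eq_top_iff.2 fun v _ => mem_fx rfl
  rw [htop, finrank_top] at hfx
  exact lt_irrefl _ hfx

omit [Fintype F] in
/-- An element of odd projective order is a sign times an element of that order. -/
theorem exists_normalise (hQ : (polarBilin Q).Nondegenerate) (hn : 1 ≤ finrank F (ι → F)) {r : ℕ} (hr : Odd r)
    {x : GL ι F} (hx : x ∈ Cfsg.Geo.omegaGL ⇑Q) {z : F}
    (h : ((x ^ r : GL ι F) : Matrix ι ι F) = z • (1 : Matrix ι ι F)) :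
    ∃ a : Module.End F (ι → F), QGood Q a ∧ a ^ r = 1 ∧
      ∀ W : Submodule F (ι → F), Inv a W → W.map (Matrix.toLin' x.1) ≤ W := by
  have hG := (good_of_mem hQ hx).1
  have hpow : (Matrix.toLin' x.1) ^ r = z • (1 : Module.End F (ι → F)) := by
    rw [← Matrix.toLin'_pow, ← Units.val_pow_eq_pow_val, h, map_smul, Matrix.toLin'_one]; rfl
  have hpres : ∀ (j : ℕ) (w : ι → F), Q (((Matrix.toLin' x.1) ^ j) w) = Q w := by
    intro j
    induction j with
    | zero => exact fun w => rfl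
    | succ j ih => intro w; rw [pow_succ', Module.End.mul_apply, hG.pres, ih]
  have hz : z ^ 2 = 1 := scalar_sq hQ hn (hpres r) hpow
  have hzr : z ^ r = z := by
    obtain ⟨s, rfl⟩ := hr
    rw [pow_succ, pow_mul, hz, one_pow, one_mul]
  have hz0 : z ≠ 0 := fun h0 => by rw [h0] at hz; simp at hz
  refine ⟨z • Matrix.toLin' x.1, ⟨hQ, fun v => ?_⟩, ?_, fun W hW => inv_iff.1 fun w hw => ?_⟩
  · rw [LinearMap.smul_apply, Quad.map_smul', ← pow_two, hz, one_mul, hG.pres]
  · rw [_root_.smul_pow, hzr, hpow, smul_smul, ← pow_two, hz, one_smul]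
  · have := W.smul_mem z⁻¹ (hW w hw)
    rwa [LinearMap.smul_apply, smul_smul, inv_mul_cancel₀ hz0, one_smul] at this

end Cfsg.Agent.Classical.OrthElem
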