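import Cfsg.Agent.Classical.OrthElem.Model

/-!
# When every isometry of odd prime order fixes a totally singular subspace of given dimension
-/

set_option autoImplicit false

namespace Cfsg.Agent.Classical.OrthElem

open Module QuadraticMap
open Cfsg.Agent.Classical.SympElem (Inv fx mv poly_facts exists_factors)

universe u v

variable {F : Type u} [Field F] [Fintype F] {r : ℕ} [Fact r.Prime]
  {V : Type v} [AddCommGroup V] [Module F V] [FiniteDimensional F V] {Q : QuadraticForm F V}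
  {a : Module.End F V}

/-- Some invariant totally singular subspace has dimension `m`. -/
def HasTS (Q : QuadraticForm F V) (a : Module.End F V) (m : ℕ) : Prop :=
  ∃ W : Submodule F V, Inv a W ∧ TS Q W ∧ finrank F W = m

theorem fx_plus_even (hG : QGood Q a) (hr : (r : F) ≠ 0) (har : a ^ r = 1) (hV : Even (finrank F V)) {N : ℕ}
    (heven : Even (orderOf (Fintype.card F : ZMod r)))
    (hN : finrank F (fx a) + orderOf (Fintype.card F : ZMod r) * N = finrank F V) :
    Plus Q (fx a) ↔ (Plus Q ⊤ ↔ Even N) := by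
  obtain ⟨-, -, -, hi0, -⟩ := poly_facts (F := F) (r := r) hr
  have hm : finrank F (mv a) = orderOf (Fintype.card F : ZMod r) * N := by
    have := finrank_fx_add (a := a); omega
  have h1 := mv_even hG hr har heven
  rw [hm, Nat.mul_div_cancel_left _ hi0] at h1
  obtain ⟨-, h2⟩ := fx_type hG hr har hV (by rw [hm]; exact heven.mul_right N)
  rw [h1] at h2
  constructor
  · exact fun hp => ⟨fun hT => (h2.1 hT).1 hp, fun hN' => h2.2 (iff_of_true hp hN')⟩
  · intro h
    by_contra hn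
    by_cases hN' : Even N
    · exact hn ((h2.1 (h.2 hN')).2 hN')
    · exact hN' (h.1 (h2.2 (iff_of_false hn hN')))

theorem fx_plus_odd (hG : QGood Q a) (hr : (r : F) ≠ 0) (hr2 : r ≠ 2) (har : a ^ r = 1) (hV : Even (finrank F V))
    (hodd : Odd (orderOf (Fintype.card F : ZMod r))) : Plus Q (fx a) ↔ Plus Q ⊤ := by
  obtain ⟨h0, hp⟩ := mv_odd hG hr hr2 har hodd
  obtain ⟨-, h2⟩ := fx_type hG hr har hV (even_iff_two_dvd.2 ((dvd_mul_right 2 _).trans h0))
  exact ⟨fun h => h2.2 (iff_of_true h hp), fun h => (h2.1 h).2 hp⟩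

omit [Fintype F] [Fact r.Prime] [FiniteDimensional F V] in
theorem choose_A {i t N e n m : ℕ} (hi : 0 < i) (ht : 0 < t) (hn : n = e + i * N) (hc : t + 2 * (m / i) ≤ n / i) :
    ∃ A, (A = 0 ∨ (2 * A ≤ N ∧ t + 2 * A < N + 2)) ∧ i * A ≤ m ∧
      (A = m / i ∨ (A < m / i ∧ N ≤ t + 2 * A)) := by
  have := Nat.div_mul_le_self m i
  refine ⟨min ((N + 1 - t) / 2) (m / i), ?_, ?_, ?_⟩
  · rcases Nat.eq_zero_or_pos (min ((N + 1 - t) / 2) (m / i)) with h | h
    · exact Or.inl h
    · exact Or.inr (by omega)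
  · calc i * min ((N + 1 - t) / 2) (m / i) ≤ i * (m / i) := Nat.mul_le_mul_left _ (min_le_right _ _)
      _ ≤ m := by rw [mul_comm]; exact this
  · omega

theorem prime_ts_of_A (hG : QGood Q a) (hr : (r : F) ≠ 0) (hr2 : r ≠ 2) (har : a ^ r = 1) {N t A m i : ℕ}
    (hi : i = orderOf (Fintype.card F : ZMod r))
    (hN : finrank F (mv a) = i * N)
    (ht : r - 1 = i * t)
    (hA : A = 0 ∨ (2 * A ≤ N ∧ (Odd (i) ∨ t + 2 * A < N + 2)))
    (hAm : i * A ≤ m)
    (hb : 2 * (m - i * A) < finrank F (fx a) ∨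
      (2 * (m - i * A) = finrank F (fx a) ∧ Plus Q (fx a))) : HasTS Q a m := by
  have hi0 : 0 < i := hi ▸ (poly_facts (F := F) (r := r) hr).2.2.2.1
  have hex := exists_prime_ts hG hr hr2 har (A := A) (b := m - i * A)
  rw [← hi] at hex
  obtain ⟨W, h1, h2, h3⟩ := hex (hA.imp id fun ⟨e1, e2⟩ =>
    ⟨by rw [hN]; calc 2 * i * A = i * (2 * A) := by ring
          _ ≤ i * N := Nat.mul_le_mul_left _ e1,
      e2.imp id fun e2 => by
        have e3 : i * (t + 2 * A) < i * (N + 2) := Nat.mul_lt_mul_of_pos_left e2 hi0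
        rw [Nat.mul_add, Nat.mul_add, show i * (2 * A) = 2 * i * A by ring, show i * 2 = 2 * i by ring] at e3
        rw [hN, ht]; exact e3⟩) hb
  exact ⟨W, h1, h2, by rw [h3]; omega⟩

/-- Sufficiency for even order in even dimension. -/
theorem suff_even (hG : QGood Q a) (hr : (r : F) ≠ 0) (hr2 : r ≠ 2) (har : a ^ r = 1) {d m : ℕ}
    (hd : finrank F V = 2 * d) (heven : Even (orderOf (Fintype.card F : ZMod r))) {i : ℕ}
    (hi : i = orderOf (Fintype.card F : ZMod r))
    (hc1 : (r - 1) / i + 2 * (m / i) ≤ 2 * d / i)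
    (hc : (2 * (m % i) ≤ i ∧ (2 * d) % i = 0 ∧ ¬ (Plus Q ⊤ ↔ Even (2 * d / i)) ∧
        (r - 1) / i + 2 * (m / i) < 2 * d / i) ∨
      (2 * (m % i) ≤ (2 * d) % i ∧ (Plus Q ⊤ ↔ Even (2 * d / i))) ∨ 2 * (m % i) < (2 * d) % i) :
    HasTS Q a m := by
  obtain ⟨-, -, -, hi0, hid⟩ := poly_facts (F := F) (r := r) hr
  rw [← hi] at hi0 hid
  obtain ⟨t, ht⟩ := hid
  have hr3 : 3 ≤ r := by have := (Fact.out : r.Prime).two_le; omega
  have ht0 : 0 < t := Nat.pos_of_ne_zero fun h => by rw [h, mul_zero] at ht; omega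
  rw [ht, Nat.mul_div_cancel_left _ hi0] at hc1 hc
  obtain ⟨N, hN⟩ : i ∣ finrank F (mv a) := hi ▸ mv_dvd hG hr har
  have hsum := finrank_fx_add (a := a)
  rw [hN, hd] at hsum
  have hpl := fx_plus_even hG hr har ⟨d, by omega⟩ heven (N := N) (by rw [← hi]; omega)
  set e := finrank F (fx a)
  obtain ⟨A, hA, hAm, hcase⟩ := choose_A (N := N) (e := e) (m := m) hi0 ht0 (n := 2 * d) (by omega) hc1
  refine prime_ts_of_A hG hr hr2 har hi hN ht (hA.imp id fun h => ⟨h.1, Or.inr h.2⟩) hAm ?_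
  have hdn := Nat.mod_add_div (2 * d) i
  have hdm := Nat.mod_add_div m i
  have hkl := Nat.mod_lt (2 * d) hi0
  have hlm := Nat.mod_lt m hi0
  set k := (2 * d) % i
  set n' := 2 * d / i
  set l := m % i
  set m' := m / i
  have hNn : N ≤ n' := by
    by_contra hlt
    have : i * (n' + 1) ≤ i * N := Nat.mul_le_mul_left _ (by omega)
    rw [Nat.mul_succ] at this
    omega
  obtain ⟨j, hj⟩ : ∃ j, n' = N + j := ⟨n' - N, by omega⟩
  have e1 : i * n' = i * N + i * j := by rw [hj, Nat.mul_add]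
  have he : e = k + i * j := by omega
  rcases hcase with rfl | ⟨hlt, hNt⟩
  · rw [show m - i * m' = l by omega]
    rcases hc with ⟨h1, hk0, hpar, -⟩ | ⟨h1, hpar⟩ | h1
    · rcases Nat.eq_zero_or_pos j with rfl | hj0
      · rw [mul_zero] at e1
        exfalso
        refine hpar ?_
        have hn : n' = N := by omega
        rw [hn]
        have he0 : e = 0 := by omega
        exact hpl.1 ⟨⊥, bot_le, ts_bot, by rw [finrank_bot]; exact he0.symm⟩
      rcases Nat.lt_or_ge 1 j with hj1 | hj1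
      · have : i * 2 ≤ i * j := Nat.mul_le_mul_left _ hj1
        exact Or.inl (by omega)
      obtain rfl : j = 1 := by omega
      rcases lt_or_eq_of_le (show 2 * l ≤ e by omega) with h | h
      · exact Or.inl h
      refine Or.inr ⟨h, hpl.2 ?_⟩
      rw [hj, Nat.even_add_one] at hpar
      by_cases hT : Plus Q ⊤
      · exact iff_of_true hT (by_contra fun hn => hpar (iff_of_true hT hn))
      · exact iff_of_false hT fun hn => hpar (iff_of_false hT (fun hh => hh hn))
    · rcases lt_or_eq_of_le (show 2 * l ≤ e by omega) with h | h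
      · exact Or.inl h
      refine Or.inr ⟨h, hpl.2 ?_⟩
      rcases Nat.eq_zero_or_pos j with rfl | hj0
      · rwa [hj, add_zero] at hpar
      · have : i * 1 ≤ i * j := Nat.mul_le_mul_left _ hj0
        omega
    · exact Or.inl (by omega)
  · obtain ⟨u, hu⟩ : ∃ u, m' = A + u + 1 := ⟨m' - A - 1, by omega⟩
    obtain ⟨w, hw⟩ : ∃ w, N + w = t + 2 * A := ⟨t + 2 * A - N, by omega⟩
    obtain ⟨s, hs⟩ : ∃ s, n' = t + 2 * m' + s := ⟨n' - t - 2 * m', by omega⟩
    have e2 : i * m' = i * A + i * (u + 1) := by rw [hu]; ring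
    have e3 : i * N + i * w = i * t + 2 * (i * A) := by rw [← Nat.mul_add, hw]; ring
    have e4 : i * n' = i * t + 2 * (i * m') + i * s := by rw [hs]; ring
    rcases hc with ⟨h1, hk0, hpar, hs0⟩ | ⟨h1, hpar⟩ | h1
    · have : i * 1 ≤ i * s := Nat.mul_le_mul_left _ (by omega)
      rcases lt_or_eq_of_le (show 2 * (m - i * A) ≤ e by omega) with h | h
      · exact Or.inl h
      refine Or.inr ⟨h, hpl.2 ?_⟩
      have hw0 : i * w = 0 := by omega
      have hs1 : i * s = i * 1 := by omega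
      have hw0' : w = 0 := (mul_eq_zero.1 hw0).resolve_left hi0.ne'
      have hs1' : s = 1 := Nat.eq_of_mul_eq_mul_left hi0 hs1
      have hpe : Even n' ↔ ¬ Even N := by
        simp only [Nat.even_iff]
        omega
      rw [hpe] at hpar
      by_cases hT : Plus Q ⊤
      · exact iff_of_true hT (by_contra fun hn => hpar (iff_of_true hT hn))
      · exact iff_of_false hT fun hn => hpar (iff_of_false hT (fun hh => hh hn))
    · rcases lt_or_eq_of_le (show 2 * (m - i * A) ≤ e by omega) with h | h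
      · exact Or.inl h
      refine Or.inr ⟨h, hpl.2 ?_⟩
      have hw0 : i * w = 0 := by omega
      have hs1 : i * s = 0 := by omega
      have hw0' : w = 0 := (mul_eq_zero.1 hw0).resolve_left hi0.ne'
      have hs1' : s = 0 := (mul_eq_zero.1 hs1).resolve_left hi0.ne'
      have hpe : Even n' ↔ Even N := by
        simp only [Nat.even_iff]
        omega
      rwa [hpe] at hpar
    · exact Or.inl (by omega)

/-- Sufficiency for odd order in even dimension. -/
theorem suff_odd (hG : QGood Q a) (hr : (r : F) ≠ 0) (hr2 : r ≠ 2) (har : a ^ r = 1) {d m : ℕ}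
    (hd : finrank F V = 2 * d) (hmd : m ≤ d) (hmd' : ¬ Plus Q ⊤ → m < d)
    (hodd : Odd (orderOf (Fintype.card F : ZMod r))) {i : ℕ} (hi : i = orderOf (Fintype.card F : ZMod r))
    (hc : (Plus Q ⊤ ∧ 2 * (m % i) ≤ (2 * d) % (2 * i)) ∨
      (¬ Plus Q ⊤ ∧ ((2 * d) % (2 * i) = 0 ∨ 2 * (m % i) < (2 * d) % (2 * i)))) :
    HasTS Q a m := by
  obtain ⟨-, -, -, hi0, hid⟩ := poly_facts (F := F) (r := r) hr
  rw [← hi] at hi0 hid
  obtain ⟨t, ht⟩ := hid
  obtain ⟨⟨P, hP⟩, -⟩ := mv_odd hG hr hr2 har hodd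
  rw [← hi] at hP
  have hsum := finrank_fx_add (a := a)
  rw [hP, hd] at hsum
  have hpl := fx_plus_odd hG hr hr2 har ⟨d, by omega⟩ hodd
  set e := finrank F (fx a) with he
  have hAm : i * min P (m / i) ≤ m := (Nat.mul_le_mul_left _ (min_le_right _ _)).trans
    (by rw [mul_comm]; exact Nat.div_mul_le_self m i)
  refine prime_ts_of_A hG hr hr2 har (N := 2 * P) (A := min P (m / i)) hi (by rw [hP]; ring) ht ?_ hAm ?_
  · rcases Nat.eq_zero_or_pos (min P (m / i)) with h | h
    · exact Or.inl h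
    · exact Or.inr ⟨by omega, Or.inl (by rw [hi]; exact hodd)⟩
  have hdm := Nat.mod_add_div m i
  have e2 : 2 * i * P = 2 * (i * P) := by ring
  rcases min_choice P (m / i) with hmin | hmin <;> rw [hmin] at hAm ⊢
  · by_cases hT : Plus Q ⊤
    · rcases lt_or_eq_of_le (show 2 * (m - i * P) ≤ e by omega) with h | h
      · exact Or.inl h
      · exact Or.inr ⟨h, hpl.2 hT⟩
    · have := hmd' hT
      exact Or.inl (by omega)
  · rw [show m - i * (m / i) = m % i by omega]
    have hk : (2 * d) % (2 * i) = e % (2 * i) := by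
      rw [show 2 * d = e + 2 * i * P by omega, Nat.add_mul_mod_self_left]
    have := Nat.mod_le e (2 * i)
    rcases hc with ⟨hT, h1⟩ | ⟨hT, h0 | h1⟩
    · rcases lt_or_eq_of_le (show 2 * (m % i) ≤ e by omega) with h | h
      · exact Or.inl h
      · exact Or.inr ⟨h, hpl.2 hT⟩
    · have he0 : e ≠ 0 := fun h00 => hT (hpl.1 ⟨⊥, bot_le, ts_bot, by rw [finrank_bot, ← he, h00]⟩)
      have := Nat.le_of_dvd (Nat.pos_of_ne_zero he0) (Nat.dvd_of_mod_eq_zero (hk ▸ h0))
      have := Nat.mod_lt m hi0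
      exact Or.inl (by omega)
    · exact Or.inl (by omega)

/-- Sufficiency in odd dimension. -/
theorem suff_oddn (hG : QGood Q a) (hr : (r : F) ≠ 0) (hr2 : r ≠ 2) (har : a ^ r = 1) {d m : ℕ}
    (hd : finrank F V = 2 * d + 1) (hmd : m ≤ d) {i c : ℕ} (hi : i = orderOf (Fintype.card F : ZMod r))
    (hcdef : c = if Even i then i else 2 * i) (hc : 2 * (m % i) < (2 * d + 1) % c)
    (hc1 : Odd i ∨ (r - 1) / i + 2 * (m / i) ≤ (2 * d + 1) / i) :
    HasTS Q a m := by
  obtain ⟨-, -, -, hi0, hid⟩ := poly_facts (F := F) (r := r) hr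
  rw [← hi] at hi0 hid
  obtain ⟨t, ht⟩ := hid
  have hsum := finrank_fx_add (a := a)
  rw [hd] at hsum
  set e := finrank F (fx a)
  by_cases hodd : Odd i
  · rw [if_neg (Nat.not_even_iff_odd.2 hodd)] at hcdef
    subst hcdef
    obtain ⟨⟨P, hP⟩, -⟩ := mv_odd hG hr hr2 har (hi ▸ hodd)
    rw [← hi] at hP
    rw [hP] at hsum
    have hAm : i * min P (m / i) ≤ m := (Nat.mul_le_mul_left _ (min_le_right _ _)).trans
      (by rw [mul_comm]; exact Nat.div_mul_le_self m i)
    refine prime_ts_of_A hG hr hr2 har (N := 2 * P) (A := min P (m / i)) hi (by rw [hP]; ring) ht ?_ hAm (Or.inl ?_)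
    · rcases Nat.eq_zero_or_pos (min P (m / i)) with h | h
      · exact Or.inl h
      · exact Or.inr ⟨by omega, Or.inl hodd⟩
    have hdm := Nat.mod_add_div m i
    have e2 : 2 * i * P = 2 * (i * P) := by ring
    rcases min_choice P (m / i) with hmin | hmin <;> rw [hmin] at hAm ⊢
    · omega
    · rw [show m - i * (m / i) = m % i by omega]
      have hk : (2 * d + 1) % (2 * i) = e % (2 * i) := by
        rw [show 2 * d + 1 = e + 2 * i * P by omega, Nat.add_mul_mod_self_left]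
      have := Nat.mod_le e (2 * i)
      omega
  have heven := Nat.not_odd_iff_even.1 hodd
  rw [if_pos heven] at hcdef
  rw [hcdef] at hc
  have hc1' := hc1.resolve_left hodd
  have hr3 : 3 ≤ r := by have := (Fact.out : r.Prime).two_le; omega
  have ht0 : 0 < t := Nat.pos_of_ne_zero fun h => by rw [h, mul_zero] at ht; omega
  rw [ht, Nat.mul_div_cancel_left _ hi0] at hc1'
  obtain ⟨N, hN⟩ : i ∣ finrank F (mv a) := hi ▸ mv_dvd hG hr har
  rw [hN] at hsum
  obtain ⟨A, hA, hAm, hcase⟩ := choose_A (N := N) (e := e) (m := m) hi0 ht0 (n := 2 * d + 1) (by omega) hc1'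
  refine prime_ts_of_A hG hr hr2 har hi hN ht (hA.imp id fun h => ⟨h.1, Or.inr h.2⟩) hAm (Or.inl ?_)
  have hdn := Nat.mod_add_div (2 * d + 1) i
  have hdm := Nat.mod_add_div m i
  have hkl := Nat.mod_lt (2 * d + 1) hi0
  set k := (2 * d + 1) % i
  set n' := (2 * d + 1) / i
  set m' := m / i
  rcases hcase with rfl | ⟨hlt, hNt⟩
  · have hNn : N ≤ n' := by
      by_contra hlt
      have : i * (n' + 1) ≤ i * N := Nat.mul_le_mul_left _ (by omega)
      rw [Nat.mul_succ] at this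
      omega
    have := Nat.mul_le_mul_left i hNn
    omega
  · have e3 := Nat.mul_le_mul_left i hNt
    have e4 := Nat.mul_le_mul_left i hc1'
    have e5 := Nat.mul_lt_mul_of_pos_left hlt hi0
    rw [Nat.mul_add] at e3 e4
    rw [show i * (2 * A) = 2 * (i * A) by ring] at e3
    rw [show i * (2 * m') = 2 * (i * m') by ring] at e4
    omega

/-! ## Test elements -/

theorem exists_elt_even (hr : (r : F) ≠ 0) (hQ : (polarBilin Q).Nondegenerate) {t i : ℕ}
    (hi : i = orderOf (Fintype.card F : ZMod r)) (heven : Even i) (ht : r - 1 = i * t) {N : ℕ}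
    (hN : i * N ≤ finrank F V) (hN' : i * N = finrank F V → (Plus Q ⊤ ↔ Even N)) :
    ∃ a : Module.End F V, QGood Q a ∧ a ^ r = 1 ∧ finrank F (fx a) + i * N = finrank F V ∧
      (N ≤ t → ∀ W : Submodule F V, Inv a W → TS Q W → W ⊓ mv a = ⊥) := by
  subst hi
  obtain ⟨t', fs, ht', hinj, hfs⟩ := exists_factors (F := F) (r := r) hr
  obtain ⟨-, hAll, -, hi0, -⟩ := poly_facts (F := F) (r := r) hr
  obtain ⟨h, hh⟩ := heven
  have htt : t' = t := by rw [ht, mul_comm t'] at ht'; exact Nat.eq_of_mul_eq_mul_left hi0 ht'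
  subst htt
  have hr2 := (Fact.out : r.Prime).two_le
  have ht0 : 0 < t' := Nat.pos_of_ne_zero fun h0 => by rw [h0, zero_mul] at ht'; omega
  let g : Fin N → Polynomial F := fun j =>
    if hj : N ≤ t' then fs (Fin.castLE hj j) else fs ⟨0, ht0⟩
  have hg : ∀ j, ∃ l, g j = fs l := fun j => by
    by_cases hj : N ≤ t'
    · exact ⟨Fin.castLE hj j, dif_pos hj⟩
    · exact ⟨⟨0, ht0⟩, dif_neg hj⟩
  obtain ⟨a, hG, har, hfx, -, hno⟩ := exists_elt (F := F) (r := r) hr (h := h) (s := False) (by omega) N g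
    (fun j => by
      obtain ⟨l, hl⟩ := hg j
      rw [hl]
      exact blockAt_even hr (hfs l).1 (hfs l).2.1 (hfs l).2.2 hh) V Q hQ
    (by rw [show 2 * h = h + h by ring, ← hh]; exact hN)
    (fun he => by
      rw [false_or]
      exact hN' (by rw [← he, show 2 * h = h + h by ring, ← hh]))
  refine ⟨a, hG, har, by rw [← hfx, show 2 * h = h + h by ring, ← hh], fun hj => hno ?_ fun j => ?_⟩
  · intro x y hxy
    simp only [g, dif_pos hj] at hxy
    exact Fin.castLE_injective hj (hinj hxy)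
  · obtain ⟨l, hl⟩ := hg j
    rw [hl]
    exact ⟨(hfs l).1, (hfs l).2.1, by rw [hAll _ (hfs l).1 (hfs l).2.1 (hfs l).2.2, hh]; ring⟩

theorem exists_elt_odd (hr : (r : F) ≠ 0) (hr2 : r ≠ 2) (hQ : (polarBilin Q).Nondegenerate) {i : ℕ}
    (hi : i = orderOf (Fintype.card F : ZMod r)) (hodd : Odd i) {P : ℕ} (hP : 2 * i * P ≤ finrank F V)
    (hP' : 2 * i * P = finrank F V → Plus Q ⊤) :
    ∃ a : Module.End F V, QGood Q a ∧ a ^ r = 1 ∧ finrank F (fx a) + 2 * i * P = finrank F V := by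
  subst hi
  obtain ⟨a, hG, har, hfx, -, -⟩ := exists_elt (F := F) (r := r) hr
    (h := orderOf (Fintype.card F : ZMod r)) (s := True) (poly_facts hr).2.2.2.1 P
    (fun _ => Polynomial.cyclotomic r F) (fun _ => blockAt_odd hr hr2 hodd) V Q hQ hP
    (fun he => iff_of_true (hP' he) (Or.inl trivial))
  exact ⟨a, hG, har, hfx⟩

/-- Necessity for even order in even dimension. -/
theorem nec_even (hr : (r : F) ≠ 0) (hQ : (polarBilin Q).Nondegenerate) {d m : ℕ} (hd : finrank F V = 2 * d)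
    (hm : 1 ≤ m) (hmd : m < d) {i : ℕ} (hi : i = orderOf (Fintype.card F : ZMod r)) (heven : Even i)
    (hex : (i ∣ 2 * d ∧ (i ∣ d ↔ Plus Q ⊤)) ∨ (∃ e, d - m < e ∧ e < d ∧ i ∣ 2 * e) ∨
      (i ∣ 2 * (d - m) ∧ (i ∣ d - m ↔ ¬ Plus Q ⊤)))
    (H : ∀ a : Module.End F V, QGood Q a → a ^ r = 1 → finrank F (fx a) < finrank F V → HasTS Q a m) :
    i ≤ m ∧ (r - 1) / i + 2 * (m / i) ≤ 2 * d / i ∧
      ((2 * (m % i) ≤ i ∧ (2 * d) % i = 0 ∧ ¬ (Plus Q ⊤ ↔ Even (2 * d / i)) ∧
          (r - 1) / i + 2 * (m / i) < 2 * d / i) ∨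
        (2 * (m % i) ≤ (2 * d) % i ∧ (Plus Q ⊤ ↔ Even (2 * d / i))) ∨
        (2 * (m % i) < (2 * d) % i ∧ ¬ (Plus Q ⊤ ↔ Even (2 * d / i)))) := by
  obtain ⟨-, -, -, hi0, hid⟩ := poly_facts (F := F) (r := r) hr
  rw [← hi] at hi0 hid
  obtain ⟨t, ht⟩ := hid
  rw [ht, Nat.mul_div_cancel_left _ hi0]
  obtain ⟨h, hh⟩ := heven
  have hdn := Nat.mod_add_div (2 * d) i
  have hdm := Nat.mod_add_div m i
  have hkl := Nat.mod_lt (2 * d) hi0
  have hlm := Nat.mod_lt m hi0
  set k := (2 * d) % i with hk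
  set n' := 2 * d / i with hn'
  set l := m % i with hl
  set m' := m / i with hm'
  -- the test: parameters of an element
  have test : ∀ N, 0 < N → i * N ≤ 2 * d → (i * N = 2 * d → (Plus Q ⊤ ↔ Even N)) →
      ∃ A b e, m = i * A + b ∧ e + i * N = 2 * d ∧ (2 * b < e ∨ (2 * b = e ∧ (Plus Q ⊤ ↔ Even N))) ∧
        (N ≤ t → A = 0) := by
    intro N hN0 hN hN'
    obtain ⟨a, hG, har, hfx, hno⟩ := exists_elt_even (V := V) hr hQ (t := t) hi ⟨h, hh⟩ ht (N := N)
      (by rw [hd]; exact hN) (by rw [hd]; exact hN')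
    have : 0 < i * N := Nat.mul_pos hi0 hN0
    obtain ⟨W, hW, hts, hWd⟩ := H a hG har (by omega)
    obtain ⟨A, b, h1, h2, h3⟩ := ts_parts hG hr har hW hts
    rw [← hi] at h1 h2
    refine ⟨A, b, finrank F (fx a), by omega, by omega, h3.imp id (fun g => ⟨g.1, ?_⟩), fun hNt => ?_⟩
    · exact (fx_plus_even hG hr har ⟨d, by omega⟩ (hi ▸ ⟨h, hh⟩) (by rw [← hi]; omega)).1 g.2
    · rw [hno hNt W hW hts, finrank_bot] at h2
      exact (mul_eq_zero.1 h2.symm).resolve_left hi0.ne'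
  -- there are enough blocks
  have hexi : i ∣ 2 * d → (i ∣ d ↔ Even n') := fun _ => by
    have h2d : i * n' + k = 2 * d := by omega
    constructor
    · rintro ⟨s, hs⟩
      have hk0 : k = 0 := by
        rw [hk, show 2 * d = i * (2 * s) by rw [hs]; ring, Nat.mul_mod_right]
      exact ⟨s, Nat.eq_of_mul_eq_mul_left hi0 (by rw [Nat.mul_add]; omega)⟩
    · rintro ⟨s, hs⟩
      have hk0 : k = 0 := Nat.mod_eq_zero_of_dvd (by assumption)
      refine ⟨s, ?_⟩
      rw [hs, Nat.mul_add] at h2d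
      omega
  have hn1 : 0 < n' ∧ (k = 0 → ¬ (Plus Q ⊤ ↔ Even n') → 2 ≤ n') := by
    have hle : i ≤ 2 * d := by
      rcases hex with ⟨h1, -⟩ | ⟨e, h0, h1, h2⟩ | ⟨h1, -⟩
      · exact Nat.le_of_dvd (by omega) h1
      · have := Nat.le_of_dvd (by omega) h2; omega
      · have := Nat.le_of_dvd (by omega) h1; omega
    refine ⟨Nat.div_pos hle hi0, fun hk0 hpar => ?_⟩
    by_contra hlt
    have hn1 : n' = 1 := by have := Nat.div_pos hle hi0; omega
    rw [hn1, mul_one] at hdn
    rcases hex with ⟨h1, h2⟩ | ⟨e, h0, h1, h2⟩ | ⟨h1, -⟩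
    · exact hpar (h2.symm.trans (hexi h1))
    · have := Nat.le_of_dvd (by omega) h2; omega
    · have := Nat.le_of_dvd (by omega) h1; omega
  -- dimension of the fixed space
  have hW1 : (k = 0 ∧ ¬ (Plus Q ⊤ ↔ Even n') ∧ 2 * l ≤ i) ∨
      (2 * l < k ∨ (2 * l ≤ k ∧ (Plus Q ⊤ ↔ Even n'))) := by
    by_cases hA : k = 0 ∧ ¬ (Plus Q ⊤ ↔ Even n')
    · obtain ⟨N, hN⟩ : ∃ N, n' = N + 1 := ⟨n' - 1, by omega⟩
      have := hn1.2 hA.1 hA.2
      rw [hN, Nat.mul_succ] at hdn
      obtain ⟨A, b, e, h1, h2, h3, -⟩ := test N (by omega) (by omega) (fun he => by omega)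
      refine Or.inl ⟨hA.1, hA.2, ?_⟩
      have hl' : l ≤ b := by
        rw [hl, h1, add_comm, Nat.add_mul_mod_self_left]; exact Nat.mod_le _ _
      omega
    · refine Or.inr ?_
      obtain ⟨A, b, e, h1, h2, h3, -⟩ := test n' hn1.1 (by omega) (fun he => by
        by_contra hc; exact hA ⟨by omega, hc⟩)
      have hb : b < i := by omega
      have hlb : l = b := by rw [hl, h1, add_comm, Nat.add_mul_mod_self_left, Nat.mod_eq_of_lt hb]
      rcases h3 with h3 | ⟨h3, h4⟩
      · exact Or.inl (by omega)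
      · exact Or.inr ⟨by omega, h4⟩
  have him : i ≤ m := by
    by_contra hlt
    have hlm' : l = m := Nat.mod_eq_of_lt (by omega)
    have hmid : ∀ e, d - m < e → e < d → i ∣ 2 * e → False := fun e h0 h1 ⟨s, hs⟩ => by
      obtain ⟨u, hu⟩ : ∃ u, u = 2 * (d - e) := ⟨_, rfl⟩
      have hmod : (2 * d) % i = u % i := by
        rw [show 2 * d = u + i * s by omega, Nat.add_mul_mod_self_left]
      rw [← hk] at hmod
      rcases hW1 with ⟨hk0, -, h3⟩ | h3
      · rw [Nat.mod_eq_of_lt (by omega)] at hmod; omega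
      · rw [Nat.mod_eq_of_lt (by omega)] at hmod; omega
    rcases hex with ⟨h1, h2⟩ | ⟨e, h0, h1, h2⟩ | ⟨⟨s, hs⟩, h2⟩
    · have hk0 : k = 0 := Nat.mod_eq_zero_of_dvd h1
      rcases hW1 with ⟨-, h3, -⟩ | h3
      · exact h3 (h2.symm.trans (hexi h1))
      · omega
    · exact hmid e h0 h1 h2
    · have hs2 : (i ∣ d - m) ↔ Even s := by
        constructor
        · rintro ⟨w, hw⟩
          exact ⟨w, Nat.eq_of_mul_eq_mul_left hi0 (by rw [← hs, hw]; ring)⟩
        · rintro ⟨w, rfl⟩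
          exact ⟨w, by rw [Nat.mul_add] at hs; omega⟩
      rw [hs2] at h2
      rcases hW1 with ⟨hk0, hpar, h3⟩ | h3
      · have hu : 2 * m = i := by
          have hd1 : i ∣ 2 * m := ⟨n' - s, by rw [Nat.mul_sub]; omega⟩
          have := Nat.le_of_dvd (by omega) hd1; omega
        have : n' = s + 1 := Nat.eq_of_mul_eq_mul_left hi0 (by rw [Nat.mul_succ]; omega)
        rw [this, Nat.even_add_one] at hpar
        by_cases hT : Plus Q ⊤
        · exact hpar (iff_of_true hT fun he => h2.1 he hT)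
        · exact hpar (iff_of_false hT fun hn => hn (h2.2 hT))
      · have hmod : k = 2 * m := by
          rw [hk, show 2 * d = 2 * m + i * s by omega, Nat.add_mul_mod_self_left, Nat.mod_eq_of_lt (by omega)]
        have : n' = s := Nat.eq_of_mul_eq_mul_left hi0 (by omega)
        rw [this] at h3
        have h4 := (h3.resolve_left (by omega)).2
        by_cases hT : Plus Q ⊤
        · exact h2.1 (h4.1 hT) hT
        · exact hT (h4.2 (h2.2 hT))
  refine ⟨him, ?_⟩
  have hm1 : 1 ≤ m' := Nat.div_pos him hi0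
  have hmul1 : i * 1 ≤ i * m' := Nat.mul_le_mul_left _ hm1
  have hr2 := (Fact.out : r.Prime).two_le
  have ht1 : 0 < t := Nat.pos_of_ne_zero fun h0 => by rw [h0, mul_zero] at ht; omega
  -- distinct blocks
  have hW2 : t + 2 * m' ≤ n' ∧ (k = 0 → ¬ (Plus Q ⊤ ↔ Even n') → t + 2 * m' < n') := by
    by_cases hA : k = 0 ∧ ¬ (Plus Q ⊤ ↔ Even n')
    · suffices t + 2 * m' < n' from ⟨this.le, fun _ _ => this⟩
      by_contra hge
      have hn2 := hn1.2 hA.1 hA.2
      obtain ⟨A, b, e, h1, h2, h3, h4⟩ := test (min t (n' - 1)) (by omega)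
        (le_trans (Nat.mul_le_mul_left _ (show min t (n' - 1) ≤ n' by omega)) (by omega))
        (fun he => absurd he (ne_of_lt (lt_of_lt_of_le
          (Nat.mul_lt_mul_of_pos_left (show min t (n' - 1) < n' by omega) hi0) (by omega))))
      rw [h4 (min_le_left _ _), mul_zero, zero_add] at h1
      subst h1
      rcases min_choice t (n' - 1) with hs | hs <;> rw [hs] at h2 h3
      · have hle : i * n' ≤ i * (t + 2 * m') := Nat.mul_le_mul_left _ (by omega)
        rw [Nat.mul_add, show i * (2 * m') = 2 * (i * m') by ring] at hle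
        rcases h3 with h3 | ⟨h3, h3'⟩
        · omega
        · have heq : n' = t + 2 * m' := Nat.eq_of_mul_eq_mul_left hi0 (by
            rw [Nat.mul_add, show i * (2 * m') = 2 * (i * m') by ring]; omega)
          refine hA.2 (h3'.trans ?_)
          simp only [Nat.even_iff]
          omega
      · obtain ⟨N, hN⟩ : ∃ N, n' = N + 1 := ⟨n' - 1, by omega⟩
        rw [hN, Nat.add_sub_cancel] at h2
        rw [hN, Nat.mul_succ] at hdn
        omega
    · refine ⟨?_, fun h1 h2 => absurd ⟨h1, h2⟩ hA⟩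
      by_contra hge
      obtain ⟨A, b, e, h1, h2, h3, h4⟩ := test (min t n') (by have := hn1.1; omega)
        (le_trans (Nat.mul_le_mul_left _ (min_le_right _ _)) (by omega))
        (fun he => by
          by_contra hc
          rcases min_choice t n' with hs | hs
          · rw [hs] at he hc
            have : t ≤ n' := by omega
            have h5 := Nat.mul_le_mul_left i this
            have h6 : t = n' := Nat.eq_of_mul_eq_mul_left hi0 (by omega)
            rw [h6] at hc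
            exact hA ⟨by omega, hc⟩
          · rw [hs] at he hc
            exact hA ⟨by omega, hc⟩)
      rw [h4 (min_le_left _ _), mul_zero, zero_add] at h1
      subst h1
      rcases min_choice t n' with hs | hs <;> rw [hs] at h2 h3
      · have hle : i * (n' + 1) ≤ i * (t + 2 * m') := Nat.mul_le_mul_left _ (by omega)
        rw [Nat.mul_succ, Nat.mul_add, show i * (2 * m') = 2 * (i * m') by ring] at hle
        omega
      · omega
  refine ⟨hW2.1, ?_⟩
  rcases hW1 with ⟨h1, h2, h3⟩ | h3 | ⟨h3, h4⟩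
  · exact Or.inl ⟨h3, h1, h2, hW2.2 h1 h2⟩
  · by_cases hpar : Plus Q ⊤ ↔ Even n'
    · exact Or.inr (Or.inl ⟨h3.le, hpar⟩)
    · exact Or.inr (Or.inr ⟨h3, hpar⟩)
  · exact Or.inr (Or.inl ⟨h3, h4⟩)

/-- Necessity for odd order in even dimension. -/
theorem nec_odd (hr : (r : F) ≠ 0) (hr2 : r ≠ 2) (hQ : (polarBilin Q).Nondegenerate) {d m : ℕ}
    (hd : finrank F V = 2 * d) (hm : 1 ≤ m) (hmd : m < d) {i : ℕ} (hi : i = orderOf (Fintype.card F : ZMod r))
    (hodd : Odd i)
    (hex : (i ∣ 2 * d ∧ (i ∣ d ↔ Plus Q ⊤)) ∨ (∃ e, d - m < e ∧ e < d ∧ i ∣ 2 * e) ∨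
      (i ∣ 2 * (d - m) ∧ (i ∣ d - m ↔ ¬ Plus Q ⊤)))
    (H : ∀ a : Module.End F V, QGood Q a → a ^ r = 1 → finrank F (fx a) < finrank F V → HasTS Q a m) :
    i ≤ m ∧ ((Plus Q ⊤ ∧ 2 * (m % i) ≤ (2 * d) % (2 * i)) ∨
      (¬ Plus Q ⊤ ∧ ((2 * d) % (2 * i) = 0 ∨ 2 * (m % i) < (2 * d) % (2 * i)))) := by
  obtain ⟨-, -, -, hi0, -⟩ := poly_facts (F := F) (r := r) hr
  rw [← hi] at hi0
  have h2i : ∀ x, i ∣ 2 * x → i ∣ x := fun x hx => (Nat.coprime_two_right.2 hodd).dvd_of_dvd_mul_left hx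
  have hex' : (i ∣ d ∧ Plus Q ⊤) ∨ (∃ e, d - m < e ∧ e < d ∧ i ∣ e) ∨ (i ∣ d - m ∧ ¬ Plus Q ⊤) := by
    rcases hex with ⟨h1, h2⟩ | ⟨e, h0, h1, h2⟩ | ⟨h1, h2⟩
    · exact Or.inl ⟨h2i _ h1, h2.1 (h2i _ h1)⟩
    · exact Or.inr (Or.inl ⟨e, h0, h1, h2i _ h2⟩)
    · exact Or.inr (Or.inr ⟨h2i _ h1, h2.1 (h2i _ h1)⟩)
  have hle : i ≤ d := by
    rcases hex' with ⟨h1, -⟩ | ⟨e, h0, h1, h2⟩ | ⟨h1, -⟩
    · exact Nat.le_of_dvd (by omega) h1
    · have := Nat.le_of_dvd (by omega) h2; omega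
    · have := Nat.le_of_dvd (by omega) h1; omega
  have hk : (2 * d) % (2 * i) = 2 * (d % i) := Nat.mul_mod_mul_left _ _ _
  rw [hk]
  have hdn := Nat.mod_add_div d i
  have hkl := Nat.mod_lt d hi0
  set k := d % i with hkdef
  set d' := d / i
  have test : ∀ P, 0 < P → i * P ≤ d → (i * P = d → Plus Q ⊤) →
      ∃ A b e, m = i * A + b ∧ e + 2 * (i * P) = 2 * d ∧ (2 * b < e ∨ (2 * b = e ∧ Plus Q ⊤)) := by
    intro P hP0 hP hP'
    have e2 : 2 * i * P = 2 * (i * P) := by ring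
    obtain ⟨a, hG, har, hfx⟩ := exists_elt_odd (V := V) hr hr2 hQ hi hodd (P := P) (by rw [hd]; omega)
      (fun he => hP' (by omega))
    have : 0 < i * P := Nat.mul_pos hi0 hP0
    obtain ⟨W, hW, hts, hWd⟩ := H a hG har (by omega)
    obtain ⟨A, b, h1, -, h3⟩ := ts_parts hG hr har hW hts
    rw [← hi] at h1
    exact ⟨A, b, finrank F (fx a), by omega, by omega,
      h3.imp id fun h => ⟨h.1, (fx_plus_odd hG hr hr2 har ⟨d, by omega⟩ (hi ▸ hodd)).1 h.2⟩⟩
  have hd1 : 0 < d' := Nat.div_pos hle hi0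
  by_cases hB : k = 0 ∧ ¬ Plus Q ⊤
  · refine ⟨?_, Or.inr ⟨hB.2, Or.inl (by omega)⟩⟩
    by_contra hlt
    rcases hex' with ⟨-, h2⟩ | ⟨e, h0, h1, h2⟩ | ⟨h1, -⟩
    · exact hB.2 h2
    · have h5 : i ∣ d - e := Nat.dvd_sub (Nat.dvd_of_mod_eq_zero hB.1) h2
      have := Nat.le_of_dvd (by omega) h5
      omega
    · have h5 : i ∣ d - (d - m) := Nat.dvd_sub (Nat.dvd_of_mod_eq_zero hB.1) h1
      have := Nat.le_of_dvd (by omega) h5
      omega
  obtain ⟨A, b, e, h1, h2, h3⟩ := test d' hd1 (by omega) (fun he => by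
    by_contra hc; exact hB ⟨by omega, hc⟩)
  have hb : b < i := by omega
  have hlb : m % i = b := by rw [h1, add_comm, Nat.add_mul_mod_self_left, Nat.mod_eq_of_lt hb]
  constructor
  · by_contra hlt
    rw [Nat.mod_eq_of_lt (by omega)] at hlb
    have hmid : ∀ e, i ∣ e → e < d → d - m ≤ e → k = d - e := fun e ⟨s, hs⟩ he he' => by
      rw [hkdef, show d = (d - e) + i * s by omega, Nat.add_mul_mod_self_left, Nat.mod_eq_of_lt (by omega)]
      omega
    rcases hex' with ⟨h4, -⟩ | ⟨e', h4, h5, h6⟩ | ⟨h4, h5⟩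
    · rw [Nat.mod_eq_zero_of_dvd h4] at hkdef; omega
    · have := hmid e' h6 h5 h4.le; omega
    · have := hmid _ h4 (by omega) le_rfl
      exact h5 (h3.resolve_left (by omega)).2
  · rw [hlb]
    by_cases hT : Plus Q ⊤
    · exact Or.inl ⟨hT, by omega⟩
    · refine Or.inr ⟨hT, Or.inr ?_⟩
      rcases h3 with h3 | ⟨-, h4⟩
      · omega
      · exact absurd h4 hT

/-- Necessity in odd dimension. -/
theorem nec_oddn (hr : (r : F) ≠ 0) (hr2 : r ≠ 2) (hQ : (polarBilin Q).Nondegenerate) {d m : ℕ}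
    (hd : finrank F V = 2 * d + 1) (hm : 1 ≤ m) (hmd : m ≤ d) {i c : ℕ}
    (hi : i = orderOf (Fintype.card F : ZMod r)) (hcdef : c = if Even i then i else 2 * i)
    (hex : ∃ e, d - m < e ∧ e ≤ d ∧ i ∣ 2 * e)
    (H : ∀ a : Module.End F V, QGood Q a → a ^ r = 1 → finrank F (fx a) < finrank F V → HasTS Q a m) :
    i ≤ m ∧ 2 * (m % i) < (2 * d + 1) % c ∧ (Odd i ∨ (r - 1) / i + 2 * (m / i) ≤ (2 * d + 1) / i) := by
  obtain ⟨-, -, -, hi0, hid⟩ := poly_facts (F := F) (r := r) hr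
  rw [← hi] at hi0 hid
  obtain ⟨t, ht⟩ := hid
  obtain ⟨e₀, he0, he1, he2⟩ := hex
  have hc2 : c ∣ 2 * e₀ := by
    rw [hcdef]
    split_ifs with hev
    · exact he2
    · exact mul_dvd_mul_left 2 ((Nat.coprime_two_right.2 (Nat.not_even_iff_odd.1 hev)).dvd_of_dvd_mul_left he2)
  have hc0 : 0 < c := by rw [hcdef]; split_ifs <;> omega
  have hcle := Nat.le_of_dvd (by omega) hc2
  have hdn := Nat.mod_add_div (2 * d + 1) c
  have hkc := Nat.mod_lt (2 * d + 1) hc0
  set k := (2 * d + 1) % c with hk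
  set n' := (2 * d + 1) / c with hn'
  have hn1 : 0 < n' := Nat.div_pos (by omega) hc0
  -- an element moving as much as possible
  obtain ⟨A, b, h1, h3⟩ : ∃ A b, m = i * A + b ∧ 2 * b < k := by
    obtain ⟨a, hG, har, hfx⟩ : ∃ a : Module.End F V, QGood Q a ∧ a ^ r = 1 ∧
        finrank F (fx a) + c * n' = 2 * d + 1 := by
      by_cases hev : Even i
      · rw [if_pos hev] at hcdef
        subst hcdef
        obtain ⟨a, hG, har, hfx, -⟩ := exists_elt_even (V := V) hr hQ (t := t) hi hev ht (N := n')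
          (by rw [hd]; omega) (fun he => by
            exfalso
            obtain ⟨h, hh⟩ := hev
            have e1 : c * n' = 2 * (h * n') := by rw [hh]; ring
            omega)
        exact ⟨a, hG, har, by omega⟩
      · rw [if_neg hev] at hcdef
        subst hcdef
        obtain ⟨a, hG, har, hfx⟩ := exists_elt_odd (V := V) hr hr2 hQ hi (Nat.not_even_iff_odd.1 hev) (P := n')
          (by rw [hd]; omega) (fun he => by
            exfalso
            have e1 : 2 * i * n' = 2 * (i * n') := by ring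
            omega)
        exact ⟨a, hG, har, by omega⟩
    have : 0 < c * n' := Nat.mul_pos hc0 hn1
    obtain ⟨W, hW, hts, hWd⟩ := H a hG har (by omega)
    obtain ⟨A, b, h1, -, h3⟩ := ts_parts hG hr har hW hts
    rw [← hi] at h1
    refine ⟨A, b, by omega, ?_⟩
    rcases h3 with h | ⟨h, -⟩
    · omega
    · have hfxk : finrank F (fx a) = k := by omega
      have hce : Even c := by
        rw [hcdef]; split_ifs with hev
        exacts [hev, even_two_mul i]
      obtain ⟨u, hu⟩ := hce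
      have e1 : c * n' = 2 * (u * n') := by rw [hu]; ring
      omega
  have hlb : m % i ≤ b := by rw [h1, add_comm, Nat.add_mul_mod_self_left]; exact Nat.mod_le _ _
  have him : i ≤ m := by
    by_contra hlt
    rw [Nat.mod_eq_of_lt (by omega)] at hlb
    obtain ⟨s, hs⟩ := hc2
    have hk2 : k = 2 * (d - e₀) + 1 := by
      rw [hk, show 2 * d + 1 = 2 * (d - e₀) + 1 + c * s by omega, Nat.add_mul_mod_self_left,
        Nat.mod_eq_of_lt]
      have : i ≤ c := by rw [hcdef]; split_ifs <;> omega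
      rcases Nat.lt_or_ge (2 * (d - e₀) + 1) c with h | h
      · exact h
      · omega
    omega
  refine ⟨him, by omega, ?_⟩
  by_cases hodd : Odd i
  · exact Or.inl hodd
  have hev := Nat.not_odd_iff_even.1 hodd
  rw [if_pos hev] at hcdef
  subst hcdef
  refine Or.inr ?_
  rw [ht, Nat.mul_div_cancel_left _ hi0, ← hn']
  by_contra hge
  have hr3 := (Fact.out : r.Prime).two_le
  have ht0 : 0 < t := Nat.pos_of_ne_zero fun h0 => by rw [h0, mul_zero] at ht; omega
  have hle : c * min t n' ≤ 2 * d + 1 := (Nat.mul_le_mul_left _ (min_le_right _ _)).trans (by omega)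
  obtain ⟨a, hG, har, hfx, hno⟩ := exists_elt_even (V := V) hr hQ (t := t) hi hev ht (N := min t n')
    (by rw [hd]; exact hle) (fun he => by
      exfalso
      obtain ⟨h, hh⟩ := hev
      have e1 : c * min t n' = 2 * (h * min t n') := by rw [hh]; ring
      omega)
  have : 0 < c * min t n' := Nat.mul_pos hc0 (by omega)
  obtain ⟨W, hW, hts, hWd⟩ := H a hG har (by omega)
  obtain ⟨A', b', g1, g2, g3⟩ := ts_parts hG hr har hW hts
  rw [hno (min_le_left _ _) W hW hts, finrank_bot, ← hi] at g2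
  rw [← hi] at g1
  have hdm := Nat.mod_add_div m c
  have hm1 : c * 1 ≤ c * (m / c) := Nat.mul_le_mul_left _ (Nat.div_pos him hc0)
  rcases min_choice t n' with hs | hs <;> rw [hs] at hfx
  · have hle' : c * (n' + 1) ≤ c * (t + 2 * (m / c)) := Nat.mul_le_mul_left _ (by omega)
    rw [Nat.mul_succ, Nat.mul_add, show c * (2 * (m / c)) = 2 * (c * (m / c)) by ring] at hle'
    rcases g3 with g | ⟨g, -⟩ <;> omega
  · rcases g3 with g | ⟨g, -⟩ <;> omega

end Cfsg.Agent.Classical.OrthElem
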