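import Cfsg.Agent.Classical.OrthElem.Involution
import Cfsg.Agent.Classical.OrthElem.TSCrit
import Cfsg.Agent.Classical.OrthElem.Divisors
import Cfsg.Agent.Classical.Elusive.Linear

/-!
# Elements of order two and translation to matrices
-/

set_option autoImplicit false

namespace Cfsg.Agent.Classical.OrthElem

open Module QuadraticMap
open Cfsg.Agent.Classical.Quad (oG qs spin dickson hex_of_two)
open Cfsg.Agent.Classical.SympElem (Inv inv_iff fx mv mem_fx fx_apply)

universe u v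

variable {F : Type u} [Field F] [Fintype F]

section general

variable {V : Type v} [AddCommGroup V] [Module F V] [FiniteDimensional F V] {Q : QuadraticForm F V}
  {a : Module.End F V}

omit [Fintype F] in
/-- The constraints on an invariant totally singular subspace. -/
theorem two_parts (hG : QGood Q a) {r : ℕ} (hr : (r : F) ≠ 0) (har : a ^ r = 1) {W : Submodule F V}
    (hW : Inv a W) (hts : TS Q W) :
    ∃ b₁ b₂, finrank F W = b₁ + b₂ ∧
      (2 * b₁ < finrank F (mv a) ∨ (2 * b₁ = finrank F (mv a) ∧ Plus Q (mv a))) ∧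
      (2 * b₂ < finrank F (fx a) ∨ (2 * b₂ = finrank F (fx a) ∧ Plus Q (fx a))) := by
  obtain ⟨-, hsum⟩ := split_inv hG hr har hW
  obtain ⟨-, -, hNE, hNR⟩ := fixed_decomp hG hr har
  refine ⟨finrank F (W ⊓ mv a : Submodule F V), finrank F (W ⊓ fx a : Submodule F V), by omega, ?_, ?_⟩
  · rcases lt_or_eq_of_le (two_mul_le_of_ts hNR (inf_le_right : W ⊓ mv a ≤ mv a) (ts_mono inf_le_left hts))
      with h | h
    · exact Or.inl h
    · exact Or.inr ⟨h, _, inf_le_right, ts_mono inf_le_left hts, h⟩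
  · rcases lt_or_eq_of_le (two_mul_le_of_ts hNE (inf_le_right : W ⊓ fx a ≤ fx a) (ts_mono inf_le_left hts))
      with h | h
    · exact Or.inl h
    · exact Or.inr ⟨h, _, inf_le_right, ts_mono inf_le_left hts, h⟩

/-- A totally singular subspace of half the dimension, or one less for the elliptic type. -/
theorem exists_ts_half (hQ : (polarBilin Q).Nondegenerate) {U : Submodule F V} (hU : NdOn Q U) {j : ℕ}
    (hj : finrank F U = 2 * j) :
    (∃ W, W ≤ U ∧ TS Q W ∧ j ≤ finrank F W + 1) ∧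
      (Plus Q U → ∃ W, W ≤ U ∧ TS Q W ∧ finrank F W = j) := by
  constructor
  · rcases Nat.eq_zero_or_pos j with rfl | hj0
    · exact ⟨⊥, bot_le, ts_bot, Nat.zero_le _⟩
    · obtain ⟨W, h1, h2, h3⟩ := exists_ts_le hQ (j - 1) U hU (by omega)
      exact ⟨W, h1, h2, by omega⟩
  · intro hp
    exact exists_ts_of_plus hp hj.ge

theorem involution_cap (hG : QGood Q a) (h2 : (2 : F) ≠ 0) (har : a ^ 2 = 1) {d j m : ℕ}
    (hd : finrank F V = 2 * d) (hj : finrank F (mv a) = 2 * j) (hm : m ≤ d)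
    (hcap : (Plus Q (mv a) ∧ Plus Q (fx a)) ∨ ((Plus Q (mv a) ∨ Plus Q (fx a)) ∧ m + 1 ≤ d) ∨ m + 2 ≤ d) :
    HasTS Q a m := by
  obtain ⟨-, -, hNE, hNR⟩ := fixed_decomp hG (r := 2) (by exact_mod_cast h2) har
  have hsum := finrank_fx_add (a := a)
  have he : finrank F (fx a) = 2 * (d - j) := by omega
  obtain ⟨⟨X, x1, x2, x3⟩, xp⟩ := exists_ts_half hG.nondeg hNR hj
  obtain ⟨⟨Y, y1, y2, y3⟩, yp⟩ := exists_ts_half hG.nondeg hNE he
  rcases hcap with ⟨p1, p2⟩ | ⟨p1 | p2, h⟩ | h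
  · obtain ⟨X', a1, a2, a3⟩ := xp p1
    obtain ⟨Y', b1, b2, b3⟩ := yp p2
    exact involution_ts hG h2 har a1 a2 b1 b2 (by omega)
  · obtain ⟨X', a1, a2, a3⟩ := xp p1
    exact involution_ts hG h2 har a1 a2 y1 y2 (by omega)
  · obtain ⟨Y', b1, b2, b3⟩ := yp p2
    exact involution_ts hG h2 har x1 x2 b1 b2 (by omega)
  · exact involution_ts hG h2 har x1 x2 y1 y2 (by omega)

omit [Fintype F] in
/-- Without a square root of minus one the planes are anisotropic and give the type. -/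
theorem sq_neg_one_type [Finite F] (h2 : (2 : F) ≠ 0) (h1 : ¬ IsSquare (-1 : F)) : ∀ (d : ℕ) (W : Type v)
    [AddCommGroup W] [Module F W] [FiniteDimensional F W] (R : QuadraticForm F W) (b : Module.End F W),
    QGood R b → (∀ x, b (b x) = -x) → finrank F W = 2 * d → (Plus R ⊤ ↔ Even d) := by
  intro d
  induction d with
  | zero =>
    intro W _ _ _ R b _ _ hd
    exact iff_of_true ⟨⊥, le_top, ts_bot, by rw [finrank_top, hd, finrank_bot]⟩ (by simp)
  | succ d ih =>
    intro W _ _ _ R b hG hsq hd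
    obtain ⟨v, -, hQv⟩ := exists_aniso_vec (ndon_top hG.nondeg) (fun h0 => by
      have := congrArg (fun X : Submodule F W => finrank F X) h0
      simp only [finrank_top, finrank_bot] at this
      omega)
    have hvv' : polar R v (b v) = 0 := by
      have h := polar_pres hG v (b v)
      rw [hsq, polar_neg_right, polar_comm R (b v) v] at h
      exact (mul_eq_zero.1 (by linear_combination -h : (2 : F) * polar R v (b v) = 0)).resolve_left h2
    obtain ⟨hS, hSd⟩ := ndon_pairSpan (Q := R) (x := v) (y := b v) (by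
      rw [Quad.polar_self', Quad.polar_self', hvv', hG.pres]
      simpa using ⟨h2, hQv⟩)
    have hSi : Inv b (pairSpan (F := F) v (b v)) := fun x hx => by
      obtain ⟨s, t, rfl⟩ := mem_pairSpan.1 hx
      refine mem_pairSpan.2 ⟨-t, s, ?_⟩
      rw [map_add, map_smul, map_smul, hsq, smul_neg, neg_smul]
      abel
    have hSp : ¬ Plus R (pairSpan (F := F) v (b v)) := by
      rintro ⟨X, hle, hX, hXd⟩
      obtain ⟨x, hx, hx0⟩ := X.exists_mem_ne_zero_of_ne_bot (fun h0 => by rw [h0, finrank_bot, hSd] at hXd; omega)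
      obtain ⟨s, t, rfl⟩ := mem_pairSpan.1 (hle hx)
      have h := hX _ hx
      rw [Quad.map_add', Quad.map_smul', Quad.map_smul', polar_smul_left, polar_smul_right, hG.pres, hvv'] at h
      simp only [smul_eq_mul, mul_zero, add_zero] at h
      have h3 : s * s + t * t = 0 :=
        (mul_eq_zero.1 (by linear_combination h : (s * s + t * t) * R v = 0)).resolve_right hQv
      by_cases ht : t = 0
      · subst ht
        have hs : s = 0 := by simpa using h3
        subst hs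
        simp at hx0
      · exact h1 ⟨s / t, by field_simp; linear_combination -h3⟩
    have hinv := inv_orth hG hSi
    have hPd : finrank F (orth R (pairSpan v (b v))) = 2 * d := by
      rw [finrank_orth hG.nondeg, hSd, hd]; omega
    have h4 := ih _ (qres R (orth R (pairSpan v (b v)))) (b.restrict hinv)
      (good_restrict hG hinv (ndon_orth hG.nondeg hS)) (fun x => Subtype.ext (hsq x)) hPd
    have h5 := plus_sup_iff hG.nondeg hS (ndon_orth hG.nondeg hS) (orth_le le_rfl) ⟨1, hSd⟩ ⟨d, by omega⟩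
    rw [(isCompl_orth hG.nondeg hS).sup_eq_top, plus_qres.symm.trans h4] at h5
    rw [h5, Nat.even_add_one]
    exact ⟨fun h hn => hSp (h.2 hn), fun hn => iff_of_false hSp hn⟩

end general

section matrices

variable {ι : Type} [Fintype ι] [DecidableEq ι] {Q : QuadraticForm F (ι → F)}

theorem hasTS_map {x : GL ι F} {m : ℕ} (h : HasTS Q (Matrix.toLin' x.1) m) :
    ∃ W : Submodule F (ι → F), finrank F W = m ∧ (∀ w ∈ W, Q w = 0) ∧ W.map (Matrix.toLin' x.1) ≤ W := by
  obtain ⟨W, h1, h2, h3⟩ := h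
  exact ⟨W, h3, h2, inv_iff.1 h1⟩

theorem pow_toLin' {x : GL ι F} {r : ℕ} (hx : x ^ r = 1) : (Matrix.toLin' x.1) ^ r = 1 := by
  rw [← Matrix.toLin'_pow, ← Units.val_pow_eq_pow_val, hx, Units.val_one, Matrix.toLin'_one]
  rfl

theorem sq_cases (hQ : (polarBilin Q).Nondegenerate) (hn : 1 ≤ finrank F (ι → F)) {x : GL ι F}
    (hG : QGood Q (Matrix.toLin' x.1)) {z : F}
    (h : ((x ^ 2 : GL ι F) : Matrix ι ι F) = z • (1 : Matrix ι ι F)) :
    (Matrix.toLin' x.1) ^ 2 = 1 ∨ ∀ v, Matrix.toLin' x.1 (Matrix.toLin' x.1 v) = -v := by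
  have hT : (Matrix.toLin' x.1) ^ 2 = z • (1 : Module.End F (ι → F)) := by
    rw [← Matrix.toLin'_pow, ← Units.val_pow_eq_pow_val, h, map_smul, Matrix.toLin'_one]; rfl
  have hz : z ^ 2 = 1 := scalar_sq hQ hn
    (fun v => by rw [pow_two, Module.End.mul_apply, hG.pres, hG.pres]) hT
  rcases sq_eq_one_iff.1 hz with rfl | rfl
  · exact Or.inl (by rw [hT, one_smul])
  · refine Or.inr fun v => ?_
    rw [← Module.End.mul_apply, ← pow_two, hT]
    simp

theorem exists_elliptic_elt (hQ : (polarBilin Q).Nondegenerate) (h2 : (2 : F) ≠ 0) (h1 : ¬ IsSquare (-1 : F))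
    (hn : 5 ≤ finrank F (ι → F)) :
    ∃ x : GL ι F, x ∈ Cfsg.Geo.omegaGL ⇑Q ∧ x ^ 2 = 1 ∧
      finrank F (fx (Matrix.toLin' x.1)) + 2 = finrank F (ι → F) ∧ ¬ Plus Q (mv (Matrix.toLin' x.1)) := by
  obtain ⟨g, hg, hg2, hfx, hp⟩ := exists_elliptic_involution hQ h2 h1 hn
  obtain ⟨x, hx, hxg⟩ := exists_of_comm hg
  have e : Matrix.toLin' x.1 = (g.1 : (ι → F) →ₗ[F] (ι → F)) := LinearMap.ext hxg
  refine ⟨x, hx, Units.ext (Matrix.toLin'.injective ?_), by rw [e]; exact hfx, by rw [e]; exact hp⟩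
  rw [Units.val_pow_eq_pow_val, Matrix.toLin'_pow, e, hg2, Units.val_one, Matrix.toLin'_one]
  rfl

theorem exists_J_elt (hQ : (polarBilin Q).Nondegenerate) (h2 : (2 : F) ≠ 0) (h1 : ¬ IsSquare (-1 : F)) {d : ℕ}
    (hd : finrank F (ι → F) = 2 * d) (hp : Plus Q ⊤ ↔ Even d) (hs : qs (2 : F) ^ d = 1) :
    ∃ x : GL ι F, x ∈ Cfsg.Geo.omegaGL ⇑Q ∧ ∀ v, Matrix.toLin' x.1 (Matrix.toLin' x.1 v) = -v := by
  obtain ⟨a, hG, hsq⟩ := exists_sq_neg_one h1 d (ι → F) Q hQ hd hp
  have hinj := injective_of_good hG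
  let g : oG Q := ⟨LinearEquiv.ofBijective a ⟨hinj, LinearMap.injective_iff_surjective.1 hinj⟩, hG.pres⟩
  obtain ⟨k, hk, hdk, hsk⟩ := sq_neg_one_chars hQ h2 _ ⊤ le_rfl (ndon_top hQ) g (fun _ _ => Submodule.mem_top)
    (fun v _ => hsq v) (fun v hv => by
      have : v = 0 := Submodule.disjoint_def.1 (disjoint_orth (ndon_top hQ)) v Submodule.mem_top hv
      rw [this, map_zero])
  rw [finrank_top, hd] at hk
  obtain rfl : d = k := by omega
  obtain ⟨x, hx, hxa⟩ := exists_of_comm ((Quad.mem_commutator_chars hQ (hex_of_two h2 _) g).2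
    ⟨hdk, fun _ => hsk.trans hs⟩)
  refine ⟨x, hx, fun v => ?_⟩
  rw [hxa, hxa]
  exact hsq v

theorem J_spin (hQ : (polarBilin Q).Nondegenerate) (h2 : (2 : F) ≠ 0) {x : GL ι F} {d : ℕ}
    (hx : x ∈ Cfsg.Geo.omegaGL ⇑Q) (hd : finrank F (ι → F) = 2 * d)
    (hsq : ∀ v, Matrix.toLin' x.1 (Matrix.toLin' x.1 v) = -v) : qs (2 : F) ^ d = 1 := by
  obtain ⟨-, g, hg, hga⟩ := good_of_mem hQ hx
  obtain ⟨k, hk, -, hsk⟩ := sq_neg_one_chars hQ h2 _ ⊤ le_rfl (ndon_top hQ) g (fun _ _ => Submodule.mem_top)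
    (fun v _ => by rw [hga, hga]; exact hsq v) (fun v hv => by
      have : v = 0 := Submodule.disjoint_def.1 (disjoint_orth (ndon_top hQ)) v Submodule.mem_top hv
      rw [this, map_zero])
  rw [finrank_top, hd] at hk
  obtain rfl : d = k := by omega
  rw [← hsk]
  exact ((Quad.mem_commutator_chars hQ (hex_of_two h2 _) g).1 hg).2 h2

theorem J_not_scalar {x : GL ι F} (hn : 1 ≤ finrank F (ι → F)) (h1 : ¬ IsSquare (-1 : F))
    (hsq : ∀ v, Matrix.toLin' x.1 (Matrix.toLin' x.1 v) = -v) (z : F) : x.1 ≠ z • (1 : Matrix ι ι F) := by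
  intro h
  haveI : Nontrivial (ι → F) := Module.nontrivial_of_finrank_pos (R := F) hn
  obtain ⟨v, hv⟩ := exists_ne (0 : ι → F)
  have := hsq v
  rw [h, map_smul, Matrix.toLin'_one] at this
  simp only [LinearMap.smul_apply, LinearMap.id_apply, smul_smul] at this
  refine h1 ⟨z, smul_left_injective F hv ?_⟩
  show (-1 : F) • v = (z * z) • v
  rw [this, neg_one_smul]

theorem J_pow {x : GL ι F} (hsq : ∀ v, Matrix.toLin' x.1 (Matrix.toLin' x.1 v) = -v) :
    ∃ z : F, ((x ^ 2 : GL ι F) : Matrix ι ι F) = z • (1 : Matrix ι ι F) := by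
  refine ⟨-1, Matrix.toLin'.injective (LinearMap.ext fun v => ?_)⟩
  rw [Units.val_pow_eq_pow_val, Matrix.toLin'_pow, map_smul, Matrix.toLin'_one, pow_two, Module.End.mul_apply, hsq]
  simp

theorem isSquare_neg_one_iff' (hq : Fintype.card F % 2 = 1) :
    IsSquare (-1 : F) ↔ Fintype.card F % 4 = 1 := by
  rw [FiniteField.isSquare_neg_one_iff]
  omega

end matrices

end Cfsg.Agent.Classical.OrthElem
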