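import Cfsg.Agent.Classical.OrthElem.Type
import Cfsg.Agent.Classical.SympElem.Model

/-!
# Totally singular invariant subspaces of semisimple isometries
-/

set_option autoImplicit false

namespace Cfsg.Agent.Classical.OrthElem

open Module Polynomial Cfsg.Agent.MatModule
open QuadraticMap (polar polarBilin)
open Cfsg.Agent.Classical.SympElem (Inv AllDeg cyc cyc_props aeval_mem exists_quad_zero blocks exists_compl
  inv_bot inv_top poly_facts eval_one_cyclo frobenius_inverse dvd_cyclotomic comp_X_pow_card inv_ker)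

universe u v

variable {F : Type u} [Field F] {V : Type v} [AddCommGroup V] [Module F V] {Q : QuadraticForm F V}
  {a : Module.End F V}

theorem palindrome {f : F[X]} (hf : f.Monic) (hirr : Irreducible f) (h1 : f.eval 1 ≠ 0) (h0 : f.coeff 0 ≠ 0)
    (hrev : f ∣ f.reverse) : ∀ l, l ≤ f.natDegree → f.coeff (f.natDegree - l) = f.coeff l := by
  set n := f.natDegree with hn
  obtain ⟨g, hg⟩ := hrev
  have hrevdeg : f.reverse.natDegree = f.natDegree := by
    rw [reverse_natDegree, natTrailingDegree_eq_zero_of_constantCoeff_ne_zero]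
    · simp
    · rwa [constantCoeff_apply]
  have hg0 : g ≠ 0 := fun h0' => hf.ne_zero (reverse_eq_zero.1 (by rw [hg, h0', mul_zero]))
  have hgd : g.natDegree = 0 := by
    have := congrArg natDegree hg
    rw [hrevdeg, natDegree_mul hf.ne_zero hg0] at this
    omega
  set c := g.coeff 0
  have hcoef : ∀ l, l ≤ n → f.coeff (n - l) = f.coeff l * c := by
    intro l hl
    have := congrArg (fun t => t.coeff l) hg
    simp only [coeff_reverse, ← hn, revAt_le hl] at this
    rw [this, eq_C_of_natDegree_eq_zero hgd, coeff_mul_C]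
  have hc : c = 1 := by
    have hsum : f.eval 1 = f.eval 1 * c := by
      simp only [eval_eq_sum_range, one_pow, mul_one, ← hn, Finset.sum_mul]
      rw [← Finset.sum_range_reflect (fun j => f.coeff j) (n + 1)]
      refine Finset.sum_congr rfl fun j hj => ?_
      have hj' := Finset.mem_range.1 hj
      show f.coeff (n + 1 - 1 - j) = f.coeff j * c
      rw [show n + 1 - 1 - j = n - j by omega, hcoef j (by omega)]
    exact mul_left_cancel₀ h1 (by rw [mul_one]; exact hsum.symm)
  intro l hl
  rw [hcoef l hl, hc, mul_one]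

variable [Fintype F] {r : ℕ} [Fact r.Prime]

theorem factor_facts (hr : (r : F) ≠ 0) {f : F[X]} (hf : f.Monic) (hirr : Irreducible f)
    (hfd : f ∣ cyclotomic r F) :
    f.eval 1 ≠ 0 ∧ f.coeff 0 ≠ 0 ∧ f.natDegree = orderOf (Fintype.card F : ZMod r) := by
  refine ⟨eval_one_cyclo hr hfd, fun h0 => ?_, (poly_facts hr).2.1 f hf hirr hfd⟩
  have h := eval_eq_zero_of_dvd_of_eval_eq_zero hfd (x := (0 : F)) (by rwa [← coeff_zero_eq_eval_zero])
  rw [← coeff_zero_eq_eval_zero, cyclotomic_coeff_zero F (Fact.out : r.Prime).one_lt] at h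
  exact one_ne_zero h

theorem coprime_reverse (hr : (r : F) ≠ 0) {f : F[X]} (hf : f.Monic) (hirr : Irreducible f)
    (hfd : f ∣ cyclotomic r F) (hr2 : r ≠ 2) (hodd : Odd f.natDegree) : IsCoprime f f.reverse := by
  obtain ⟨h1, h0, -⟩ := factor_facts hr hf hirr hfd
  refine hirr.coprime_iff_not_dvd.2 fun hd => ?_
  have hp := palindrome hf hirr h1 h0 hd
  set n := f.natDegree with hn
  have hz : f.eval (-1) = 0 := by
    rw [eval_eq_sum_range, ← hn]
    refine Finset.sum_involution (fun j _ => n - j) (fun j hj => ?_) (fun j hj _ => ?_) (fun j hj => ?_)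
      (fun j hj => ?_) <;> have hj' := Finset.mem_range.1 hj
    · rw [hp j (by omega)]
      rcases Nat.even_or_odd j with he | ho
      · rw [he.neg_one_pow, (show Odd (n - j) by
          rw [Nat.odd_iff] at hodd ⊢; rw [Nat.even_iff] at he; omega).neg_one_pow]
        ring
      · rw [ho.neg_one_pow, (show Even (n - j) by
          rw [Nat.odd_iff] at hodd ho; rw [Nat.even_iff]; omega).neg_one_pow]
        ring
    · obtain ⟨w, hw⟩ := hodd; omega
    · exact Finset.mem_range.2 (by omega)
    · omega
  have hm := eval_eq_zero_of_dvd_of_eval_eq_zero (dvd_cyclotomic hfd) hz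
  rw [eval_sub, eval_pow, eval_X, eval_C, ((Fact.out : r.Prime).odd_of_ne_two hr2).neg_one_pow] at hm
  exact h1 (by
    have h2 : (1 : F) = -1 := by linear_combination -hm
    rw [h2]; exact hz)

theorem dvd_reverse_of_even (hr : (r : F) ≠ 0) {f : F[X]} (hf : f.Monic) (hirr : Irreducible f)
    (hfd : f ∣ cyclotomic r F) {h : ℕ} (hi : orderOf (Fintype.card F : ZMod r) = h + h) : f ∣ f.reverse := by
  obtain ⟨-, -, hdeg⟩ := factor_facts hr hf hirr hfd
  have hh : 0 < h := by have := hirr.natDegree_pos; omega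
  haveI := Fact.mk hirr
  set ρ : AdjoinRoot f := AdjoinRoot.root f with hρ
  have hroot : ρ ^ r = 1 := by
    have := AdjoinRoot.mk_eq_zero.2 (dvd_cyclotomic hfd)
    rwa [map_sub, map_pow, AdjoinRoot.mk_X, AdjoinRoot.mk_C, map_one, sub_eq_zero] at this
  set N := Fintype.card F ^ h
  have hinv : ρ ^ N * ρ = 1 := by
    obtain ⟨s, hs⟩ := frobenius_inverse hi hh
    rw [← pow_succ, hs, pow_mul, hroot, one_pow]
  letI : Invertible (ρ ^ N) := ⟨ρ, by rw [mul_comm]; exact hinv, hinv⟩
  have hQ : eval₂ (AdjoinRoot.of f) (ρ ^ N) f = 0 := by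
    have h1 : aeval (ρ ^ N) f = (aeval ρ f) ^ N := by
      rw [← map_pow, ← comp_X_pow_card, aeval_comp, map_pow, aeval_X]
    rw [AdjoinRoot.aeval_eq, AdjoinRoot.mk_self, zero_pow (pow_pos Fintype.card_pos _).ne'] at h1
    exact h1
  have := (eval₂_reverse_eq_zero_iff (AdjoinRoot.of f) (ρ ^ N) f).2 hQ
  rw [← AdjoinRoot.mk_eq_zero, ← AdjoinRoot.aeval_eq]
  exact this

omit [Fintype F] [Fact r.Prime] in
theorem polar_shift (hG : QGood Q a) (s k l : ℕ) (x y : V) :
    polar Q ((a ^ (s + k)) x) ((a ^ (s + l)) y) = polar Q ((a ^ k) x) ((a ^ l) y) := by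
  induction s with
  | zero => simp
  | succ s ih =>
    rw [show s + 1 + k = (s + k) + 1 by ring, show s + 1 + l = (s + l) + 1 by ring, pow_succ' a (s + k),
      pow_succ' a (s + l), Module.End.mul_apply, Module.End.mul_apply, polar_pres hG, ih]

omit [Fintype F] [Fact r.Prime] in
theorem polar_aeval {g : F[X]} (x y : V) :
    polar Q (aeval a g x) y = ∑ l ∈ Finset.range (g.natDegree + 1), g.coeff l * polar Q ((a ^ l) x) y := by
  rw [aeval_eq_sum_range, LinearMap.sum_apply, ← QuadraticMap.polarBilin_apply_apply, map_sum, LinearMap.sum_apply]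
  exact Finset.sum_congr rfl fun l _ => by simp

omit [Fintype F] [Fact r.Prime] in
/-- The kernel of a polynomial coprime to its reversal is polar-isotropic. -/
theorem ker_polar_zero [FiniteDimensional F V] (hG : QGood Q a) {f : F[X]} (hf0 : f.coeff 0 ≠ 0)
    (hcop : IsCoprime f f.reverse) {x y : V} (hx : aeval a f x = 0) (hy : aeval a f y = 0) : polar Q x y = 0 := by
  obtain ⟨s, t, hst⟩ := hcop
  set x' := aeval a t x with hx'
  have hxe : x = aeval a f.reverse x' := by
    have h1 := congrArg (fun p => aeval a p x) hst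
    simp only [map_add, map_mul, map_one, LinearMap.add_apply, Module.End.mul_apply, Module.End.one_apply, hx,
      map_zero, zero_add] at h1
    rw [hx', ← Module.End.mul_apply, ← map_mul, mul_comm, map_mul, Module.End.mul_apply]
    exact h1.symm
  have hinj : Function.Injective (a ^ f.natDegree) := by
    rw [Module.End.coe_pow]; exact (injective_of_good hG).iterate _
  have hker : Inv (a ^ f.natDegree) (LinearMap.ker (aeval a f)) := inv_ker (by
    rw [show a ^ f.natDegree = aeval a (X ^ f.natDegree : F[X]) by simp]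
    exact (Commute.all f (X ^ f.natDegree)).map (aeval a))
  obtain ⟨⟨y', hy'⟩, he⟩ := ((LinearMap.injective_iff_surjective
    (f := (a ^ f.natDegree).restrict hker)).1 fun u w h => Subtype.ext (hinj (congrArg Subtype.val h)))
    ⟨y, LinearMap.mem_ker.2 hy⟩
  have he' : (a ^ f.natDegree) y' = y := congrArg Subtype.val he
  rw [hxe, ← he', polar_aeval]
  have hdeg : f.reverse.natDegree = f.natDegree := by
    rw [reverse_natDegree, natTrailingDegree_eq_zero_of_constantCoeff_ne_zero]
    · simp
    · rwa [constantCoeff_apply]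
  rw [hdeg]
  have : ∀ l ∈ Finset.range (f.natDegree + 1),
      f.reverse.coeff l * polar Q ((a ^ l) x') ((a ^ f.natDegree) y') =
        f.coeff (f.natDegree - l) * polar Q x' ((a ^ (f.natDegree - l)) y') := by
    intro l hl
    have hl' := Finset.mem_range.1 hl
    rw [coeff_reverse, revAt_le (by omega)]
    have := polar_shift hG l 0 (f.natDegree - l) x' y'
    rw [add_zero, show l + (f.natDegree - l) = f.natDegree by omega, pow_zero, Module.End.one_apply] at this
    rw [this]
  rw [Finset.sum_congr rfl this]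
  have h2 := Finset.sum_range_reflect (fun l => f.coeff l * polar Q x' ((a ^ l) y')) (f.natDegree + 1)
  simp only [Nat.add_sub_cancel] at h2
  rw [h2]
  have h3 := polar_aeval (Q := Q) (a := a) (g := f) y' x'
  rw [LinearMap.mem_ker.1 hy', QuadraticMap.polar_zero_left] at h3
  rw [h3]
  exact Finset.sum_congr rfl fun l _ => by rw [QuadraticMap.polar_comm]

omit [Fintype F] [Fact r.Prime] in
/-- A cyclic subspace with a palindromic polynomial of degree `2 h` and `h` vanishing moments. -/
theorem cyc_polar_zero (hG : QGood Q a) {f : F[X]} (hf : f.Monic) {h : ℕ} (hdeg : f.natDegree = h + h)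
    (hh : 0 < h) (hpal : ∀ l, l ≤ f.natDegree → f.coeff (f.natDegree - l) = f.coeff l) {u : V}
    (hfu : aeval a f u = 0)
    (hm : ∀ j, j ≤ h → (j = 0 → (2 : F) ≠ 0) → (j = h → (2 : F) = 0) → polar Q ((a ^ j) u) u = 0) :
    ∀ x ∈ cyc a u f.natDegree, ∀ y ∈ cyc a u f.natDegree, polar Q x y = 0 := by
  set c : ℕ → F := fun j => polar Q ((a ^ j) u) u with hc
  have hsh : ∀ k l, polar Q ((a ^ k) u) ((a ^ l) u) = if l ≤ k then c (k - l) else c (l - k) := by
    intro k l
    split_ifs with hkl
    · have := polar_shift hG l (k - l) 0 u u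
      rwa [add_zero, show l + (k - l) = k by omega, pow_zero, Module.End.one_apply] at this
    · have := polar_shift hG k 0 (l - k) u u
      rw [add_zero, show k + (l - k) = l by omega, pow_zero, Module.End.one_apply] at this
      exact this.trans (QuadraticMap.polar_comm _ _ _)
  have hsum : ∀ s, ∑ l ∈ Finset.range (f.natDegree + 1), f.coeff l * polar Q ((a ^ l) u) ((a ^ s) u) = 0 := by
    intro s
    rw [← polar_aeval, hfu, QuadraticMap.polar_zero_left]
  have hc0 : c 0 = 0 := by
    by_cases h2 : (2 : F) = 0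
    · show polar Q ((a ^ 0) u) u = 0
      rw [pow_zero, Module.End.one_apply, Quad.polar_self', h2, zero_mul]
    · exact hm 0 (Nat.zero_le _) (fun _ => h2) (fun e => absurd e (by omega))
  have hlow : ∀ j, j < h → c j = 0 := fun j hj => by
    rcases Nat.eq_zero_or_pos j with rfl | hj0
    · exact hc0
    · exact hm j hj.le (fun e => by omega) (fun e => by omega)
  have hh' : c h = 0 := by
    by_cases h2 : (2 : F) = 0
    · exact hm h le_rfl (fun e => by omega) (fun _ => h2)
    have hs := hsum h
    rw [← Finset.sum_subset (s₁ := {0, f.natDegree}) (by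
      intro l hl
      simp only [Finset.mem_insert, Finset.mem_singleton] at hl
      exact Finset.mem_range.2 (by omega)) (fun l hl hn => by
      simp only [Finset.mem_insert, Finset.mem_singleton, not_or] at hn
      have := Finset.mem_range.1 hl
      rw [hsh]
      split_ifs <;> rw [hlow _ (by omega), mul_zero]), Finset.sum_pair (by omega)] at hs
    have hlead : f.coeff f.natDegree = 1 := hf
    have hz : f.coeff 0 = 1 := by rw [← hlead, ← hpal 0 (Nat.zero_le _), Nat.sub_zero]
    rw [hsh, hsh, if_neg (by omega), if_pos (by omega), hlead, hz, Nat.sub_zero,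
      show f.natDegree - h = h by omega] at hs
    exact (mul_eq_zero.1 (by linear_combination hs : (2 : F) * c h = 0)).resolve_left h2
  have hall : ∀ k, k < f.natDegree → c k = 0 := by
    intro k
    induction k using Nat.strong_induction_on with
    | _ k ih =>
      intro hk
      rcases lt_trichotomy k h with hkh | rfl | hkh
      · exact hlow k hkh
      · exact hh'
      have hs := hsum (f.natDegree - k)
      rw [Finset.sum_eq_single f.natDegree] at hs
      · rw [show f.coeff f.natDegree = 1 from hf, one_mul, hsh, if_pos (by omega),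
          show f.natDegree - (f.natDegree - k) = k by omega] at hs
        exact hs
      · intro l hl hne
        have hl' := Finset.mem_range.1 hl
        refine mul_eq_zero_of_right _ ?_
        rw [hsh]
        split_ifs <;> exact ih _ (by omega) (by omega)
      · exact fun hn => absurd (Finset.mem_range.2 (by omega)) hn
  intro x hx y hy
  rw [← QuadraticMap.polarBilin_apply_apply]
  induction hx using Submodule.span_induction with
  | zero => simp
  | add s t _ _ hs ht => rw [map_add, LinearMap.add_apply, hs, ht, add_zero]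
  | smul c s _ hs => rw [map_smul, LinearMap.smul_apply, hs, smul_zero]
  | mem s hs =>
    obtain ⟨j, rfl⟩ := hs
    induction hy using Submodule.span_induction with
    | zero => simp
    | add s t _ _ hs ht => rw [map_add, hs, ht, add_zero]
    | smul c s _ hs => rw [map_smul, hs, smul_zero]
    | mem s hs =>
      obtain ⟨l, rfl⟩ := hs
      rw [QuadraticMap.polarBilin_apply_apply, hsh]
      split_ifs <;> exact hall _ (by have := j.2; have := l.2; omega)

variable [FiniteDimensional F V]

omit [Fintype F] in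
theorem fix_free (hr : (r : F) ≠ 0) (hag : aeval a (cyclotomic r F) = 0) {x : V} (hx : a x = x) : x = 0 := by
  have h := LinearMap.congr_fun hag x
  by_contra hx0
  rw [Module.End.aeval_apply_of_hasEigenvector (μ := (1 : F))
    ⟨Module.End.mem_eigenspace_iff.2 (by rw [hx, one_smul]), hx0⟩, eval_one_cyclotomic_prime, LinearMap.zero_apply, smul_eq_zero] at h
  exact hx0 (h.resolve_left hr)

theorem exists_ts_block (hG : QGood Q a) (hr : (r : F) ≠ 0) (hr2 : r ≠ 2) (hag : aeval a (cyclotomic r F) = 0)
    (h : (Odd (orderOf (Fintype.card F : ZMod r)) ∧ 0 < finrank F V) ∨ r - 1 < finrank F V) :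
    ∃ W : Submodule F V, Inv a W ∧ TS Q W ∧ finrank F W = orderOf (Fintype.card F : ZMod r) := by
  obtain ⟨hsf, hAll, hgdeg, hi0, -⟩ := poly_facts (F := F) (r := r) hr
  obtain ⟨-, h1, h2⟩ := blocks hsf hag hAll
  set i := orderOf (Fintype.card F : ZMod r) with hidef
  rcases Nat.even_or_odd i with heven | hodd
  · obtain ⟨f, hf, hirr, hfg, hdim⟩ := h2 (by
      rw [hgdeg]
      rcases h with ⟨ho, -⟩ | hlt
      · exact absurd ho (Nat.not_odd_iff_even.2 heven)
      · exact hlt)
    obtain ⟨hh, hhi⟩ := heven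
    obtain ⟨he1, he0, hdeg⟩ := factor_facts hr hf hirr hfg
    have hpal := palindrome hf hirr he1 he0 (dvd_reverse_of_even hr hf hirr hfg hhi)
    classical
    set δ : ℕ := if (2 : F) = 0 then 1 else 0 with hδ
    obtain ⟨u, hu, hu0, hz⟩ := exists_quad_zero (K := LinearMap.ker (aeval a f))
      (fun j : Fin hh => LinearMap.BilinForm.comp (polarBilin Q) (a ^ ((j : ℕ) + δ)) LinearMap.id) (by omega)
    obtain ⟨hinv, hfin, -⟩ := cyc_props hf hirr hu0 (LinearMap.mem_ker.1 hu)
    refine ⟨cyc a u f.natDegree, hinv, ts_of_polar hG hinv (cyc_polar_zero hG hf (hdeg.trans hhi) (by omega) hpal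
      (LinearMap.mem_ker.1 hu) fun j hj hj0 hjh => ?_) (fun x _ hx => fix_free hr hag hx), hfin.trans hdeg⟩
    by_cases hc : (2 : F) = 0
    · rw [if_pos hc] at hδ
      have : j ≠ 0 := fun e => hj0 e hc
      have := hz ⟨j - 1, by omega⟩
      rwa [hδ, LinearMap.BilinForm.comp_apply, show j - 1 + 1 = j by omega, LinearMap.id_apply] at this
    · rw [if_neg hc] at hδ
      have : j ≠ hh := fun e => hc (hjh e)
      have := hz ⟨j, by omega⟩
      rwa [hδ, LinearMap.BilinForm.comp_apply, add_zero, LinearMap.id_apply] at this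
  · obtain ⟨f, hf, hirr, hfg, hdim⟩ := h1 (by rcases h with ⟨-, hp⟩ | hlt <;> omega)
    obtain ⟨he1, he0, hdeg⟩ := factor_facts hr hf hirr hfg
    obtain ⟨u, hu, hu0⟩ := Submodule.exists_mem_ne_zero_of_ne_bot (fun h0 : LinearMap.ker (aeval a f) = ⊥ => by
      rw [h0, finrank_bot] at hdim; omega)
    obtain ⟨hinv, hfin, -⟩ := cyc_props hf hirr hu0 (LinearMap.mem_ker.1 hu)
    refine ⟨cyc a u f.natDegree, hinv, ts_of_polar hG hinv (fun x hx y hy => ?_)
      (fun x _ hx => fix_free hr hag hx), hfin.trans hdeg⟩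
    have hle : cyc a u f.natDegree ≤ LinearMap.ker (aeval a f) := Submodule.span_le.2 (by
      rintro _ ⟨j, rfl⟩
      refine LinearMap.mem_ker.2 ?_
      rw [← Module.End.mul_apply, show (a ^ (j : ℕ)) = aeval a (X ^ (j : ℕ) : F[X]) by simp, ← map_mul,
        mul_comm, map_mul, Module.End.mul_apply, LinearMap.mem_ker.1 hu, map_zero])
    exact ker_polar_zero hG he0 (coprime_reverse hr hf hirr hfg hr2 (hdeg ▸ hodd)) (hle hx) (hle hy)

/-- Totally singular invariant subspaces of every dimension allowed by the multiplicities. -/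
theorem exists_ts (hG : QGood Q a) (hr : (r : F) ≠ 0) (hr2 : r ≠ 2) (hag : aeval a (cyclotomic r F) = 0) :
    ∀ A, 2 * orderOf (Fintype.card F : ZMod r) * A ≤ finrank F V →
      (A = 0 ∨ Odd (orderOf (Fintype.card F : ZMod r)) ∨
        r - 1 + 2 * orderOf (Fintype.card F : ZMod r) * A < finrank F V + 2 * orderOf (Fintype.card F : ZMod r)) →
      ∃ W : Submodule F V, Inv a W ∧ TS Q W ∧ finrank F W = orderOf (Fintype.card F : ZMod r) * A := by
  obtain ⟨hsf, -, -, hi0, -⟩ := poly_facts (F := F) (r := r) hr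
  set i := orderOf (Fintype.card F : ZMod r) with hi
  intro A
  induction A with
  | zero => exact fun _ _ => ⟨⊥, inv_bot, ts_bot, by simp⟩
  | succ A ih =>
    intro hA hc
    rw [Nat.mul_succ] at hA
    have hc' := hc.resolve_left (Nat.succ_ne_zero A)
    rw [Nat.mul_succ] at hc'
    obtain ⟨W, hW, hWts, hWd⟩ := ih (by omega) (Or.inr (hc'.imp id fun h => by omega))
    obtain ⟨C, hC, hWC⟩ := exists_compl hsf hag hW
    obtain ⟨hPN, hPd, hdisj⟩ := ts_complement hG.nondeg hWts hWC
    have hP : Inv a (orth Q W ⊓ C) := (inv_orth hG hW).inf hC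
    rw [hWd] at hPd
    have e : 2 * (i * A) = 2 * i * A := by ring
    obtain ⟨W₁, hW₁, hW₁ts, hW₁d⟩ := exists_ts_block (good_restrict hG hP hPN) hr hr2
      (SympConj.aeval_restrict hag hP) (by
        rcases hc' with hc' | hc'
        · exact Or.inl ⟨hc', by omega⟩
        · exact Or.inr (by omega))
    obtain ⟨W', h1, h2, h3⟩ := ts_extend hWts hW hP inf_le_left hdisj hW₁ hW₁ts
    exact ⟨W', h1, h2, by rw [h3, hW₁d, hWd, ← hi, Nat.mul_succ]; omega⟩

theorem dvd_dim (hr : (r : F) ≠ 0) (hag : aeval a (cyclotomic r F) = 0) :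
    orderOf (Fintype.card F : ZMod r) ∣ finrank F V :=
  (blocks (poly_facts hr).1 hag (poly_facts hr).2.1).1

/-- For odd order the moved space is hyperbolic. -/
theorem plus_of_odd (hG : QGood Q a) (hr : (r : F) ≠ 0) (hr2 : r ≠ 2) (hag : aeval a (cyclotomic r F) = 0)
    (hodd : Odd (orderOf (Fintype.card F : ZMod r))) :
    2 * orderOf (Fintype.card F : ZMod r) ∣ finrank F V ∧ Plus Q ⊤ := by
  obtain ⟨hsf, -, -, hi0, -⟩ := poly_facts (F := F) (r := r) hr
  set i := orderOf (Fintype.card F : ZMod r) with hi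
  set A := finrank F V / (2 * i) with hA
  have hdm := Nat.mod_add_div (finrank F V) (2 * i)
  have hlt := Nat.mod_lt (finrank F V) (show 0 < 2 * i by omega)
  rw [← hA] at hdm
  obtain ⟨W, hW, hWts, hWd⟩ := exists_ts hG hr hr2 hag A (by rw [← hi]; omega) (Or.inr (Or.inl hodd))
  obtain ⟨C, hC, hWC⟩ := exists_compl hsf hag hW
  obtain ⟨hPN, hPd, -⟩ := ts_complement hG.nondeg hWts hWC
  have hP : Inv a (orth Q W ⊓ C) := (inv_orth hG hW).inf hC
  rw [hWd, ← hi] at hPd
  have e : 2 * (i * A) = 2 * i * A := by ring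
  have hP0 : finrank F (orth Q W ⊓ C : Submodule F V) = 0 := by
    by_contra h0
    have hgd := good_restrict hG hP hPN
    obtain ⟨W₁, -, hW₁ts, hW₁d⟩ := exists_ts_block hgd hr hr2 (SympConj.aeval_restrict hag hP)
      (Or.inl ⟨hodd, Nat.pos_of_ne_zero h0⟩)
    have := Quad.two_mul_finrank_le hgd.nondeg hW₁ts
    rw [hW₁d, ← hi] at this
    omega
  refine ⟨⟨A, by omega⟩, W, le_top, hWts, ?_⟩
  rw [finrank_top, hWd, ← hi]
  omega

/-- For even order the type is given by the number of blocks. -/
theorem plus_iff_of_even (hG : QGood Q a) (hr : (r : F) ≠ 0) (hag : aeval a (cyclotomic r F) = 0)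
    (har : a ^ r = 1) (heven : Even (orderOf (Fintype.card F : ZMod r))) :
    Plus Q ⊤ ↔ Even (finrank F V / orderOf (Fintype.card F : ZMod r)) := by
  classical
  obtain ⟨-, -, -, hi0, -⟩ := poly_facts (F := F) (r := r) hr
  obtain ⟨N, hN⟩ := dvd_dim hr hag
  obtain ⟨h, hh⟩ := heven
  set i := orderOf (Fintype.card F : ZMod r) with hi
  rw [hN, Nat.mul_div_cancel_left _ hi0]
  rcases Nat.eq_zero_or_pos N with rfl | hN0
  · exact iff_of_true ⟨⊥, le_top, ts_bot, by rw [finrank_top, hN]; simp⟩ (by simp)
  set q := Fintype.card F with hq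
  haveI : Finite V := Module.finite_of_finite F
  letI : Fintype {x : V // Q x = 0} := Fintype.ofFinite _
  let φ : Function.End {x : V // Q x = 0} := fun x => ⟨a x.1, by rw [hG.pres, x.2]⟩
  have hpow : ∀ (k : ℕ) (x : {x : V // Q x = 0}), ((φ ^ k) x).1 = (a ^ k) x.1 := by
    intro k
    induction k with
    | zero => intro x; rfl
    | succ k ih =>
      intro x
      rw [pow_succ', pow_succ', Module.End.mul_apply, ← ih]
      rfl
  have hφ : φ ^ r ^ 1 = 1 := funext fun x => Subtype.ext (by rw [pow_one, hpow, har]; rfl)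
  have hfix : Fintype.card (Function.fixedPoints φ) = 1 := by
    refine Fintype.card_eq_one_iff.2 ⟨⟨⟨0, QuadraticMap.map_zero _⟩, Subtype.ext (map_zero a)⟩,
      fun x => Subtype.ext (Subtype.ext ?_)⟩
    exact fix_free hr hag (congrArg Subtype.val x.2)
  have hmod := Equiv.Perm.card_fixedPoints_modEq (p := r) (n := 1) hφ
  rw [hfix, ← Nat.card_eq_fintype_card, ← ZMod.natCast_eq_natCast_iff, Nat.cast_one] at hmod
  change ((Quad.zcard Q : ℕ) : ZMod r) = 1 at hmod
  have hqh : (q : ZMod r) ^ h = -1 := by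
    obtain ⟨s, hs⟩ := frobenius_inverse (F := F) (r := r) hh (by omega)
    have := congrArg (Nat.cast : ℕ → ZMod r) hs
    push_cast at this
    rw [ZMod.natCast_self, zero_mul] at this
    exact eq_neg_of_add_eq_zero_left this
  obtain ⟨k, hk⟩ : ∃ k, h * N = k + 1 := ⟨h * N - 1, by
    have : 0 < h * N := Nat.mul_pos (by omega) hN0
    omega⟩
  have hdim : finrank F V = 2 * (k + 1) := by rw [hN, ← hk, hh]; ring
  have hqk : (q : ZMod r) ^ (k + 1) = (-1) ^ N := by rw [← hk, pow_mul, hqh]
  have hq1 : (q : ZMod r) ≠ 1 := fun e => by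
    rw [hi, e, orderOf_one] at hh
    omega
  have h2r : (2 : ZMod r) ≠ 0 := fun e => by
    haveI := Fact.out (p := r.Prime)
    have h2 : r ∣ 2 := (ZMod.natCast_eq_zero_iff 2 r).1 (by exact_mod_cast e)
    have hr2' : r = 2 := (Nat.prime_dvd_prime_iff_eq Fact.out Nat.prime_two).1 h2
    subst hr2'
    have := (poly_facts (F := F) (r := 2) hr).2.2.2.2
    rw [← hi] at this
    have := Nat.le_of_dvd (by norm_num) this
    omega
  have hsign : ((-1 : ZMod r) ^ N = 1 ↔ Even N) := by
    rcases Nat.even_or_odd N with he | ho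
    · exact iff_of_true he.neg_one_pow he
    · refine iff_of_false (fun e => h2r ?_) (Nat.not_even_iff_odd.2 ho)
      rw [ho.neg_one_pow] at e
      linear_combination -e
  obtain ⟨ζ, hζ⟩ := Quad.exists_rootfree (F := F)
  have hab := Quad.rootfree_aniso hζ
  rcases Quad.even_cases hG.nondeg hdim with hiso | ⟨-, hiso⟩
  · have hp : Plus Q ⊤ := by
      obtain ⟨g, hg⟩ := hiso
      refine ⟨(Quad.stdSing (Fin 0 → F) (k + 1)).map g.toLinearMap, le_top, ?_, ?_⟩
      · rintro _ ⟨x, hx, rfl⟩
        rw [LinearEquiv.coe_coe, hg]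
        exact Quad.stdSing_singular _ _ x hx
      · rw [LinearEquiv.finrank_map_eq, Quad.finrank_stdSing, finrank_top, hdim]
    refine iff_of_true hp (hsign.1 ?_)
    have hz := congrArg (Nat.cast : ℕ → ZMod r) (Quad.zcard_plus (F := F) rfl k)
    rw [Quad.Iso.zcard_eq hiso] at hz
    push_cast at hz
    rw [hmod, ← hq] at hz
    have h3 : ((q : ZMod r) ^ (k + 1) - 1) * ((q : ZMod r) ^ k + 1) = 0 := by linear_combination -hz
    rcases mul_eq_zero.1 h3 with h4 | h4
    · rw [← hqk]; linear_combination h4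
    · by_contra hne
      have hne' : (-1 : ZMod r) ^ N = -1 := (neg_one_pow_eq_or (ZMod r) N).resolve_left hne
      refine hq1 ?_
      rw [pow_succ, hne'] at hqk
      linear_combination hqk * (-1) + (q : ZMod r) * h4
  · obtain ⟨g, hg⟩ := hiso 1 ζ hab
    have hnp : ¬ Plus Q ⊤ := by
      rintro ⟨X, -, hX, hXd⟩
      have := Quad.aniso_index (Quad.nondeg_binForm hab)
        (fun _ hz => by_contra fun h0 => Quad.binForm_ne_zero hab h0 hz) (k + 1 - 1) (X.map g.symm.toLinearMap) (by
          rintro _ ⟨x, hx, rfl⟩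
          rw [LinearEquiv.coe_coe, ← hg, LinearEquiv.apply_symm_apply]
          exact hX x hx)
      rw [LinearEquiv.finrank_map_eq] at this
      rw [finrank_top, hdim] at hXd
      omega
    refine iff_of_false hnp fun hev => ?_
    rw [hev.neg_one_pow] at hqk
    have hz := congrArg (Nat.cast : ℕ → ZMod r) (Quad.zcard_minus hab (F := F) rfl k)
    rw [Quad.Iso.zcard_eq (⟨g, hg⟩ : Quad.Iso (Quad.hyp (Quad.binForm 1 ζ) k) Q)] at hz
    push_cast at hz
    rw [hmod, ← hq, hqk] at hz
    have hqk' : (q : ZMod r) ^ k * q = 1 := by rw [← pow_succ]; exact hqk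
    have h3 : (q : ZMod r) ^ (2 * k + 1) = (q : ZMod r) ^ k := by
      rw [show 2 * k + 1 = (k + 1) + k by omega, pow_add, hqk, one_mul]
    rw [h3] at hz
    have h5 : (q : ZMod r) ^ k = 1 := mul_left_cancel₀ h2r (by linear_combination -hz)
    exact hq1 (by rw [h5, one_mul] at hqk'; exact hqk')

end Cfsg.Agent.Classical.OrthElem
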