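import Cfsg.Agent.Classical.OrthElem.Basic

/-!
# The two types of even-dimensional non-degenerate subspaces
-/

set_option autoImplicit false

namespace Cfsg.Agent.Classical.OrthElem

open Module QuadraticMap
open Cfsg.Agent.Classical.Quad (sqForm zeroForm binForm hyp Iso)
open Cfsg.Agent.Classical.SympElem (lift_le finrank_lift)

universe u v w

variable {F : Type u} [Field F] {V : Type v} [AddCommGroup V] [Module F V] {Q : QuadraticForm F V}

/-- The subspace has maximal Witt index. -/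
def Plus (Q : QuadraticForm F V) (U : Submodule F V) : Prop :=
  ∃ W : Submodule F V, W ≤ U ∧ TS Q W ∧ 2 * finrank F W = finrank F U

theorem plus_bot : Plus Q (⊥ : Submodule F V) := ⟨⊥, le_rfl, ts_bot, by simp⟩

theorem plus_qres {U : Submodule F V} : Plus (qres Q U) ⊤ ↔ Plus Q U := by
  constructor
  · rintro ⟨W, -, hW, hd⟩
    exact ⟨W.map U.subtype, lift_le W, ts_lift hW, by rw [finrank_lift, hd, finrank_top]⟩
  · rintro ⟨W, hle, hW, hd⟩
    refine ⟨W.comap U.subtype, le_top, ts_comap hW, ?_⟩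
    rw [finrank_top, ← finrank_lift (W.comap U.subtype), Submodule.map_comap_subtype, inf_comm,
      inf_of_le_left hle, hd]

/-- The span of two vectors. -/
def pairSpan (x y : V) : Submodule F V := Submodule.span F {x} ⊔ Submodule.span F {y}

theorem mem_pairSpan {x y z : V} : z ∈ pairSpan (F := F) x y ↔ ∃ s t : F, s • x + t • y = z := by
  simp only [pairSpan, Submodule.mem_sup, Submodule.mem_span_singleton]
  exact ⟨fun ⟨_, ⟨s, hs⟩, _, ⟨t, ht⟩, h⟩ => ⟨s, t, by rw [hs, ht, h]⟩,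
    fun ⟨s, t, h⟩ => ⟨_, ⟨s, rfl⟩, _, ⟨t, rfl⟩, h⟩⟩

theorem left_mem_pairSpan (x y : V) : x ∈ pairSpan (F := F) x y :=
  mem_pairSpan.2 ⟨1, 0, by simp⟩

theorem right_mem_pairSpan (x y : V) : y ∈ pairSpan (F := F) x y :=
  mem_pairSpan.2 ⟨0, 1, by simp⟩

theorem pairSpan_le {x y : V} {U : Submodule F V} (hx : x ∈ U) (hy : y ∈ U) : pairSpan x y ≤ U :=
  sup_le ((Submodule.span_singleton_le_iff_mem _ _).2 hx) ((Submodule.span_singleton_le_iff_mem _ _).2 hy)

/-- A pair with non-singular Gram matrix. -/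
theorem ndon_pairSpan {x y : V} (h : polar Q x x * polar Q y y - polar Q x y * polar Q x y ≠ 0) :
    NdOn Q (pairSpan (F := F) x y) ∧ finrank F (pairSpan (F := F) x y) = 2 := by
  have key : ∀ s t : F, s * polar Q x x + t * polar Q x y = 0 → s * polar Q x y + t * polar Q y y = 0 →
      s = 0 ∧ t = 0 := fun s t h1 h2 =>
    ⟨(mul_eq_zero.1 (by linear_combination polar Q y y * h1 - polar Q x y * h2 :
        s * (polar Q x x * polar Q y y - polar Q x y * polar Q x y) = 0)).resolve_right h,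
      (mul_eq_zero.1 (by linear_combination polar Q x x * h2 - polar Q x y * h1 :
        t * (polar Q x x * polar Q y y - polar Q x y * polar Q x y) = 0)).resolve_right h⟩
  constructor
  · intro z hz h0
    obtain ⟨s, t, rfl⟩ := mem_pairSpan.1 hz
    by_contra hc
    push Not at hc
    obtain ⟨rfl, rfl⟩ := key s t
      (by simpa [polar_add_left, polar_smul_left, smul_eq_mul, polar_comm Q y x] using hc x (left_mem_pairSpan x y))
      (by simpa [polar_add_left, polar_smul_left, smul_eq_mul] using hc y (right_mem_pairSpan x y))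
    simp at h0
  · have hli : LinearIndependent F ![x, y] := LinearIndependent.pair_iff.2 fun s t hst => by
      refine key s t ?_ ?_
      · have := congrArg (fun z => polar Q z x) hst
        simpa [polar_add_left, polar_smul_left, smul_eq_mul, polar_comm Q y x] using this
      · have := congrArg (fun z => polar Q z y) hst
        simpa [polar_add_left, polar_smul_left, smul_eq_mul] using this
    have he : pairSpan (F := F) x y = Submodule.span F (Set.range ![x, y]) := by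
      rw [pairSpan, ← Submodule.span_union]
      congr 1
      ext z
      simp
    rw [he, finrank_span_eq_card hli, Fintype.card_fin]

theorem ndon_hyp {e f : V} (he : Q e = 0) (hf : Q f = 0) (hef : polar Q e f = 1) :
    NdOn Q (pairSpan (F := F) e f) ∧ finrank F (pairSpan (F := F) e f) = 2 ∧
      Plus Q (pairSpan (F := F) e f) := by
  obtain ⟨h1, h2⟩ := ndon_pairSpan (Q := Q) (x := e) (y := f) (by
    rw [Quad.polar_self', Quad.polar_self', he, hf, hef]; simp)
  refine ⟨h1, h2, Submodule.span F {e}, le_sup_left, ts_span_singleton he, ?_⟩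
  rw [finrank_span_singleton (fun h0 => by simp [h0] at hef), h2]

variable [FiniteDimensional F V]

theorem two_mul_le_of_ts {U W : Submodule F V} (hU : NdOn Q U) (hle : W ≤ U) (hW : TS Q W) :
    2 * finrank F W ≤ finrank F U := by
  have h := Quad.two_mul_finrank_le (nondeg_qres hU) (W := W.comap U.subtype) (fun w hw => hW _ hw)
  rwa [← finrank_lift (W.comap U.subtype), Submodule.map_comap_subtype, inf_comm, inf_of_le_left hle] at h

theorem exists_sub_dim {W : Submodule F V} {k : ℕ} (hk : k ≤ finrank F W) :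
    ∃ X : Submodule F V, X ≤ W ∧ finrank F X = k := by
  let b := Module.finBasis F W
  let g : Fin k → V := fun i => b (Fin.castLE hk i)
  have hv : LinearIndependent F g :=
    (b.linearIndependent.map' W.subtype W.ker_subtype).comp _ (Fin.castLE_injective hk)
  refine ⟨Submodule.span F (Set.range g), Submodule.span_le.2 ?_,
    by rw [finrank_span_eq_card hv, Fintype.card_fin]⟩
  rintro _ ⟨i, rfl⟩
  exact (b _).2

theorem exists_pair_in {U : Submodule F V} (hU : NdOn Q U) {e : V} (he : e ∈ U) (he0 : e ≠ 0)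
    (hQe : Q e = 0) : ∃ f ∈ U, Q f = 0 ∧ polar Q e f = 1 := by
  obtain ⟨f, hf, hef⟩ := Quad.exists_hyp_pair (nondeg_qres hU) (p := ⟨e, he⟩)
    (fun h => he0 (congrArg Subtype.val h)) hQe
  exact ⟨f, f.2, hf, hef⟩

theorem exists_aniso_vec {U : Submodule F V} (hU : NdOn Q U) (hne : U ≠ ⊥) : ∃ v ∈ U, Q v ≠ 0 := by
  by_contra hc
  push Not at hc
  obtain ⟨u, hu, hu0⟩ := U.exists_mem_ne_zero_of_ne_bot hne
  obtain ⟨y, hy, hne'⟩ := hU u hu hu0
  exact hne' (polar_zero_of_ts hc hu hy)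

variable [Finite F]

theorem exists_singular_in {U : Submodule F V} (h3 : 3 ≤ finrank F U) : ∃ v ∈ U, v ≠ 0 ∧ Q v = 0 := by
  obtain ⟨v, hv, hQ⟩ := Quad.exists_singular (qres Q U) h3
  exact ⟨v, v.2, fun h => hv (Subtype.ext h), hQ⟩

/-- A hyperbolic pair inside a large subspace. -/
theorem exists_hyp_in {U : Submodule F V} (hU : NdOn Q U) (h3 : 3 ≤ finrank F U) :
    ∃ e f : V, e ∈ U ∧ f ∈ U ∧ Q e = 0 ∧ Q f = 0 ∧ polar Q e f = 1 := by
  obtain ⟨e, he, he0, hQe⟩ := exists_singular_in (Q := Q) h3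
  obtain ⟨f, hf, hQf, hef⟩ := exists_pair_in hU he he0 hQe
  exact ⟨e, f, he, hf, hQe, hQf, hef⟩

theorem exists_ts_le (hQ : (polarBilin Q).Nondegenerate) : ∀ (k : ℕ) (U : Submodule F V), NdOn Q U →
    2 * k < finrank F U → ∃ W : Submodule F V, W ≤ U ∧ TS Q W ∧ finrank F W = k := by
  intro k
  induction k with
  | zero => exact fun U _ _ => ⟨⊥, bot_le, ts_bot, by simp⟩
  | succ k ih =>
    intro U hU hk
    obtain ⟨e, f, he, hf, hQe, hQf, hef⟩ := exists_hyp_in hU (by omega)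
    obtain ⟨hS, hSd, -⟩ := ndon_hyp hQe hQf hef
    obtain ⟨hU', -, hd⟩ := ndon_diff hQ hU hS (pairSpan_le he hf)
    obtain ⟨W, hle, hW, hWd⟩ := ih _ hU' (by omega)
    have hperp : W ≤ orth Q (pairSpan e f) := fun x hx => (hle hx).2
    have hperp' : W ≤ orth Q (Submodule.span F {e}) := fun x hx =>
      mem_orth.2 fun y hy => mem_orth.1 (hperp hx) y (Submodule.mem_sup_left hy)
    refine ⟨W ⊔ Submodule.span F {e}, sup_le (hle.trans inf_le_left) ((Submodule.span_singleton_le_iff_mem _ _).2 he),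
      ts_sup hW (ts_span_singleton hQe) hperp', ?_⟩
    have h1 := Submodule.finrank_sup_add_finrank_inf_eq W (Submodule.span F {e})
    have hd' : Disjoint W (Submodule.span F {e}) :=
      (disjoint_orth hS).symm.mono hperp le_sup_left
    rw [hd'.eq_bot, finrank_bot, finrank_span_singleton (fun h0 => by simp [h0] at hef), hWd] at h1
    omega

theorem exists_ts_of_plus {U : Submodule F V} (hU : Plus Q U) {k : ℕ} (hk : 2 * k ≤ finrank F U) :
    ∃ W : Submodule F V, W ≤ U ∧ TS Q W ∧ finrank F W = k := by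
  obtain ⟨W, hle, hW, hd⟩ := hU
  obtain ⟨X, hX, hXd⟩ := exists_sub_dim (W := W) (k := k) (by omega)
  exact ⟨X, hX.trans hle, ts_mono hX hW, hXd⟩

omit [Finite F] in
theorem plus_sup {U₁ U₂ : Submodule F V} (h₂ : NdOn Q U₂) (h : U₁ ≤ orth Q U₂) (p₁ : Plus Q U₁)
    (p₂ : Plus Q U₂) : Plus Q (U₁ ⊔ U₂) := by
  obtain ⟨W₁, l₁, t₁, d₁⟩ := p₁
  obtain ⟨W₂, l₂, t₂, d₂⟩ := p₂
  have hperp : W₁ ≤ orth Q W₂ := fun x hx => mem_orth.2 fun y hy => mem_orth.1 (h (l₁ hx)) y (l₂ hy)
  refine ⟨W₁ ⊔ W₂, sup_le_sup l₁ l₂, ts_sup t₁ t₂ hperp, ?_⟩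
  have h1 := Submodule.finrank_sup_add_finrank_inf_eq W₁ W₂
  rw [((disjoint_orth h₂).symm.mono (l₁.trans h) l₂).eq_bot, finrank_bot] at h1
  rw [finrank_sup_orth h₂ h]
  omega

theorem not_plus_sup (hQ : (polarBilin Q).Nondegenerate) {U₁ U₂ : Submodule F V} (h₁ : NdOn Q U₁)
    (h₂ : NdOn Q U₂) (h : U₁ ≤ orth Q U₂) (p₁ : Plus Q U₁) (p₂ : ¬ Plus Q U₂) (he : Even (finrank F U₂)) :
    ¬ Plus Q (U₁ ⊔ U₂) := by
  rintro ⟨X, hXle, hX, hXd⟩
  obtain ⟨k, hk⟩ := he
  have hk0 : 0 < k := Nat.pos_of_ne_zero fun h0 => p₂ ⟨⊥, bot_le, ts_bot, by simp [hk, h0]⟩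
  obtain ⟨W₁, l₁, t₁, d₁⟩ := p₁
  obtain ⟨W₂, l₂, t₂, d₂⟩ := exists_ts_le hQ (k - 1) U₂ h₂ (by omega)
  set U := U₁ ⊔ U₂
  have hU : NdOn Q U := ndon_sup h₁ h₂ h
  have hperp : W₁ ≤ orth Q W₂ := fun x hx => mem_orth.2 fun y hy => mem_orth.1 (h (l₁ hx)) y (l₂ hy)
  have hdim : finrank F (W₁ ⊔ W₂ : Submodule F V) = finrank F W₁ + (k - 1) := by
    have h1 := Submodule.finrank_sup_add_finrank_inf_eq W₁ W₂
    rwa [((disjoint_orth h₂).symm.mono (l₁.trans h) l₂).eq_bot, finrank_bot, d₂, add_zero] at h1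
  have hmax : ∀ Y : Submodule F V, Y ≤ U → TS Q Y → W₁ ⊔ W₂ ≤ Y → Y = W₁ ⊔ W₂ := by
    intro Y hYU hY hle
    refine le_antisymm (fun y hy => ?_) hle
    obtain ⟨u₁, hu₁, u₂, hu₂, rfl⟩ := Submodule.mem_sup.1 (hYU hy)
    have hu₁W : u₁ ∈ W₁ := by
      have hle' : W₁ ⊔ Submodule.span F {u₁} ≤ U₁ := sup_le l₁ ((Submodule.span_singleton_le_iff_mem _ _).2 hu₁)
      have hperp' : ∀ w ∈ W₁, polar Q u₁ w = 0 := fun w hw => by
        have := polar_zero_of_ts hY hy (hle (Submodule.mem_sup_left hw))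
        rwa [polar_add_left, polar_comm Q u₂ w, mem_orth.1 (h (l₁ hw)) u₂ hu₂, add_zero] at this
      -- the orthogonal of a maximal totally singular subspace inside is itself
      have horth : U₁ ⊓ orth Q W₁ = W₁ := by
        refine (Submodule.eq_of_le_of_finrank_le (le_inf l₁ fun x hx => mem_orth.2 fun y hy' =>
          polar_zero_of_ts t₁ hx hy') ?_).symm
        let T : U₁ →ₗ[F] Module.Dual F W₁ :=
          (LinearMap.lcomp F F W₁.subtype).comp ((polarBilin Q).comp U₁.subtype)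
        have hker : (LinearMap.ker T).map U₁.subtype = U₁ ⊓ orth Q W₁ := by
          ext x
          simp only [Submodule.mem_map, LinearMap.mem_ker, Submodule.mem_inf, mem_orth]
          constructor
          · rintro ⟨u, hu, rfl⟩
            exact ⟨u.2, fun w hw => LinearMap.congr_fun hu ⟨w, hw⟩⟩
          · rintro ⟨hx, hx'⟩
            exact ⟨⟨x, hx⟩, LinearMap.ext fun w => hx' w w.2, rfl⟩
        have hsurj : LinearMap.range T = ⊤ := by
          rw [eq_top_iff]
          intro φ _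
          obtain ⟨ψ, hψ⟩ := LinearMap.exists_extend
            (φ.comp (Submodule.comapSubtypeEquivOfLe l₁).toLinearMap : (W₁.comap U₁.subtype) →ₗ[F] F)
          refine ⟨(LinearMap.BilinForm.toDual (polarBilin (qres Q U₁)) (nondeg_qres h₁)).symm ψ, ?_⟩
          refine LinearMap.ext fun w => ?_
          have e1 := LinearMap.BilinForm.apply_toDual_symm_apply (hB := nondeg_qres h₁) (f := ψ)
            (⟨(w : V), l₁ w.2⟩ : U₁)
          have e2 := LinearMap.congr_fun hψ ⟨⟨(w : V), l₁ w.2⟩, w.2⟩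
          exact e1.trans (e2.trans (by simp [Submodule.comapSubtypeEquivOfLe]))
        have e := LinearMap.finrank_range_add_finrank_ker T
        rw [hsurj, finrank_top, Subspace.dual_finrank_eq, ← finrank_lift (LinearMap.ker T), hker] at e
        omega
      rw [← horth]
      exact ⟨hu₁, mem_orth.2 hperp'⟩
    have hu₂Y : u₂ ∈ Y := by
      have := Y.sub_mem hy (hle (Submodule.mem_sup_left hu₁W))
      rwa [add_sub_cancel_left] at this
    have hu₂W : u₂ ∈ W₂ := by
      by_contra hn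
      refine p₂ ⟨W₂ ⊔ Submodule.span F {u₂}, sup_le l₂ ((Submodule.span_singleton_le_iff_mem _ _).2 hu₂),
        ts_mono (sup_le (le_sup_right.trans hle) ((Submodule.span_singleton_le_iff_mem _ _).2 hu₂Y)) hY, ?_⟩
      have h1 := Submodule.finrank_sup_add_finrank_inf_eq W₂ (Submodule.span F {u₂})
      have hdis : Disjoint W₂ (Submodule.span F {u₂}) := Submodule.disjoint_span_singleton_of_notMem hn
      rw [hdis.eq_bot, finrank_bot, finrank_span_singleton (fun h0 => hn (by rw [h0]; exact W₂.zero_mem)), d₂] at h1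
      omega
    exact Submodule.add_mem_sup hu₁W hu₂W
  have hle12 : W₁ ⊔ W₂ ≤ U := sup_le_sup l₁ l₂
  have e := Quad.finrank_eq_of_maximal (nondeg_qres hU) (W₁ := (W₁ ⊔ W₂).comap U.subtype)
    (W₂ := X.comap U.subtype) (fun w hw => ts_sup t₁ t₂ hperp _ hw) (fun w hw => hX _ hw) (fun Y hY hYs => by
      have := hmax (Y.map U.subtype) (lift_le Y) (ts_lift hYs)
        (fun x hx => ⟨⟨x, hle12 hx⟩, hY hx, rfl⟩)
      rw [← this, Submodule.comap_map_eq_of_injective U.injective_subtype]) (by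
      rw [← finrank_lift ((W₁ ⊔ W₂).comap U.subtype), ← finrank_lift (X.comap U.subtype),
        Submodule.map_comap_subtype, Submodule.map_comap_subtype, inf_of_le_right hle12, inf_of_le_right hXle, hdim]
      rw [finrank_sup_orth h₂ h] at hXd
      omega)
  rw [← finrank_lift ((W₁ ⊔ W₂).comap U.subtype), ← finrank_lift (X.comap U.subtype),
    Submodule.map_comap_subtype, Submodule.map_comap_subtype, inf_of_le_right hle12, inf_of_le_right hXle, hdim] at e
  rw [finrank_sup_orth h₂ h] at hXd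
  omega

/-- Removing a hyperbolic plane does not change the type. -/
theorem plus_diff_iff (hQ : (polarBilin Q).Nondegenerate) {U : Submodule F V} (hU : NdOn Q U) {e f : V}
    (he : e ∈ U) (hf : f ∈ U) (hQe : Q e = 0) (hQf : Q f = 0) (hef : polar Q e f = 1)
    (hev : Even (finrank F U)) : Plus Q (U ⊓ orth Q (pairSpan e f)) ↔ Plus Q U := by
  obtain ⟨hS, hSd, hSp⟩ := ndon_hyp hQe hQf hef
  obtain ⟨hU', hsup, hd⟩ := ndon_diff hQ hU hS (pairSpan_le he hf)
  constructor
  · intro hp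
    have := plus_sup (Q := Q) hS inf_le_right hp hSp
    rwa [hsup] at this
  · intro hp
    by_contra hn
    refine not_plus_sup hQ hS hU' (orth_le inf_le_right) hSp hn ?_ (by rwa [sup_comm, hsup])
    rw [Nat.even_iff] at hev ⊢
    omega

theorem binary_iso {U : Submodule F V} (hU : NdOn Q U) (hd : finrank F U = 2) (hp : ¬ Plus Q U) {ζ : F}
    (hζ : ∀ t : F, t ^ 2 + t + ζ ≠ 0) : Iso (binForm 1 ζ) (qres Q U) := by
  refine Quad.exists_binary_basis (nondeg_qres hU) (fun z hz => ?_) hd hζ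
  by_contra h0
  exact hp ⟨Submodule.span F {(z : V)}, (Submodule.span_singleton_le_iff_mem _ _).2 z.2,
    ts_span_singleton hz, by rw [finrank_span_singleton (fun h => h0 (Subtype.ext h)), hd]⟩

/-- Two elliptic spaces form a hyperbolic one. -/
theorem plus_sup_of_not (hQ : (polarBilin Q).Nondegenerate) : ∀ (s : ℕ) {U₁ U₂ : Submodule F V},
    finrank F U₁ + finrank F U₂ ≤ s → NdOn Q U₁ → NdOn Q U₂ → U₁ ≤ orth Q U₂ → Even (finrank F U₁) →
      Even (finrank F U₂) → ¬ Plus Q U₁ → ¬ Plus Q U₂ → Plus Q (U₁ ⊔ U₂) := by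
  intro s
  induction s using Nat.strong_induction_on with
  | _ s ih =>
    intro U₁ U₂ hs h₁ h₂ h e₁ e₂ p₁ p₂
    have pos : ∀ {U : Submodule F V}, ¬ Plus Q U → 0 < finrank F U := fun {U} hp =>
      Nat.pos_of_ne_zero fun h0 => hp ⟨⊥, bot_le, ts_bot, by simp [h0]⟩
    have q₁ := pos p₁
    have q₂ := pos p₂
    by_cases hbig : 3 ≤ finrank F U₁
    · obtain ⟨e, f, he, hf, hQe, hQf, hef⟩ := exists_hyp_in h₁ hbig
      obtain ⟨hS, hSd, hSp⟩ := ndon_hyp hQe hQf hef
      obtain ⟨hU', hsup, hd⟩ := ndon_diff hQ h₁ hS (pairSpan_le he hf)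
      have hp' : ¬ Plus Q (U₁ ⊓ orth Q (pairSpan e f)) := fun hp =>
        p₁ ((plus_diff_iff hQ h₁ he hf hQe hQf hef e₁).1 hp)
      have hev : Even (finrank F (U₁ ⊓ orth Q (pairSpan e f) : Submodule F V)) := by
        rw [Nat.even_iff] at e₁ ⊢; omega
      have hp := ih (s - 1) (by omega) (by omega) hU' h₂ (inf_le_left.trans h) hev e₂ hp' p₂
      have hperp : (U₁ ⊓ orth Q (pairSpan e f)) ⊔ U₂ ≤ orth Q (pairSpan e f) :=
        sup_le inf_le_right ((orth_le h).trans fun x hx =>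
          mem_orth.2 fun y hy => mem_orth.1 hx y (pairSpan_le he hf hy))
      have := plus_sup (Q := Q) hS hperp hp hSp
      rwa [sup_assoc, sup_comm U₂, ← sup_assoc, hsup] at this
    by_cases hbig₂ : 3 ≤ finrank F U₂
    · obtain ⟨e, f, he, hf, hQe, hQf, hef⟩ := exists_hyp_in h₂ hbig₂
      obtain ⟨hS, hSd, hSp⟩ := ndon_hyp hQe hQf hef
      obtain ⟨hU', hsup, hd⟩ := ndon_diff hQ h₂ hS (pairSpan_le he hf)
      have hp' : ¬ Plus Q (U₂ ⊓ orth Q (pairSpan e f)) := fun hp =>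
        p₂ ((plus_diff_iff hQ h₂ he hf hQe hQf hef e₂).1 hp)
      have hev : Even (finrank F (U₂ ⊓ orth Q (pairSpan e f) : Submodule F V)) := by
        rw [Nat.even_iff] at e₂ ⊢; omega
      have hp := ih (s - 1) (by omega) (by omega) h₁ hU'
        (fun x hx => mem_orth.2 fun y hy => mem_orth.1 (h hx) y hy.1) e₁ hev p₁ hp'
      have hperp : U₁ ⊔ (U₂ ⊓ orth Q (pairSpan e f)) ≤ orth Q (pairSpan e f) :=
        sup_le (h.trans fun x hx => mem_orth.2 fun y hy => mem_orth.1 hx y (pairSpan_le he hf hy)) inf_le_right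
      have := plus_sup (Q := Q) hS hperp hp hSp
      rwa [sup_assoc, hsup] at this
    -- two anisotropic planes
    have d₁ : finrank F U₁ = 2 := by rw [Nat.even_iff] at e₁; omega
    have d₂ : finrank F U₂ = 2 := by rw [Nat.even_iff] at e₂; omega
    obtain ⟨ζ, hζ⟩ := Quad.exists_rootfree (F := F)
    have hab := Quad.rootfree_aniso hζ
    obtain ⟨g₁, hg₁⟩ := binary_iso h₁ d₁ p₁ hζ
    obtain ⟨g₂, hg₂⟩ := binary_iso h₂ d₂ p₂ hζ
    haveI := Fintype.ofFinite F
    obtain ⟨z, hz⟩ := Quad.binForm_surjective hab (-1 : F)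
    let μ : F × F →ₗ[F] F × F :=
      { toFun := fun w => Quad.qmul 1 ζ z w
        map_add' := fun x y => by simp [Quad.qmul, Prod.ext_iff]; constructor <;> ring
        map_smul' := fun c x => by simp [Quad.qmul, Prod.ext_iff]; constructor <;> ring }
    let L : F × F →ₗ[F] V := U₁.subtype.comp (g₁.toLinearMap.comp μ) + U₂.subtype.comp g₂.toLinearMap
    have hL : Function.Injective L := (injective_iff_map_eq_zero L).2 fun x hx => by
      have e0 : ((g₂ x : U₂) : V) = -((g₁ (μ x) : U₁) : V) := eq_neg_of_add_eq_zero_right hx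
      have hz0 : ((g₂ x : U₂) : V) = 0 := Submodule.disjoint_def.1 (disjoint_orth h₂) _ (g₂ x).2
        (e0 ▸ h (U₁.neg_mem (g₁ (μ x)).2))
      exact g₂.map_eq_zero_iff.1 (Subtype.ext hz0)
    refine ⟨LinearMap.range L, ?_, ?_, ?_⟩
    · rintro _ ⟨x, rfl⟩
      exact Submodule.add_mem_sup (g₁ (μ x)).2 (g₂ x).2
    · rintro _ ⟨x, rfl⟩
      show Q (((g₁ (μ x) : U₁) : V) + ((g₂ x : U₂) : V)) = 0
      rw [Quad.map_add', mem_orth.1 (h (g₁ (μ x)).2) _ (g₂ x).2, ← qres_apply, hg₁, ← qres_apply, hg₂,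
        show μ x = Quad.qmul 1 ζ z x from rfl, Quad.binForm_qmul, hz]
      ring
    · rw [LinearMap.finrank_range_of_inj hL, Module.finrank_prod, Module.finrank_self, finrank_sup_orth h₂ h,
        d₁, d₂]

/-- The type of an orthogonal sum. -/
theorem plus_sup_iff (hQ : (polarBilin Q).Nondegenerate) {U₁ U₂ : Submodule F V} (h₁ : NdOn Q U₁)
    (h₂ : NdOn Q U₂) (h : U₁ ≤ orth Q U₂) (e₁ : Even (finrank F U₁)) (e₂ : Even (finrank F U₂)) :
    Plus Q (U₁ ⊔ U₂) ↔ (Plus Q U₁ ↔ Plus Q U₂) := by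
  by_cases p₁ : Plus Q U₁ <;> by_cases p₂ : Plus Q U₂
  · exact iff_of_true (plus_sup h₂ h p₁ p₂) (iff_of_true p₁ p₂)
  · exact iff_of_false (not_plus_sup hQ h₁ h₂ h p₁ p₂ e₂) fun hh => p₂ (hh.1 p₁)
  · rw [sup_comm]
    exact iff_of_false (not_plus_sup hQ h₂ h₁ (orth_le h) p₂ p₁ e₁) fun hh => p₁ (hh.2 p₂)
  · exact iff_of_true (plus_sup_of_not hQ _ le_rfl h₁ h₂ h e₁ e₂ p₁ p₂) (iff_of_false p₁ p₂)

/-- An anisotropic plane. -/
theorem exists_aniso_plane (hQ : (polarBilin Q).Nondegenerate) {U : Submodule F V} (hU : NdOn Q U)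
    (h3 : 3 ≤ finrank F U) : ∃ P : Submodule F V, P ≤ U ∧ NdOn Q P ∧ finrank F P = 2 ∧ ¬ Plus Q P := by
  obtain ⟨e, f, he, hf, hQe, hQf, hef⟩ := exists_hyp_in hU h3
  obtain ⟨hS, hSd, -⟩ := ndon_hyp hQe hQf hef
  obtain ⟨hU', -, hd⟩ := ndon_diff hQ hU hS (pairSpan_le he hf)
  obtain ⟨u, hu, hQu⟩ := exists_aniso_vec hU' (fun h0 => by rw [h0, finrank_bot] at hd; omega)
  obtain ⟨ζ, hζ⟩ := Quad.exists_rootfree (F := F)
  obtain ⟨α, γ, hαγ⟩ : ∃ α γ : F, α * (1 - α) + γ * γ * Q u = ζ := by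
    by_cases h2 : (2 : F) = 0
    · haveI : CharP F 2 := CharTwo.of_one_ne_zero_of_two_eq_zero one_ne_zero h2
      obtain ⟨γ, hγ⟩ := FiniteField.isSquare_of_char_two (F := F) (ringChar.eq F 2) (ζ / Q u)
      exact ⟨0, γ, by rw [← hγ]; field_simp; ring⟩
    · haveI := Fintype.ofFinite F
      obtain ⟨α, γ, h⟩ := FiniteField.exists_root_sum_quadratic
        (f := Polynomial.C (-1 : F) * Polynomial.X ^ 2 + Polynomial.C 1 * Polynomial.X + Polynomial.C (-ζ))
        (g := Polynomial.C (Q u) * Polynomial.X ^ 2 + Polynomial.C 0 * Polynomial.X + Polynomial.C 0)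
        (Polynomial.degree_quadratic (by norm_num)) (Polynomial.degree_quadratic hQu)
        (FiniteField.odd_card_of_char_ne_two fun hc => h2 (by
          haveI : CharP F 2 := hc ▸ ringChar.charP F
          exact CharTwo.two_eq_zero))
      simp at h
      exact ⟨α, γ, by linear_combination h⟩
  have hue : polar Q e u = 0 := by
    rw [polar_comm]; exact mem_orth.1 hu.2 e (left_mem_pairSpan e f)
  have huf : polar Q f u = 0 := by
    rw [polar_comm]; exact mem_orth.1 hu.2 f (right_mem_pairSpan e f)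
  set x := e + f with hx
  set y := α • e + (1 - α) • f + γ • u with hy
  have hxx : Q x = 1 := by rw [hx, Quad.map_add', hQe, hQf, hef]; ring
  have hyy : Q y = ζ := by
    rw [hy, Quad.map_add', Quad.map_add', Quad.map_smul', Quad.map_smul', Quad.map_smul', polar_add_left,
      polar_smul_left, polar_smul_left, polar_smul_left, polar_smul_right, polar_smul_right, polar_smul_right, hQe,
      hQf, hef, hue, huf]
    simp only [smul_eq_mul]
    linear_combination hαγ
  have hxy : polar Q x y = 1 := by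
    rw [hx, hy]
    simp only [polar_add_left, polar_add_right, polar_smul_right, smul_eq_mul, Quad.polar_self', hQe, hQf, hef,
      polar_comm Q f e, hue, huf]
    ring
  have hQs : ∀ s t : F, Q (s • x + t • y) = s ^ 2 + 1 * s * t + ζ * t ^ 2 := fun s t => by
    rw [Quad.map_add', Quad.map_smul', Quad.map_smul', polar_smul_left, polar_smul_right, hxx, hyy, hxy]
    simp only [smul_eq_mul]
    ring
  obtain ⟨hN, hd2⟩ := ndon_pairSpan (Q := Q) (x := x) (y := y) (by
    rw [Quad.polar_self', Quad.polar_self', hxx, hyy, hxy]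
    intro h0
    have hnd := Quad.disc_ne_zero (Quad.rootfree_aniso hζ)
    refine hnd ?_
    linear_combination -h0)
  have hyU : y ∈ U := U.add_mem (U.add_mem (U.smul_mem _ he) (U.smul_mem _ hf)) (U.smul_mem _ hu.1)
  refine ⟨pairSpan x y, pairSpan_le (U.add_mem he hf) hyU, hN, hd2, ?_⟩
  rintro ⟨W, hle, hW, hWd⟩
  rw [hd2] at hWd
  obtain ⟨w, hw, hw0⟩ := W.exists_mem_ne_zero_of_ne_bot (fun h0 => by rw [h0, finrank_bot] at hWd; omega)
  obtain ⟨s, t, rfl⟩ := mem_pairSpan.1 (hle hw)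
  obtain ⟨rfl, rfl⟩ := Quad.rootfree_aniso hζ s t (by rw [← hQs]; exact hW _ hw)
  simp at hw0

/-- Subspaces of both types and of any smaller even dimension. -/
theorem exists_sub_type (hQ : (polarBilin Q).Nondegenerate) {U : Submodule F V} (hU : NdOn Q U) (P : Prop) :
    ∀ k, (0 < k ∧ 2 * k < finrank F U ∨ (k = 0 ∧ P)) →
      ∃ W : Submodule F V, W ≤ U ∧ NdOn Q W ∧ finrank F W = 2 * k ∧ (Plus Q W ↔ P) := by
  intro k
  induction k generalizing U with
  | zero =>
    rintro (h | ⟨-, hP⟩)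
    · omega
    · exact ⟨⊥, bot_le, ndon_bot, by simp, iff_of_true plus_bot hP⟩
  | succ k ih =>
    rintro (⟨-, hk⟩ | ⟨h, -⟩)
    swap
    · omega
    rcases Nat.eq_zero_or_pos k with rfl | hk0
    · by_cases hP : P
      · obtain ⟨e, f, he, hf, hQe, hQf, hef⟩ := exists_hyp_in hU (by omega)
        obtain ⟨hS, hSd, hSp⟩ := ndon_hyp hQe hQf hef
        exact ⟨_, pairSpan_le he hf, hS, by rw [hSd], iff_of_true hSp hP⟩
      · obtain ⟨S, hle, hS, hSd, hSp⟩ := exists_aniso_plane hQ hU (by omega)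
        exact ⟨S, hle, hS, by rw [hSd], iff_of_false hSp hP⟩
    obtain ⟨e, f, he, hf, hQe, hQf, hef⟩ := exists_hyp_in hU (by omega)
    obtain ⟨hS, hSd, hSp⟩ := ndon_hyp hQe hQf hef
    obtain ⟨hU', -, hd⟩ := ndon_diff hQ hU hS (pairSpan_le he hf)
    obtain ⟨W, hle, hW, hWd, hWp⟩ := ih hU' (Or.inl ⟨hk0, by omega⟩)
    have hperp : W ≤ orth Q (pairSpan e f) := hle.trans inf_le_right
    refine ⟨W ⊔ pairSpan e f, sup_le (hle.trans inf_le_left) (pairSpan_le he hf), ndon_sup hW hS hperp,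
      by rw [finrank_sup_orth hS hperp, hWd, hSd]; ring, ?_⟩
    rw [plus_sup_iff hQ hW hS hperp ⟨k, by omega⟩ ⟨1, by omega⟩, hWp]
    exact ⟨fun h => h.2 hSp, fun h => iff_of_true h hSp⟩

/-- Even-dimensional spaces of the same dimension and type are isometric. -/
theorem iso_of_plus {W : Type w} [AddCommGroup W] [Module F W] [FiniteDimensional F W]
    {R : QuadraticForm F W} (hQ : (polarBilin Q).Nondegenerate) (hR : (polarBilin R).Nondegenerate) {k : ℕ}
    (h1 : finrank F V = 2 * k) (h2 : finrank F W = 2 * k) (h : Plus Q ⊤ ↔ Plus R ⊤) : Iso Q R := by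
  obtain ⟨ζ, hζ⟩ := Quad.exists_rootfree (F := F)
  have hab := Quad.rootfree_aniso hζ
  rcases Quad.even_cases hQ h1 with hq | ⟨hk, hq⟩ <;> rcases Quad.even_cases hR h2 with hr | ⟨hk', hr⟩
  · exact hq.symm.trans hr
  · exfalso
    have hp : Plus Q ⊤ := by
      obtain ⟨g, hg⟩ := hq
      refine ⟨(Quad.stdSing (Fin 0 → F) k).map g.toLinearMap, le_top, ?_, ?_⟩
      · rintro _ ⟨x, hx, rfl⟩
        rw [LinearEquiv.coe_coe, hg]
        exact Quad.stdSing_singular _ k x hx
      · rw [LinearEquiv.finrank_map_eq, Quad.finrank_stdSing, finrank_top, h1]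
    obtain ⟨g, hg⟩ := hr 1 ζ hab
    obtain ⟨X, -, hX, hXd⟩ := h.1 hp
    have := Quad.aniso_index (Quad.nondeg_binForm hab)
      (fun _ hz => by_contra fun h0 => Quad.binForm_ne_zero hab h0 hz) (k - 1) (X.map g.symm.toLinearMap) (by
        rintro _ ⟨x, hx, rfl⟩
        rw [LinearEquiv.coe_coe, ← hg, LinearEquiv.apply_symm_apply]
        exact hX x hx)
    rw [LinearEquiv.finrank_map_eq] at this
    rw [finrank_top, h2] at hXd
    omega
  · exfalso
    have hp : Plus R ⊤ := by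
      obtain ⟨g, hg⟩ := hr
      refine ⟨(Quad.stdSing (Fin 0 → F) k).map g.toLinearMap, le_top, ?_, ?_⟩
      · rintro _ ⟨x, hx, rfl⟩
        rw [LinearEquiv.coe_coe, hg]
        exact Quad.stdSing_singular _ k x hx
      · rw [LinearEquiv.finrank_map_eq, Quad.finrank_stdSing, finrank_top, h2]
    obtain ⟨g, hg⟩ := hq 1 ζ hab
    obtain ⟨X, -, hX, hXd⟩ := h.2 hp
    have := Quad.aniso_index (Quad.nondeg_binForm hab)
      (fun _ hz => by_contra fun h0 => Quad.binForm_ne_zero hab h0 hz) (k - 1) (X.map g.symm.toLinearMap) (by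
        rintro _ ⟨x, hx, rfl⟩
        rw [LinearEquiv.coe_coe, ← hg, LinearEquiv.apply_symm_apply]
        exact hX x hx)
    rw [LinearEquiv.finrank_map_eq] at this
    rw [finrank_top, h1] at hXd
    omega
  · exact (hq 1 ζ hab).symm.trans (hr 1 ζ hab)

end Cfsg.Agent.Classical.OrthElem
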